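import Mathlib
import Cfsg.Agent.Lib.Perm.Basic

/-! Derangement counting: `n |D| ≥ (r - 1) |G|`. -/

set_option autoImplicit false

namespace Cfsg.Agent.Lib.Recog

open MulAction

variable {G Ω : Type*} [Group G] [Finite G] [MulAction G Ω] [Finite Ω]

/-- Derangements. -/
def IsDer (Ω : Type*) {G : Type*} [Group G] [MulAction G Ω] (g : G) : Prop := ∀ x : Ω, g • x ≠ x

omit [Finite G] in
theorem isDer_iff {g : G} : IsDer Ω g ↔ Nat.card (fixedBy Ω g) = 0 := by
  rw [Finite.card_eq_zero_iff, Set.isEmpty_coe_sort, Set.eq_empty_iff_forall_notMem]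
  rfl

omit [Finite G] [Finite Ω] in
theorem IsDer.conj {g : G} (h : IsDer Ω g) (k : G) : IsDer Ω (k * g * k⁻¹) := by
  intro x hx
  apply h (k⁻¹ • x)
  have := congrArg (k⁻¹ • ·) hx
  simpa [mul_smul] using this

omit [Finite G] [Finite Ω] in
theorem IsDer.ne_one [Nonempty Ω] {g : G} (h : IsDer Ω g) : g ≠ 1 := by
  rintro rfl
  exact h (Classical.arbitrary Ω) (one_smul _ _)

theorem exists_isDer [IsPretransitive G Ω] (h : 2 ≤ Nat.card Ω) : ∃ g : G, IsDer Ω g := by
  classical
  have := Fintype.ofFinite G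
  by_contra hc
  push Not at hc
  have : Nonempty Ω := (Nat.card_pos_iff.1 (by omega)).1
  have h1 := Perm.sum_fixedBy (G := G) (X := Ω)
  have h2 : Nat.card (orbitRel.Quotient G Ω) = 1 := by
    rw [Nat.card_eq_one_iff_unique]
    exact ⟨(pretransitive_iff_subsingleton_quotient G Ω).1 inferInstance,
      ⟨Quotient.mk'' (Classical.arbitrary Ω)⟩⟩
  have h3 : ∑ g : G, 1 < ∑ g : G, Nat.card (fixedBy Ω g) := by
    refine Finset.sum_lt_sum (fun g _ => Nat.one_le_iff_ne_zero.2 fun e => hc g (isDer_iff.2 e))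
      ⟨1, Finset.mem_univ _, ?_⟩
    rw [Perm.card_fixedBy_one]; omega
  rw [h1, h2, one_mul, Finset.sum_const, smul_eq_mul, mul_one, Finset.card_univ,
    Nat.card_eq_fintype_card] at h3
  exact h3.false

/-- A proper subgroup has an element none of whose conjugates lie in it. -/
theorem exists_forall_conj_notMem {P : Subgroup G} (hP : P ≠ ⊤) :
    ∃ d : G, ∀ u : G, u⁻¹ * d * u ∉ P := by
  have h : 2 ≤ Nat.card (G ⧸ P) := by
    have h1 : P.index ≠ 1 := fun e => hP (Subgroup.index_eq_one.1 e)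
    have h2 : P.index ≠ 0 := Subgroup.index_ne_zero_of_finite
    rw [← Subgroup.index_eq_card]; omega
  obtain ⟨d, hd⟩ := exists_isDer (G := G) (Ω := G ⧸ P) h
  refine ⟨d, fun u hu => hd (u : G ⧸ P) ?_⟩
  change ((d * u : G) : G ⧸ P) = (u : G ⧸ P)
  rw [eq_comm, QuotientGroup.eq]
  rw [mul_assoc] at hu
  exact hu

variable [IsPretransitive G Ω]

/-- The counting identity. -/
theorem der_count [Fintype G] [Nonempty Ω] :
    (Nat.card Ω : ℤ) * Nat.card {g : G // IsDer Ω g} =
      ((Nat.card (orbitRel.Quotient G (Ω × Ω)) : ℤ) - 1) * Nat.card G +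
        ∑ g : G, if Nat.card (fixedBy Ω g) = 0 then 0 else
          ((Nat.card (fixedBy Ω g) : ℤ) - 1) * ((Nat.card Ω : ℤ) - Nat.card (fixedBy Ω g)) := by
  classical
  set n : ℤ := (Nat.card Ω : ℤ)
  set f : G → ℤ := fun g => (Nat.card (fixedBy Ω g) : ℤ)
  have e1 : ∑ g : G, f g = Nat.card G := by
    simp only [f, ← Nat.cast_sum, Perm.sum_fixedBy]
    have : Nat.card (orbitRel.Quotient G Ω) = 1 := by
      rw [Nat.card_eq_one_iff_unique]
      exact ⟨(pretransitive_iff_subsingleton_quotient G Ω).1 inferInstance,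
      ⟨Quotient.mk'' (Classical.arbitrary Ω)⟩⟩
    rw [this, one_mul]
  have e2 : ∑ g : G, f g * f g = Nat.card (orbitRel.Quotient G (Ω × Ω)) * Nat.card G := by
    simp only [f, ← Nat.cast_mul, ← Perm.card_fixedBy_prod, ← Nat.cast_sum, Perm.sum_fixedBy]
  have e3 : ∀ g : G, (if Nat.card (fixedBy Ω g) = 0 then 0 else (f g - 1) * (n - f g)) =
      (f g - 1) * (n - f g) + n * (if IsDer Ω g then 1 else 0) := by
    intro g
    by_cases h : Nat.card (fixedBy Ω g) = 0
    · simp only [f, h, if_pos (isDer_iff.2 h), if_true]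
      push_cast
      ring
    · rw [if_neg h, if_neg (fun h' => h (isDer_iff.1 h')), mul_zero, add_zero]
  have e4 : ∑ g : G, (f g - 1) * (n - f g) =
      (n + 1) * ∑ g : G, f g - ∑ g : G, f g * f g - n * Nat.card G := by
    rw [Nat.card_eq_fintype_card, Finset.mul_sum, ← Finset.sum_sub_distrib]
    rw [show n * (Fintype.card G : ℤ) = ∑ _g : G, n by simp [mul_comm]]
    rw [← Finset.sum_sub_distrib]
    exact Finset.sum_congr rfl fun g _ => by ring
  rw [Finset.sum_congr rfl fun g _ => e3 g, Finset.sum_add_distrib, e4, e1, e2, ← Finset.mul_sum,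
    Finset.sum_boole, Nat.card_eq_fintype_card (α := {g : G // IsDer Ω g}), Fintype.card_subtype]
  ring

theorem der_count_ge [Nonempty Ω] :
    ((Nat.card (orbitRel.Quotient G (Ω × Ω)) : ℤ) - 1) * Nat.card G ≤
      (Nat.card Ω : ℤ) * Nat.card {g : G // IsDer Ω g} := by
  classical
  have := Fintype.ofFinite G
  rw [der_count]
  refine le_add_of_nonneg_right (Finset.sum_nonneg fun g _ => ?_)
  split_ifs with h
  · rfl
  · refine mul_nonneg (by omega) ?_
    have : Nat.card (fixedBy Ω g) ≤ Nat.card Ω := Finite.card_subtype_le _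
    omega

theorem der_count_eq [Nonempty Ω] (h : (Nat.card Ω : ℤ) * Nat.card {g : G // IsDer Ω g} ≤
    ((Nat.card (orbitRel.Quotient G (Ω × Ω)) : ℤ) - 1) * Nat.card G) [FaithfulSMul G Ω] (g : G)
    (hg : g ≠ 1) : Nat.card (fixedBy Ω g) ≤ 1 := by
  classical
  have := Fintype.ofFinite G
  rw [der_count] at h
  have hle : ∀ x : G, Nat.card (fixedBy Ω x) ≤ Nat.card Ω := fun x => Finite.card_subtype_le _
  have h1 : ∀ x ∈ (Finset.univ : Finset G), (0 : ℤ) ≤ if Nat.card (fixedBy Ω x) = 0 then 0 else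
      ((Nat.card (fixedBy Ω x) : ℤ) - 1) * ((Nat.card Ω : ℤ) - Nat.card (fixedBy Ω x)) := by
    intro x _
    split_ifs with h0
    · rfl
    · exact mul_nonneg (by omega) (by have := hle x; omega)
  have h2 := (Finset.sum_eq_zero_iff_of_nonneg h1).1
    (le_antisymm (by omega) (Finset.sum_nonneg h1)) g (Finset.mem_univ _)
  by_contra h3
  rw [if_neg (by omega), mul_eq_zero] at h2
  have h4 : Nat.card (fixedBy Ω g) = Nat.card Ω := by omega
  apply hg
  apply FaithfulSMul.eq_of_smul_eq_smul (α := Ω)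
  intro x
  rw [one_smul]
  by_contra hx
  exact (Finite.card_subtype_lt (p := fun y => y ∈ fixedBy Ω g) hx).ne h4

end Cfsg.Agent.Lib.Recog
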