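import Mathlib

/-! Cayley–Hamilton facts for `SL₂`. -/

set_option autoImplicit false

namespace Cfsg.Agent.Lib.Recog

open Matrix

variable {F : Type*} [Field F]

theorem sl2_mul_self (A : SpecialLinearGroup (Fin 2) F) :
    (A : Matrix (Fin 2) (Fin 2) F) * (A : Matrix (Fin 2) (Fin 2) F) = (A : Matrix (Fin 2) (Fin 2) F).trace • (A : Matrix (Fin 2) (Fin 2) F) - 1 := by
  have h := (Matrix.det_fin_two (A : Matrix (Fin 2) (Fin 2) F)).symm.trans A.2
  ext i j
  fin_cases i <;> fin_cases j <;>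
    simp [Matrix.mul_apply, Fin.sum_univ_two, Matrix.trace_fin_two] <;> grind

/-- The coefficients `U` with `A ^ (n + 1) = U n • A - U (n - 1)`. -/
def chebU (t : F) : ℕ → F
  | 0 => 1
  | 1 => t
  | n + 2 => t * chebU t (n + 1) - chebU t n

theorem sl2_pow (A : SpecialLinearGroup (Fin 2) F) : ∀ n : ℕ,
    (A : Matrix (Fin 2) (Fin 2) F) ^ (n + 2) =
      chebU (A : Matrix (Fin 2) (Fin 2) F).trace (n + 1) • (A : Matrix (Fin 2) (Fin 2) F) -
        chebU (A : Matrix (Fin 2) (Fin 2) F).trace n • (1 : Matrix (Fin 2) (Fin 2) F)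
  | 0 => by simp [chebU, pow_two, sl2_mul_self]
  | n + 1 => by
    rw [show n + 1 + 2 = (n + 2) + 1 from rfl, pow_succ, sl2_pow A n, sub_mul, smul_mul_assoc,
      smul_mul_assoc, sl2_mul_self, one_mul]
    conv_rhs => rw [chebU]
    module

theorem sl2_pow_mem_center (A : SpecialLinearGroup (Fin 2) F) (n : ℕ)
    (h : chebU (A : Matrix (Fin 2) (Fin 2) F).trace (n + 1) = 0) :
    A ^ (n + 2) ∈ Subgroup.center (SpecialLinearGroup (Fin 2) F) := by
  rw [Subgroup.mem_center_iff]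
  intro B
  apply Subtype.ext
  simp [SpecialLinearGroup.coe_mul, SpecialLinearGroup.coe_pow, sl2_pow, h]

theorem sl2_pow_eq_one (A : SpecialLinearGroup (Fin 2) F) (n : ℕ)
    (h : chebU (A : Matrix (Fin 2) (Fin 2) F).trace (n + 1) = 0)
    (h' : chebU (A : Matrix (Fin 2) (Fin 2) F).trace n = -1) : A ^ (n + 2) = 1 := by
  apply Subtype.ext
  simp [SpecialLinearGroup.coe_pow, sl2_pow, h, h']

theorem sl2_trace_of_fixed (A : SpecialLinearGroup (Fin 2) F) (v : Fin 2 → F) (hv : v ≠ 0)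
    (h : (A : Matrix (Fin 2) (Fin 2) F) *ᵥ v = v) : (A : Matrix (Fin 2) (Fin 2) F).trace = 2 := by
  have hd : ((A : Matrix (Fin 2) (Fin 2) F) - 1).det = 0 :=
    Matrix.exists_mulVec_eq_zero_iff.1 ⟨v, hv, by rw [Matrix.sub_mulVec, h, Matrix.one_mulVec, sub_self]⟩
  have h1 := (Matrix.det_fin_two (A : Matrix (Fin 2) (Fin 2) F)).symm.trans A.2
  rw [Matrix.det_fin_two] at hd
  rw [Matrix.trace_fin_two]
  simp at hd
  linear_combination -hd + h1

theorem sl2_sq_of_fixed [CharP F 2] (A : SpecialLinearGroup (Fin 2) F) (v : Fin 2 → F) (hv : v ≠ 0)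
    (h : (A : Matrix (Fin 2) (Fin 2) F) *ᵥ v = v) : A ^ 2 = 1 := by
  apply sl2_pow_eq_one A 0
  · simp [chebU, sl2_trace_of_fixed A v hv h, CharTwo.two_eq_zero]
  · simp [chebU, CharTwo.neg_eq]

theorem sl2_center_eq_bot [CharP F 2] :
    Subgroup.center (SpecialLinearGroup (Fin 2) F) = ⊥ := by
  rw [eq_bot_iff]
  intro A hA
  obtain ⟨r, hr, hA'⟩ := Matrix.SpecialLinearGroup.mem_center_iff.1 hA
  rw [Fintype.card_fin] at hr
  have : r = 1 := CharTwo.sq_inj.1 (by simpa using hr) 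
  apply Subgroup.mem_bot.2
  apply Subtype.ext
  rw [← hA', this, map_one]
  rfl

theorem two_dvd_card_sl2 [Finite F] [CharP F 2] : 2 ∣ Nat.card (SpecialLinearGroup (Fin 2) F) := by
  let A : SpecialLinearGroup (Fin 2) F := ⟨!![1, 1; 0, 1], by simp [Matrix.det_fin_two]⟩
  have h1 : A ^ 2 = 1 := sl2_pow_eq_one A 0 (by simp [A, chebU, Matrix.trace_fin_two, CharTwo.add_self_eq_zero])
    (by simp [chebU, CharTwo.neg_eq])
  have h2 : A ≠ 1 := fun h => by
    have := congrArg (fun B : SpecialLinearGroup (Fin 2) F => (B : Matrix (Fin 2) (Fin 2) F) 0 1) h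
    simp [A] at this
  have : Fact (Nat.Prime 2) := ⟨Nat.prime_two⟩
  have h3 := orderOf_dvd_natCard A
  rwa [orderOf_eq_prime h1 h2] at h3

end Cfsg.Agent.Lib.Recog
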