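import Mathlib
import Cfsg.Agent.Lib.Recog.MinNormal
import Cfsg.Agent.Lib.Recog.FixCount

/-!
Primitive groups which are neither affine nor almost simple: two configurations and the
derangements they give.
-/

set_option autoImplicit false

namespace Cfsg.Agent.Lib.Recog

open Subgroup MulAction

variable {G Ω : Type*} [Group G] [MulAction G Ω]

/-- `G` is not almost simple. -/
def NotAS (G : Type*) [Group G] : Prop :=
  ¬ ∃ T : Subgroup G, T.Normal ∧ IsSimpleGroup T ∧ ¬ IsMulCommutative T ∧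
    Subgroup.centralizer (T : Set G) = ⊥

/-- No non-identity element of `T` fixes a point. -/
def ActsFreely (Ω : Type*) {G : Type*} [Group G] [MulAction G Ω] (T : Subgroup G) : Prop :=
  ∀ t ∈ T, ∀ x : Ω, t • x = x → t = 1

theorem ActsFreely.isDer {T : Subgroup G} (h : ActsFreely Ω T) {t : G} (ht : t ∈ T) (h1 : t ≠ 1) :
    IsDer Ω t := fun x hx => h1 (h t ht x hx)

theorem normal_transitive [IsPreprimitive G Ω] [FaithfulSMul G Ω] {N : Subgroup G} (hN : N.Normal)
    (h1 : N ≠ ⊥) : IsPretransitive N Ω := by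
  haveI := hN
  refine IsQuasiPreprimitive.isPretransitive_of_normal (G := G) fun he => h1 ?_
  rw [eq_bot_iff]
  intro n hn
  refine mem_bot.2 (FaithfulSMul.eq_of_smul_eq_smul (α := Ω) fun x => ?_)
  rw [one_smul]
  exact (Set.eq_univ_iff_forall.1 he x) ⟨n, hn⟩

theorem actsFreely_of_commute [FaithfulSMul G Ω] {A B : Subgroup G} (hB : IsPretransitive B Ω)
    (hc : ∀ a ∈ A, ∀ b ∈ B, a * b = b * a) : ActsFreely Ω A := by
  intro a ha x hx
  refine FaithfulSMul.eq_of_smul_eq_smul (α := Ω) fun y => ?_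
  obtain ⟨b, rfl⟩ := hB.exists_smul_eq x y
  rw [one_smul, Subgroup.smul_def, ← mul_smul, hc a ha b b.2, mul_smul, hx]

theorem not_pGroup_of_simple {T : Type*} [Group T] [Finite T] (hs : IsSimpleGroup T)
    (hna : ¬ IsMulCommutative T) (p : ℕ) [Fact p.Prime] : ¬ IsPGroup p T := by
  intro hp
  haveI := hs
  rcases hs.eq_bot_or_eq_top_of_normal (center T) inferInstance with e | e
  · haveI : Nontrivial T := hs.toNontrivial
    have := hp.center_nontrivial
    exact (Subgroup.nontrivial_iff_ne_bot _).1 this e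
  · exact hna ⟨⟨fun a b => (mem_center_iff.1 (e ▸ mem_top b) a)⟩⟩

theorem exists_orderOf_prime_ne {T : Subgroup G} [Finite T] (hs : IsSimpleGroup T)
    (hna : ¬ IsMulCommutative T) (p : ℕ) :
    ∃ q : ℕ, q.Prime ∧ q ≠ p ∧ ∃ t ∈ T, orderOf t = q := by
  haveI : Nontrivial T := hs.toNontrivial
  by_contra h
  push Not at h
  have key : ∀ q : ℕ, q.Prime → q ∣ Nat.card T → q = p := by
    intro q hq hd
    by_contra hne
    haveI : Fact q.Prime := ⟨hq⟩
    obtain ⟨y, hy⟩ := exists_prime_orderOf_dvd_card' q hd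
    exact h q hq hne y y.2 ((Subgroup.orderOf_coe y).trans hy)
  obtain ⟨q, hq, hd⟩ := Nat.exists_prime_and_dvd (Finite.one_lt_card (α := T)).ne'
  have hp : p.Prime := key q hq hd ▸ hq
  haveI : Fact p.Prime := ⟨hp⟩
  refine not_pGroup_of_simple hs hna p (IsPGroup.of_card (n := (Nat.card T).primeFactorsList.length) ?_)
  exact (Nat.eq_prime_pow_of_unique_prime_dvd Nat.card_pos.ne' fun {d} hd1 hd2 => key d hd1 hd2)

theorem exists_orderOf_prime {T : Subgroup G} [Finite T] (h : T ≠ ⊥) :
    ∃ q : ℕ, q.Prime ∧ ∃ t ∈ T, orderOf t = q := by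
  haveI : Nontrivial T := T.nontrivial_iff_ne_bot.2 h
  obtain ⟨q, hq, hd⟩ := Nat.exists_prime_and_dvd (Finite.one_lt_card (α := T)).ne'
  haveI : Fact q.Prime := ⟨hq⟩
  obtain ⟨y, hy⟩ := exists_prime_orderOf_dvd_card' q hd
  exact ⟨q, hq, y, y.2, (Subgroup.orderOf_coe y).trans hy⟩

theorem commute_cancel_right {d w t : G} (h : d * w * t = t * (d * w)) (hw : t * w = w * t) :
    d * t = t * d := by
  have : d * t * w = t * d * w := by rw [mul_assoc d, hw, ← mul_assoc, h, ← mul_assoc]
  exact mul_right_cancel this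

theorem commute_cancel_left {d w s : G} (h : d * w * s = s * (d * w)) (hd : d * s = s * d) :
    w * s = s * w := by
  have : d * (w * s) = d * (s * w) := by rw [← mul_assoc, h, ← mul_assoc, ← hd, mul_assoc]
  exact mul_left_cancel this

/-- Two commuting subgroups acting freely: elements of different orders give derangements. -/
theorem orderOf_eq_of_smul_eq {A B : Subgroup G} (hA : ActsFreely Ω A) (hB : ActsFreely Ω B)
    (hc : ∀ a ∈ A, ∀ b ∈ B, a * b = b * a) {a b : G} (ha : a ∈ A) (hb : b ∈ B) {x : Ω}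
    (h : (a * b) • x = x) : orderOf a = orderOf b := by
  have hpow : ∀ k : ℕ, (a ^ k * b ^ k) • x = x := by
    intro k
    rw [← (show Commute a b from hc a ha b hb).mul_pow]
    induction k with
    | zero => simp
    | succ k ih => rw [pow_succ, mul_smul, h, ih]
  apply Nat.dvd_antisymm
  · apply orderOf_dvd_of_pow_eq_one
    have := hpow (orderOf b)
    rw [pow_orderOf_eq_one, mul_one] at this
    exact hA _ (pow_mem ha _) x this
  · apply orderOf_dvd_of_pow_eq_one
    have := hpow (orderOf a)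
    rw [pow_orderOf_eq_one, one_mul] at this
    exact hB _ (pow_mem hb _) x this

/-- Configuration (free): a simple factor acting freely, with a free partner. -/
def FreeConfig (Ω : Type*) (G : Type*) [Group G] [MulAction G Ω] : Prop :=
  ∃ T U : Subgroup G, IsSimpleGroup T ∧ ¬ IsMulCommutative T ∧ U ≠ ⊥ ∧ ActsFreely Ω T ∧
    ActsFreely Ω U ∧ ∀ a ∈ T, ∀ b ∈ U, a * b = b * a

/-- The projection to `T` of a point stabilizer. -/
def proj (N T : Subgroup G) (hN : N ≤ normalizer (T : Set G)) (α : Ω) : Subgroup G where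
  carrier := {t | t ∈ T ∧ ∃ c ∈ IsFactor.rest N T, (t * c) • α = α}
  one_mem' := ⟨one_mem _, 1, one_mem _, by simp⟩
  mul_mem' := by
    rintro t s ⟨ht, c, hc, hα⟩ ⟨hs, d, hd, hβ⟩
    refine ⟨mul_mem ht hs, c * d, mul_mem hc hd, ?_⟩
    have : t * s * (c * d) = (t * c) * (s * d) := by
      rw [mul_assoc t c, ← mul_assoc c s, ← hc.2 s hs]; group
    rw [this, mul_smul, hβ, hα]
  inv_mem' := by
    rintro t ⟨ht, c, hc, hα⟩
    refine ⟨inv_mem ht, c⁻¹, inv_mem hc, ?_⟩
    have : t⁻¹ * c⁻¹ = (t * c)⁻¹ := by rw [← mul_inv_rev, ← hc.2 t ht]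
    rw [this, inv_smul_eq_iff, hα]

theorem mem_proj {N T : Subgroup G} {hN : N ≤ normalizer (T : Set G)} {α : Ω} {t : G} :
    t ∈ proj N T hN α ↔ t ∈ T ∧ ∃ c ∈ IsFactor.rest N T, (t * c) • α = α := Iff.rfl

/-- Configuration (product): a factor with proper projection of the stabilizer and a conjugate
different from it. -/
def ProdConfig (Ω : Type*) (G : Type*) [Group G] [MulAction G Ω] : Prop :=
  ∃ (N T : Subgroup G) (g₀ : G) (d : G), IsFactor N T ∧ cj g₀ T ≠ T ∧ d ∈ T ∧
    ∀ c ∈ IsFactor.rest N T, IsDer Ω (d * c)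

theorem configs [Finite G] [Finite Ω] [IsPreprimitive G Ω] [FaithfulSMul G Ω] [Nonempty Ω]
    (hnas : NotAS G) {N : Subgroup G} (hN : IsMinNormal N) (hna : ¬ IsMulCommutative N) :
    FreeConfig Ω G ∨ ProdConfig Ω G := by
  obtain ⟨T, hT⟩ := hN.exists_factor hna
  have hNt := normal_transitive (Ω := Ω) hN.1 hN.2.1
  let α : Ω := Classical.arbitrary Ω
  by_cases hk : ∀ g : G, cj g T = T
  · have hNT : N = T := by rw [hT.gen]; simp [hk]
    subst hNT
    left
    have hC : centralizer (N : Set G) ≠ ⊥ := fun h => hnas ⟨N, hN.1, hT.simple, hT.nonab, h⟩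
    haveI := hN.1
    have hCt := normal_transitive (Ω := Ω) (N := centralizer (N : Set G)) inferInstance hC
    refine ⟨N, centralizer (N : Set G), hT.simple, hT.nonab, hC,
      actsFreely_of_commute hCt fun a ha b hb => hb a ha,
      actsFreely_of_commute hNt fun b hb a ha => (hb a ha).symm, fun a ha b hb => hb a ha⟩
  · push Not at hk
    obtain ⟨g₀, hg₀⟩ := hk
    by_cases hP : proj N T hT.norm α = T
    · left
      have hTN : ∀ t ∈ T, ∀ c ∈ IsFactor.rest N T, t * c = c * t := fun t ht c hc => hc.2 t ht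
      have hM : ∀ t ∈ T, t • α = α → t = 1 := by
        let X : Subgroup G := T ⊓ stabilizer G α
        have hXn : N ≤ normalizer (X : Set G) := by
          intro n hn
          obtain ⟨u, hu, c, hc, rfl⟩ := hT.decomp hn
          rw [← hP, mem_proj] at hu
          obtain ⟨huT, c', hc', hfix⟩ := hu
          rw [mem_normalizer_iff]
          intro x
          have hfix' : u * c' ∈ stabilizer G α := hfix
          constructor
          · rintro ⟨hx, hxα⟩
            have e : u * c * x * (u * c)⁻¹ = (u * c') * x * (u * c')⁻¹ := by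
              have h1 : c * x * c⁻¹ = x := by rw [← hTN x hx c hc, mul_inv_cancel_right]
              have h2 : c' * x * c'⁻¹ = x := by rw [← hTN x hx c' hc', mul_inv_cancel_right]
              rw [show u * c * x * (u * c)⁻¹ = u * (c * x * c⁻¹) * u⁻¹ by group,
                show u * c' * x * (u * c')⁻¹ = u * (c' * x * c'⁻¹) * u⁻¹ by group, h1, h2]
            refine ⟨(mem_normalizer_iff.1 (hT.norm hn) x).1 hx, ?_⟩
            rw [e]
            exact (stabilizer G α).mul_mem ((stabilizer G α).mul_mem hfix' hxα)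
              ((stabilizer G α).inv_mem hfix')
          · rintro ⟨hx, hxα⟩
            have hxT : x ∈ T := (mem_normalizer_iff.1 (hT.norm hn) x).2 hx
            have e : u * c * x * (u * c)⁻¹ = (u * c') * x * (u * c')⁻¹ := by
              have h1 : c * x * c⁻¹ = x := by rw [← hTN x hxT c hc, mul_inv_cancel_right]
              have h2 : c' * x * c'⁻¹ = x := by rw [← hTN x hxT c' hc', mul_inv_cancel_right]
              rw [show u * c * x * (u * c)⁻¹ = u * (c * x * c⁻¹) * u⁻¹ by group,
                show u * c' * x * (u * c')⁻¹ = u * (c' * x * c'⁻¹) * u⁻¹ by group, h1, h2]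
            rw [SetLike.mem_coe, e] at hxα
            refine ⟨hxT, ?_⟩
            have := (stabilizer G α).mul_mem ((stabilizer G α).mul_mem
              ((stabilizer G α).inv_mem hfix') hxα) hfix'
            simpa [mul_assoc] using this
        rcases hT.atom X inf_le_left hXn with e | e
        · intro t ht hfix
          have : t ∈ X := ⟨ht, hfix⟩
          rwa [e, mem_bot] at this
        · exfalso
          have hTα : T ≤ stabilizer G α := inf_eq_left.1 e
          apply hT.nontrivial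
          rw [eq_bot_iff]
          intro t ht
          refine mem_bot.2 (FaithfulSMul.eq_of_smul_eq_smul (α := Ω) fun y => ?_)
          obtain ⟨n, hn⟩ := hNt.exists_smul_eq α y
          have h2 : (n : G)⁻¹ * t * n ∈ T := (mem_normalizer_iff''.1 (hT.norm n.2) t).1 ht
          have h3 : ((n : G)⁻¹ * t * n) • α = α := hTα h2
          rw [one_smul, ← hn, Subgroup.smul_def]
          have := congrArg ((n : G) • ·) h3
          simpa [← mul_smul, mul_assoc] using this
      have hfree : ActsFreely Ω T := by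
        intro t ht y hy
        obtain ⟨n, hn⟩ := hNt.exists_smul_eq α y
        have h2 : (n : G)⁻¹ * t * n ∈ T := (mem_normalizer_iff''.1 (hT.norm n.2) t).1 ht
        have h3 := hM _ h2 (by
          rw [← hn, Subgroup.smul_def] at hy
          rw [mul_smul, mul_smul, hy, inv_smul_smul])
        have := congrArg (fun z => (n : G) * z * (n : G)⁻¹) h3
        simpa [mul_assoc] using this
      refine ⟨T, cj g₀ T, hT.simple, hT.nonab, ?_, hfree, ?_, fun a ha b hb =>
        (hT.cj_le_rest hg₀ hb).2 a ha⟩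
      · intro h
        exact hT.nontrivial (cj_inj (g := g₀) (h.trans (Subgroup.map_bot _).symm))
      · intro b hb y hy
        have := hfree _ (mem_cj.1 hb) (g₀⁻¹ • y) (by
          rw [← mul_smul, mul_assoc, mul_inv_cancel, mul_one, mul_smul, hy])
        have := congrArg (fun z => g₀ * z * g₀⁻¹) this
        simpa [mul_assoc] using this
    · right
      have hne : (proj N T hT.norm α).subgroupOf T ≠ ⊤ := by
        rw [Ne, subgroupOf_eq_top]
        exact fun h => hP (le_antisymm (fun t ht => ht.1) h)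
      obtain ⟨⟨d, hd⟩, hd'⟩ := exists_forall_conj_notMem hne
      refine ⟨N, T, g₀, d, hT, hg₀, hd, fun c hc x hx => ?_⟩
      obtain ⟨n, hn⟩ := hNt.exists_smul_eq α x
      obtain ⟨u, hu, e, he, hne⟩ := hT.decomp n.2
      apply hd' ⟨u, hu⟩
      rw [mem_subgroupOf, mem_proj]
      refine ⟨by exact mul_mem (mul_mem (inv_mem hu) hd) hu, (n : G)⁻¹ * c * n, hT.rest_conj n.2 hc, ?_⟩
      have h1 : ((n : G)⁻¹ * (d * c) * n) • α = α := by
        rw [Subgroup.smul_def] at hn
        rw [mul_smul, hn, mul_smul, hx, ← hn, inv_smul_smul]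
      convert h1 using 2
      change u⁻¹ * d * u * ((n : G)⁻¹ * c * n) = _
      have hcomm : e⁻¹ * (u⁻¹ * d * u) * e = u⁻¹ * d * u := by
        rw [mul_assoc, he.2 _ (mul_mem (mul_mem (inv_mem hu) hd) hu), inv_mul_cancel_left]
      calc u⁻¹ * d * u * ((n : G)⁻¹ * c * n)
          = (e⁻¹ * (u⁻¹ * d * u) * e) * ((n : G)⁻¹ * c * n) := by rw [hcomm]
        _ = (n : G)⁻¹ * (d * c) * n := by rw [hne]; group

theorem FreeConfig.three [Finite G] (h : FreeConfig Ω G) :
    ∃ a b c : G, IsDer Ω a ∧ IsDer Ω b ∧ IsDer Ω c ∧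
      ∀ g : G, g * a * g⁻¹ ≠ b ∧ g * a * g⁻¹ ≠ c ∧ g * b * g⁻¹ ≠ c := by
  obtain ⟨T, U, hs, hna, hU, hfT, hfU, hc⟩ := h
  obtain ⟨r, hr, u, hu, hur⟩ := exists_orderOf_prime hU
  obtain ⟨p, hp, hpr, x, hx, hxp⟩ := exists_orderOf_prime_ne hs hna r
  obtain ⟨q, hq, hqp, y, hy, hyq⟩ := exists_orderOf_prime_ne hs hna p
  have hx1 : x ≠ 1 := fun e => by rw [e, orderOf_one] at hxp; exact hp.one_lt.ne hxp
  have hy1 : y ≠ 1 := fun e => by rw [e, orderOf_one] at hyq; exact hq.one_lt.ne hyq
  have hord : orderOf (x * u) = p * r := by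
    rw [(show Commute x u from hc x hx u hu).orderOf_mul_eq_mul_orderOf_of_coprime
      (by rw [hxp, hur]; exact (Nat.coprime_primes hp hr).2 hpr), hxp, hur]
  refine ⟨x, y, x * u, hfT.isDer hx hx1, hfT.isDer hy hy1, fun z hz => hpr ?_, fun g => ?_⟩
  · rw [← hxp, ← hur]; exact orderOf_eq_of_smul_eq hfT hfU hc hx hu hz
  · have conjord : ∀ z : G, orderOf (g * z * g⁻¹) = orderOf z := fun z =>
      orderOf_injective (MulAut.conj g).toMonoidHom (MulAut.conj g).injective z
    refine ⟨fun e => hqp ?_, fun e => ?_, fun e => ?_⟩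
    · rw [← hyq, ← e, conjord, hxp]
    · have := (conjord x).symm.trans (e ▸ hord)
      rw [hxp] at this
      exact (Nat.not_prime_mul hp.one_lt.ne' hr.one_lt.ne') (this ▸ hp)
    · have := (conjord y).symm.trans (e ▸ hord)
      rw [hyq] at this
      exact (Nat.not_prime_mul hp.one_lt.ne' hr.one_lt.ne') (this ▸ hq)

theorem FreeConfig.not_p [Finite G] (h : FreeConfig Ω G) (p : ℕ) (hp : p.Prime) :
    ∃ a : G, IsDer Ω a ∧ ∀ k, orderOf a ≠ p ^ k := by
  obtain ⟨T, U, hs, hna, hU, hfT, hfU, hc⟩ := h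
  obtain ⟨q, hq, hqp, x, hx, hxq⟩ := exists_orderOf_prime_ne hs hna p
  refine ⟨x, hfT.isDer hx fun e => by rw [e, orderOf_one] at hxq; exact hq.one_lt.ne hxq,
    fun k hk => hqp ?_⟩
  rw [hxq] at hk
  exact (Nat.prime_dvd_prime_iff_eq hq hp).1 (hq.dvd_of_dvd_pow (dvd_of_eq hk))

theorem ProdConfig.three [Finite G] [Nonempty Ω] (h : ProdConfig Ω G) :
    ∃ a b c : G, IsDer Ω a ∧ IsDer Ω b ∧ IsDer Ω c ∧
      ∀ g : G, g * a * g⁻¹ ≠ b ∧ g * a * g⁻¹ ≠ c ∧ g * b * g⁻¹ ≠ c := by
  obtain ⟨N, T, g₀, d, hT, hg₀, hd, hder⟩ := h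
  have hle : cj g₀ T ≤ IsFactor.rest N T := hT.cj_le_rest hg₀
  obtain ⟨p, hp, -, x, hx, hxp⟩ := exists_orderOf_prime_ne hT.simple hT.nonab 0
  obtain ⟨q, hq, hqp, y, hy, hyq⟩ := exists_orderOf_prime_ne hT.simple hT.nonab p
  have conjord : ∀ g z : G, orderOf (g * z * g⁻¹) = orderOf z := fun g z =>
    orderOf_injective (MulAut.conj g).toMonoidHom (MulAut.conj g).injective z
  set U := cj g₀ T with hU
  set u := g₀ * x * g₀⁻¹ with hudef
  set v := g₀ * y * g₀⁻¹ with hvdef
  have hu : u ∈ U := conj_mem_cj hx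
  have hv : v ∈ U := conj_mem_cj hy
  have ou : orderOf u = p := (conjord _ _).trans hxp
  have ov : orderOf v = q := (conjord _ _).trans hyq
  have hu1 : u ≠ 1 := fun e => by rw [e, orderOf_one] at ou; exact hp.one_lt.ne ou
  have hv1 : v ≠ 1 := fun e => by rw [e, orderOf_one] at ov; exact hq.one_lt.ne ov
  have hd1 : d ≠ 1 := by
    have := hder 1 (one_mem _)
    rw [mul_one] at this
    exact this.ne_one
  have htr : ∀ z : G, z ∈ U → (∀ s ∈ U, z * s = s * z) → z = 1 := by
    intro z hz hzc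
    have h1 := hT.center_trivial (mem_cj.1 hz) (fun t ht => by
      have := congrArg (fun w => g₀⁻¹ * w * g₀) (hzc _ (conj_mem_cj (g := g₀) ht))
      simpa [mul_assoc] using this)
    have := congrArg (fun w => g₀ * w * g₀⁻¹) h1
    simpa [mul_assoc] using this
  -- conjugates of `T` not centralized by `d * w`
  have cent : ∀ w ∈ U, ∀ k : G, cj k T ≠ T → cj k T ≠ U → ∀ s ∈ cj k T, (d * w) * s = s * (d * w) := by
    intro w hw k h1 h2 s hs
    have e1 := hT.cj_comm 1 k (by rw [cj_one]; exact h1.symm) d (by rwa [cj_one]) s hs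
    have e2 := hT.cj_comm g₀ k (fun e => h2 e.symm) w hw s hs
    rw [mul_assoc, e2, ← mul_assoc, e1, mul_assoc]
  have single : ∀ w ∈ U, w ≠ 1 → ∀ g : G, g * d * g⁻¹ ≠ d * w := by
    intro w hw hw1 g e
    have hmem : g * d * g⁻¹ ∈ cj g T := conj_mem_cj hd
    have c1 : ∀ k : G, cj k T ≠ cj g T → ∀ s ∈ cj k T, (d * w) * s = s * (d * w) :=
      fun k hk s hs => by rw [← e]; exact hT.cj_comm g k (Ne.symm hk) _ hmem s hs
    by_cases hgT : cj g T = T
    · apply hw1
      apply htr w hw
      intro s hs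
      have := c1 g₀ (hgT.symm ▸ hg₀) s hs
      exact commute_cancel_left this ((hle hs).2 d hd)
    · apply hd1
      apply hT.center_trivial hd
      intro t ht
      have := c1 1 (by rw [cj_one]; exact Ne.symm hgT) t (by rwa [cj_one])
      exact commute_cancel_right this ((hle hw).2 t ht)
  refine ⟨d, d * u, d * v, by simpa using hder 1 (one_mem _), hder u (hle hu), hder v (hle hv),
    fun g => ⟨single u hu hu1 g, single v hv hv1 g, fun e => ?_⟩⟩
  -- `g` maps the pair `{T, U}` to itself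
  have notc : ∀ k : G, (cj k T = T ∨ cj k T = U) →
      ¬ ∀ s ∈ cj k T, (d * u) * s = s * (d * u) := by
    rintro k (hk | hk) hall <;> rw [hk] at hall
    · apply hd1; apply hT.center_trivial hd
      intro t ht
      exact commute_cancel_right (hall t ht) ((hle hu).2 t ht)
    · apply hu1; apply htr u hu
      intro s hs
      exact commute_cancel_left (hall s hs) ((hle hs).2 d hd)
  have maps : ∀ k : G, (cj k T = T ∨ cj k T = U) → cj (g * k) T = T ∨ cj (g * k) T = U := by
    intro k hk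
    by_contra hne
    rw [not_or] at hne
    apply notc k hk
    intro s hs
    have := cent v hv (g * k) hne.1 hne.2 (g * s * g⁻¹) (by rw [cj_mul]; exact conj_mem_cj hs)
    rw [← e] at this
    have := congrArg (fun w => g⁻¹ * w * g) this
    simpa [mul_assoc] using this
  have h1 := maps 1 (Or.inl (cj_one T))
  rw [mul_one] at h1
  have h2 : cj g U = T ∨ cj g U = U := by
    rw [hU, ← cj_mul]; exact maps g₀ (Or.inr rfl)
  have e' : (g * d * g⁻¹) * (g * u * g⁻¹) = d * v := by rw [← e]; group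
  rcases h1 with h1 | h1
  · have h2' : cj g U = U := h2.resolve_left fun h => hg₀ (cj_inj (h.trans h1.symm))
    have := (hT.decomp_unique (h1 ▸ conj_mem_cj hd) hd (hle (h2' ▸ conj_mem_cj hu)) (hle hv) e').2
    exact hqp (by rw [← ov, ← this, conjord, ou])
  · have h2' : cj g U = T := h2.resolve_right fun h => hg₀ (cj_inj (h.trans h1.symm))
    have hgu : g * u * g⁻¹ ∈ T := h2' ▸ conj_mem_cj hu
    have hgd : g * d * g⁻¹ ∈ IsFactor.rest N T := hle (h1 ▸ conj_mem_cj hd)
    have := hT.decomp_unique hgu hd hgd (hle hv) (by rw [← e', hgd.2 _ hgu])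
    have a1 : orderOf d = p := by rw [← this.1, conjord, ou]
    have a2 : orderOf d = q := by rw [← conjord g d, this.2, ov]
    exact hqp (a2.symm.trans a1)

theorem ProdConfig.not_p [Finite G] (h : ProdConfig Ω G) (p : ℕ) (hp : p.Prime) :
    ∃ a : G, IsDer Ω a ∧ ∀ k, orderOf a ≠ p ^ k := by
  obtain ⟨N, T, g₀, d, hT, hg₀, hd, hder⟩ := h
  by_cases hdp : ∀ k, orderOf d ≠ p ^ k
  · exact ⟨d, by simpa using hder 1 (one_mem _), hdp⟩
  push Not at hdp
  obtain ⟨j, hj⟩ := hdp
  obtain ⟨q, hq, hqp, y, hy, hyq⟩ := exists_orderOf_prime_ne hT.simple hT.nonab p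
  have hv : g₀ * y * g₀⁻¹ ∈ IsFactor.rest N T := hT.cj_le_rest hg₀ (conj_mem_cj hy)
  refine ⟨d * (g₀ * y * g₀⁻¹), hder _ hv, fun k hk => hqp ?_⟩
  have ov : orderOf (g₀ * y * g₀⁻¹) = q :=
    (orderOf_injective (MulAut.conj g₀).toMonoidHom (MulAut.conj g₀).injective y).trans hyq
  rw [(show Commute d _ from hv.2 d hd).orderOf_mul_eq_mul_orderOf_of_coprime (by
    rw [hj, ov]; exact Nat.Coprime.pow_left _ ((Nat.coprime_primes hp hq).2 hqp.symm)), ov] at hk
  exact (Nat.prime_dvd_prime_iff_eq hq hp).1 (hq.dvd_of_dvd_pow (Dvd.intro_left _ hk))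

end Cfsg.Agent.Lib.Recog
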