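import Mathlib
import Cfsg.Agent.Lib.Recog.PrimitiveFactor

/-! Abelian minimal normal subgroups of primitive groups. -/

set_option autoImplicit false

namespace Cfsg.Agent.Lib.Recog

open Subgroup MulAction

variable {G Ω : Type*} [Group G] [Finite G] [MulAction G Ω] [FaithfulSMul G Ω]
  [IsPreprimitive G Ω]

theorem abelian_normal_regular {N : Subgroup G} (hN : N.Normal) (h1 : N ≠ ⊥)
    (hc : IsMulCommutative N) :
    IsPretransitive N Ω ∧ ActsFreely Ω N ∧ ∀ a : Ω, stabilizer N a = ⊥ := by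
  have ht := normal_transitive (Ω := Ω) hN h1
  have hf : ActsFreely Ω N := actsFreely_of_commute ht fun a ha b hb =>
    congrArg Subtype.val (hc.is_comm.comm ⟨a, ha⟩ ⟨b, hb⟩)
  refine ⟨ht, hf, fun a => ?_⟩
  rw [eq_bot_iff]
  intro n hn
  exact Subgroup.mem_bot.2 (Subtype.ext (hf n n.2 a hn))

/-- Either an abelian regular normal subgroup, or almost simple, or one of the two
configurations. -/
theorem affine_or_configs [Finite Ω] [Nontrivial Ω] :
    (∃ (N : Subgroup G) (p : ℕ), p.Prime ∧ N.Normal ∧ N ≠ ⊥ ∧ IsMulCommutative N ∧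
      (∀ x ∈ N, x ^ p = 1) ∧ IsPretransitive N Ω ∧ ActsFreely Ω N ∧
      ∀ a : Ω, stabilizer N a = ⊥) ∨ ¬ NotAS G ∨ FreeConfig Ω G ∨ ProdConfig Ω G := by
  classical
  haveI : Nontrivial G := by
    obtain ⟨a, b, hab⟩ := exists_pair_ne Ω
    obtain ⟨g, hg⟩ := exists_smul_eq G a b
    exact ⟨⟨g, 1, fun e => hab (by rw [← hg, e, one_smul])⟩⟩
  obtain ⟨N, hN⟩ := exists_minNormal (G := G)
  by_cases hc : IsMulCommutative N
  · left
    obtain ⟨p, hp, hexp⟩ := hN.exists_prime_exp hc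
    obtain ⟨h1, h2, h3⟩ := abelian_normal_regular (Ω := Ω) hN.1 hN.2.1 hc
    exact ⟨N, p, hp, hN.1, hN.2.1, hc, hexp, h1, h2, h3⟩
  · right
    by_cases hAS : NotAS G
    · exact Or.inr (configs hAS hN hc)
    · exact Or.inl hAS

end Cfsg.Agent.Lib.Recog
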