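import Mathlib

/-! The 240 matrices over `F₇` of a group `2.S₅` acting without fixed points, with closure tables. -/

set_option autoImplicit false
set_option maxRecDepth 100000

namespace Cfsg.Agent.Lib.Recog.TwoSymFive

def elts : List (List ℕ) := [
    [1,0,0,0,0,1,0,0,0,0,1,0,0,0,0,1], [2,4,5,1,3,2,6,5,1,6,2,1,1,1,6,2],
    [1,5,6,4,5,6,4,1,2,6,2,1,6,5,1,5], [1,5,1,1,2,1,6,1,2,1,2,0,6,2,0,2],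
    [3,6,4,1,6,4,1,3,6,2,0,3,2,1,3,0], [6,5,1,5,5,1,5,6,4,5,0,1,5,3,1,0],
    [6,0,0,0,0,6,0,0,0,0,6,0,0,0,0,6], [5,0,1,1,0,5,6,1,2,1,6,2,6,2,5,6],
    [6,4,1,1,4,1,1,6,4,0,6,4,0,3,4,1], [1,0,2,4,0,6,4,5,0,3,4,1,3,0,1,3],
    [5,3,2,6,4,5,1,2,6,1,5,6,6,6,1,5], [5,3,1,0,3,2,0,6,3,6,0,3,6,4,3,0],
    [0,0,0,6,0,0,1,0,0,6,3,5,1,0,2,3], [6,2,1,3,2,1,3,6,5,1,5,6,1,2,6,2],
    [5,6,5,1,1,5,6,5,1,6,5,3,1,1,4,5], [6,1,5,5,1,1,5,2,3,6,2,4,6,4,4,5],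
    [5,4,6,1,4,2,1,1,4,0,0,4,0,3,4,0], [6,2,6,6,5,6,1,6,5,6,5,0,1,5,0,5],
    [1,6,5,4,6,6,4,2,0,3,4,0,3,0,0,3], [1,2,0,5,5,1,2,0,1,5,0,5,2,1,2,0],
    [4,1,3,6,1,3,6,4,1,5,0,4,5,6,4,0], [6,4,3,0,4,1,0,4,6,6,6,4,6,1,4,1],
    [1,0,2,3,0,1,4,2,2,3,3,5,4,2,2,3], [6,6,1,5,1,6,2,1,5,0,2,1,0,5,6,2],
    [1,2,6,2,2,6,2,1,3,2,0,6,2,4,6,0], [2,5,2,1,5,5,1,5,3,2,1,2,2,4,2,6],
    [4,5,6,5,5,3,5,1,2,5,2,1,5,5,1,5], [2,0,6,6,0,2,1,6,5,6,1,5,1,5,2,1],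
    [1,2,4,5,2,6,5,3,5,6,2,5,6,2,5,5], [1,6,3,0,1,1,0,3,0,5,0,1,2,0,6,0],
    [1,3,6,6,3,6,6,1,3,0,1,3,0,4,3,6], [1,1,5,2,1,6,2,2,6,2,5,5,2,1,5,2],
    [2,0,2,0,0,2,0,2,2,0,6,0,0,2,0,6], [6,6,5,0,1,6,0,5,1,5,2,1,2,1,6,2],
    [6,0,5,3,0,1,3,2,0,4,3,6,4,0,6,4], [6,1,4,1,1,1,1,3,5,6,4,1,6,2,1,3],
    [4,2,2,3,5,4,4,2,2,3,6,0,4,2,0,6], [0,5,6,2,2,0,5,6,0,2,1,2,5,0,5,1],
    [2,4,6,0,4,5,0,1,4,1,0,4,1,3,4,0], [1,5,0,5,2,1,2,0,6,5,0,2,2,6,5,0],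
    [5,6,4,0,6,2,0,3,1,0,0,6,0,6,6,0], [0,0,0,1,0,0,6,0,0,1,4,2,6,0,5,4],
    [1,3,1,3,3,6,3,6,1,3,6,4,3,6,4,1], [2,1,2,6,6,2,1,2,6,1,2,4,6,6,3,2],
    [6,4,1,3,4,1,3,6,1,3,1,3,3,6,3,6], [1,6,5,3,1,1,4,5,2,1,2,6,6,2,1,2],
    [1,6,2,2,6,6,2,5,4,1,5,3,1,3,3,2], [3,2,6,4,2,4,4,1,0,0,4,5,0,0,5,3],
    [0,3,6,0,4,0,0,6,6,0,0,4,0,6,3,0], [2,6,5,6,1,2,1,5,2,4,1,6,3,2,1,1],
    [2,3,1,6,3,5,6,6,3,0,0,3,0,4,3,0], [5,3,5,1,3,2,1,2,0,0,5,3,0,0,3,2],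
    [0,2,1,6,5,0,1,1,0,6,3,0,1,0,0,3], [6,6,0,4,1,6,3,0,3,2,1,1,5,3,6,1],
    [6,1,2,3,1,1,3,5,0,4,3,0,4,0,0,4], [0,3,6,6,4,0,1,6,6,6,3,2,1,6,5,3],
    [4,5,0,0,5,3,0,0,1,3,3,2,3,6,2,4], [6,5,0,2,2,6,5,0,6,2,0,2,5,6,5,0],
    [4,2,0,6,5,4,1,0,0,6,0,0,1,0,0,0], [5,0,5,1,0,5,6,5,5,1,5,2,6,5,5,5],
    [1,3,4,0,3,6,0,3,1,1,1,3,1,6,3,6], [2,6,5,0,1,2,0,5,2,5,5,1,2,2,6,5],
    [0,6,6,0,6,0,0,1,3,0,5,6,0,4,6,2], [6,0,5,4,0,6,3,5,5,4,4,2,3,5,5,4],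
    [1,5,2,1,2,1,6,2,1,1,2,0,6,1,0,2], [0,4,3,6,4,0,6,4,1,0,2,4,0,6,4,5],
    [4,0,6,4,0,3,4,1,1,3,6,6,3,6,6,1], [1,1,6,2,6,1,5,6,2,0,5,6,0,2,1,5],
    [1,5,1,2,5,6,2,6,0,1,3,2,1,0,2,4], [1,2,2,2,5,1,5,2,3,2,6,5,5,3,2,6],
    [5,2,5,6,2,2,6,2,4,5,6,5,5,3,5,1], [0,6,4,5,6,0,5,3,1,5,1,2,5,6,2,6],
    [4,5,1,2,2,4,5,1,1,2,2,2,5,1,5,2], [0,0,6,0,0,0,0,6,1,0,0,0,0,1,0,0],
    [3,2,1,2,2,4,2,6,5,2,5,6,2,2,6,2], [1,0,0,6,0,6,6,0,2,1,3,0,1,5,0,4],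
    [0,6,0,5,1,0,2,0,3,0,6,1,0,3,6,6], [1,0,2,0,0,1,0,2,2,0,5,0,0,2,0,5],
    [6,5,3,2,5,1,2,4,2,1,5,2,1,5,2,2], [5,0,1,0,0,5,0,1,2,0,2,0,0,2,0,2],
    [1,1,3,0,1,6,0,4,4,0,1,1,0,3,1,6], [6,1,4,0,6,6,0,4,0,2,0,6,5,0,1,0],
    [1,1,4,5,6,1,2,4,0,3,6,6,4,0,1,6], [6,2,1,2,5,6,5,1,0,2,0,5,5,0,2,0],
    [6,6,2,5,6,1,5,5,1,5,2,2,5,6,2,5], [6,5,6,2,2,6,5,6,0,2,0,2,5,0,5,0],
    [4,2,1,1,2,3,1,6,0,3,1,6,3,0,6,6], [5,0,5,0,0,5,0,5,5,0,1,0,0,5,0,1],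
    [0,6,3,5,1,0,2,3,0,0,0,1,0,0,6,0], [0,0,2,4,0,0,4,5,5,3,5,1,3,2,1,2],
    [2,5,1,1,5,5,1,6,2,2,6,2,2,5,2,1], [1,1,2,0,6,1,0,2,6,2,5,6,5,6,1,5],
    [6,5,5,5,2,6,2,5,4,5,1,2,2,4,5,1], [1,6,3,6,6,6,6,4,2,1,3,6,1,5,6,4],
    [2,2,6,5,5,2,2,6,6,5,4,5,2,6,2,4], [0,4,6,2,4,0,2,1,4,1,4,1,1,3,1,3],
    [3,5,5,4,2,3,3,5,5,4,1,0,3,5,0,1], [6,1,0,2,6,6,5,0,4,0,0,6,0,4,1,0],
    [3,6,6,1,6,4,1,1,3,6,5,6,6,4,6,2], [0,2,1,5,5,0,2,1,0,5,6,5,2,0,2,6],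
    [6,6,3,2,1,6,5,3,0,4,1,1,3,0,6,1], [1,3,3,2,3,6,2,4,3,2,0,0,2,4,0,0],
    [0,4,3,0,4,0,0,4,1,6,5,4,6,6,4,2], [6,2,0,2,5,6,5,0,1,2,0,5,5,1,2,0],
    [4,0,0,4,0,3,4,0,2,3,1,6,3,5,6,6], [5,6,5,0,1,5,0,5,1,5,1,1,2,1,6,1],
    [2,1,3,0,1,5,0,4,6,0,0,1,0,1,1,0], [6,1,0,3,1,1,3,0,1,1,3,5,1,6,5,4],
    [5,2,2,6,5,5,1,2,2,6,5,0,1,2,0,5], [5,1,5,3,6,5,4,5,2,1,6,1,6,2,6,6],
    [6,4,6,4,4,1,4,1,6,4,1,3,4,1,3,6], [6,6,4,2,6,1,2,3,6,1,0,3,1,1,3,0],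
    [5,1,2,0,6,5,0,2,5,2,2,6,5,5,1,2], [5,6,1,6,1,5,1,1,5,1,5,3,6,5,4,5],
    [1,3,6,4,3,6,4,1,6,4,6,4,4,1,4,1], [6,1,5,6,6,6,1,5,2,4,5,1,3,2,6,5],
    [5,1,5,6,1,2,6,2,1,5,6,4,5,6,4,1], [6,1,2,4,6,6,3,2,5,6,5,1,1,5,6,5],
    [2,0,5,6,0,2,1,5,6,6,1,5,1,6,2,1], [2,3,3,5,4,2,2,3,6,0,5,4,0,6,3,5],
    [4,5,1,3,5,3,3,6,0,0,3,2,0,0,2,4], [5,3,3,6,3,2,6,4,5,5,1,6,5,2,6,6],
    [0,4,1,0,3,0,0,1,1,0,0,3,0,1,4,0], [4,5,6,6,2,4,1,6,6,6,0,4,1,6,3,0],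
    [0,3,4,0,3,0,0,3,6,1,2,3,1,1,3,5], [5,1,2,1,6,5,6,2,5,3,6,1,4,5,6,6],
    [2,4,2,6,4,5,6,5,0,0,2,4,0,0,4,5], [0,1,0,0,6,0,0,0,4,2,0,6,5,4,1,0],
    [2,2,6,2,2,5,2,1,5,2,6,6,2,2,6,1], [0,5,6,1,2,0,6,6,0,1,4,0,6,0,0,4],
    [0,2,0,6,5,0,1,0,1,6,3,0,1,1,0,3], [2,6,5,3,6,5,3,2,2,4,0,0,4,5,0,0],
    [1,1,0,3,6,1,4,0,4,5,6,6,2,4,1,6], [5,0,2,1,0,5,6,2,1,1,6,2,6,1,5,6],
    [3,2,0,6,2,4,6,0,6,5,1,5,5,1,5,6], [6,2,0,3,2,1,3,0,4,1,3,6,1,3,6,4],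
    [0,4,1,1,3,0,6,1,1,1,4,5,6,1,2,4], [0,2,0,5,5,0,2,0,1,5,6,5,2,1,2,6],
    [3,2,0,0,2,4,0,0,6,4,4,5,4,1,5,3], [2,6,2,4,1,2,3,2,5,6,1,6,1,5,1,1],
    [3,5,0,1,2,3,6,0,0,1,0,0,6,0,0,0], [5,6,2,6,6,2,6,5,6,4,6,2,4,1,2,1],
    [6,4,6,2,4,1,2,1,2,1,5,1,1,5,1,2], [2,0,2,6,0,2,1,2,2,6,2,5,1,2,2,2],
    [3,0,6,1,0,3,6,6,0,1,0,2,6,0,5,0], [2,4,0,0,4,5,0,0,5,1,2,4,1,2,4,5],
    [3,5,6,6,5,4,6,1,0,4,6,1,4,0,1,1], [2,1,6,1,6,2,6,6,2,6,2,4,1,2,3,2],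
    [0,1,1,0,1,0,0,6,4,0,2,1,0,3,1,5], [6,2,5,6,5,6,1,5,6,6,5,0,1,6,0,5],
    [1,5,2,2,5,6,2,5,1,1,5,2,1,6,2,2], [0,3,4,1,3,0,1,3,6,0,5,3,0,1,3,2],
    [5,6,2,5,6,2,5,5,6,5,3,2,5,1,2,4], [0,5,0,1,2,0,6,0,6,1,4,0,6,6,0,4],
    [5,6,1,5,1,5,2,1,5,0,1,1,0,5,6,1], [3,0,1,3,0,4,3,6,6,4,1,1,4,1,1,6],
    [4,1,5,3,1,3,3,2,6,1,5,5,1,1,5,2], [1,2,1,5,5,1,2,1,0,5,0,5,2,0,2,0],
    [3,0,0,1,0,3,6,0,6,1,0,2,6,6,5,0], [6,2,6,5,2,1,5,1,0,6,4,5,6,0,5,3],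
    [0,6,3,0,1,0,0,3,0,5,6,1,2,0,6,6], [3,6,5,6,6,4,6,2,4,1,1,6,1,3,6,6],
    [0,2,0,2,5,0,5,0,1,2,1,5,5,1,2,1], [1,6,0,5,1,1,2,0,3,0,0,1,0,3,6,0],
    [0,1,3,2,1,0,2,4,6,2,6,5,2,1,5,1], [3,2,6,5,5,3,2,6,6,5,5,5,2,6,2,5],
    [1,5,0,4,5,6,4,0,3,6,4,1,6,4,1,3], [0,0,1,0,0,0,0,1,6,0,0,0,0,6,0,0],
    [6,0,0,1,0,1,1,0,5,6,4,0,6,2,0,3], [0,2,1,2,5,0,5,1,0,2,1,5,5,0,2,1],
    [4,1,0,4,1,3,4,0,5,3,1,0,3,2,0,6], [0,1,0,2,6,0,5,0,4,0,1,6,0,4,1,1],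
    [6,0,5,0,0,6,0,5,5,0,2,0,0,5,0,2], [0,5,0,5,2,0,2,0,6,5,6,2,2,6,5,6],
    [0,4,6,1,4,0,1,1,4,2,1,1,2,3,1,6], [6,2,5,5,2,1,5,2,6,6,2,5,6,1,5,5],
    [2,0,6,0,0,2,0,6,5,0,5,0,0,5,0,5], [6,6,4,0,6,1,0,3,3,0,6,6,0,4,6,1],
    [5,6,4,1,6,2,1,3,1,6,3,6,6,6,6,4], [4,1,4,1,1,3,1,3,0,3,1,5,3,0,5,6],
    [1,5,6,5,2,1,2,6,0,5,0,2,2,0,5,0], [5,3,6,1,4,5,6,6,2,6,5,6,1,2,1,5],
    [2,4,4,1,4,5,1,3,2,2,6,1,2,5,1,1], [4,0,0,6,0,4,1,0,1,6,0,5,1,1,2,0],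
    [0,1,4,2,6,0,5,4,0,0,0,6,0,0,1,0], [0,0,5,3,0,0,3,2,2,4,2,6,4,5,6,5],
    [5,2,6,6,2,2,6,1,5,5,1,5,5,2,5,6], [0,1,4,0,6,0,0,4,0,2,1,6,5,0,1,1],
    [4,1,2,1,1,3,1,5,3,6,6,1,6,4,1,1], [5,5,1,2,2,5,5,1,1,2,3,2,5,1,5,3],
    [4,0,1,1,0,3,1,6,6,6,4,0,6,1,0,3], [1,2,3,2,5,1,5,3,2,2,6,5,5,2,2,6],
    [0,3,1,5,3,0,5,6,3,6,3,6,6,4,6,4], [0,0,3,2,0,0,2,4,3,2,6,4,2,4,4,1],
    [2,2,6,1,2,5,1,1,5,3,3,6,3,2,6,4], [5,1,2,4,1,2,4,5,5,3,0,0,3,2,0,0],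
    [4,1,1,6,1,3,6,6,4,1,2,1,1,3,1,5], [6,4,4,5,4,1,5,3,4,5,0,0,5,3,0,0],
    [0,0,4,5,0,0,5,3,4,5,1,3,5,3,3,6], [6,0,0,4,0,6,3,0,0,4,1,0,3,0,0,1],
    [2,4,1,6,3,2,1,1,5,1,2,1,6,5,6,2], [3,0,0,3,0,4,3,0,5,4,6,1,4,2,1,1],
    [2,1,2,0,6,2,0,2,6,2,6,6,5,6,1,6], [2,1,6,2,6,2,5,6,2,0,6,6,0,2,1,6],
    [1,6,0,4,6,6,4,0,6,6,4,2,6,1,2,3], [2,5,5,1,2,2,6,5,5,1,2,0,6,5,0,2],
    [1,1,3,5,1,6,5,4,1,6,0,4,6,6,4,0], [4,0,1,6,0,4,1,1,0,6,0,5,1,0,2,0],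
    [5,3,0,0,3,2,0,0,2,6,5,3,6,5,3,2], [1,6,2,1,1,1,6,2,5,3,2,6,4,5,1,2],
    [2,6,2,1,6,5,1,5,6,2,1,3,2,1,3,6], [3,0,5,6,0,4,6,2,0,1,1,0,1,0,0,6],
    [1,1,1,3,1,6,3,6,6,4,3,0,4,1,0,4], [5,4,4,2,3,5,5,4,1,0,2,3,0,1,4,2],
    [3,2,1,1,5,3,6,1,1,1,0,3,6,1,4,0], [0,6,0,0,1,0,0,0,3,5,0,1,2,3,6,0],
    [2,1,5,1,1,5,1,2,1,3,1,5,3,6,5,6], [2,6,2,5,1,2,2,2,5,0,5,1,0,5,6,5],
    [5,5,1,5,5,2,5,6,2,5,1,1,5,5,1,6], [3,0,6,6,0,4,6,1,1,1,3,0,1,6,0,4],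
    [4,5,0,1,5,3,1,0,1,2,6,2,2,6,2,1], [0,5,0,2,2,0,5,0,6,2,1,2,5,6,5,1],
    [0,3,1,6,3,0,6,6,3,5,6,6,5,4,6,1], [1,3,1,5,3,6,5,6,5,6,2,6,6,2,6,5],
    [2,0,5,0,0,2,0,5,6,0,5,0,0,6,0,5], [2,1,5,2,1,5,2,2,1,2,4,5,2,6,5,3],
    [3,6,2,4,6,4,4,5,1,6,2,2,6,6,2,5], [5,5,1,6,5,2,6,6,2,4,4,1,4,5,1,3],
    [0,5,6,5,2,0,2,6,0,5,6,2,2,0,5,6], [2,1,3,6,1,5,6,4,6,1,4,1,1,1,1,3],
    [5,4,1,0,3,5,0,1,4,2,2,3,5,4,4,2], [3,6,0,3,6,4,3,0,2,4,6,0,4,5,0,1],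
    [3,6,3,6,6,4,6,4,0,4,6,2,4,0,2,1], [6,5,4,5,2,6,2,4,5,5,1,2,2,5,5,1],
    [2,3,6,0,4,2,0,6,3,5,5,4,2,3,3,5], [1,0,0,3,0,1,4,0,0,3,6,0,4,0,0,6],
    [4,0,2,1,0,3,1,5,0,6,6,0,6,0,0,1], [5,0,2,0,0,5,0,2,1,0,2,0,0,1,0,2],
    [6,6,6,4,6,1,4,1,1,3,4,0,3,6,0,3], [5,1,5,2,6,5,5,5,2,0,2,6,0,2,1,2]]

def tableU : List ℕ := [
    1, 3, 5, 7, 9, 11, 10, 14, 16, 18, 17, 21, 23, 24, 6, 26, 28, 27, 31, 33,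
    34, 35, 37, 39, 38, 42, 44, 43, 47, 49, 50, 51, 53, 55, 54, 13, 59, 61, 60, 64,
    66, 67, 68, 0, 71, 73, 74, 75, 77, 79, 78, 20, 83, 85, 84, 88, 90, 91, 92, 94,
    93, 97, 98, 99, 100, 102, 104, 103, 107, 109, 110, 111, 113, 115, 114, 30, 119, 36, 120, 123,
    101, 125, 12, 127, 126, 130, 131, 132, 133, 135, 95, 136, 139, 2, 122, 142, 143, 144, 146, 112,
    41, 128, 150, 149, 152, 154, 155, 156, 158, 160, 159, 46, 163, 52, 164, 105, 134, 167, 19, 169,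
    168, 148, 172, 173, 175, 176, 4, 165, 179, 180, 181, 182, 157, 57, 170, 151, 184, 58, 186, 187,
    69, 80, 190, 189, 63, 194, 195, 129, 196, 82, 89, 124, 198, 200, 117, 201, 70, 153, 76, 204,
    137, 174, 29, 207, 206, 147, 65, 209, 8, 205, 212, 213, 96, 81, 208, 185, 214, 197, 116, 216,
    215, 87, 62, 171, 118, 166, 192, 221, 222, 48, 138, 199, 223, 40, 211, 121, 86, 218, 106, 224,
    32, 225, 203, 45, 226, 183, 15, 22, 227, 202, 220, 161, 229, 228, 162, 72, 177, 191, 232, 56,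
    231, 140, 145, 219, 234, 193, 25, 236, 108, 210, 217, 238, 141, 235, 239, 237, 188, 230, 178, 233]

def tableV : List ℕ := [
    2, 4, 6, 8, 10, 12, 13, 15, 17, 19, 20, 22, 24, 0, 25, 27, 29, 30, 32, 34,
    1, 36, 38, 40, 41, 43, 45, 46, 48, 50, 3, 52, 54, 56, 57, 58, 60, 62, 63, 65,
    67, 5, 69, 70, 72, 74, 7, 76, 78, 80, 81, 82, 84, 86, 87, 89, 91, 9, 93, 95,
    96, 71, 99, 11, 101, 103, 105, 106, 108, 110, 14, 112, 114, 116, 117, 118, 120, 121, 122, 124,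
    125, 16, 126, 128, 129, 107, 132, 18, 134, 136, 137, 138, 42, 140, 141, 143, 21, 145, 147, 148,
    51, 149, 79, 151, 153, 155, 23, 157, 159, 161, 92, 162, 164, 98, 165, 166, 167, 26, 168, 170,
    171, 172, 28, 174, 176, 177, 100, 178, 180, 31, 104, 183, 146, 75, 184, 115, 185, 186, 33, 188,
    35, 189, 191, 192, 193, 163, 53, 196, 37, 197, 187, 39, 199, 201, 156, 202, 203, 204, 131, 205,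
    150, 139, 206, 208, 61, 44, 209, 210, 133, 211, 213, 47, 182, 111, 214, 160, 102, 49, 215, 217,
    218, 219, 77, 195, 220, 55, 221, 175, 109, 216, 181, 223, 59, 207, 224, 158, 113, 64, 144, 225,
    190, 130, 66, 226, 85, 68, 173, 198, 97, 135, 73, 228, 230, 231, 222, 229, 94, 232, 83, 200,
    88, 90, 123, 233, 227, 235, 154, 237, 236, 127, 238, 119, 239, 142, 212, 152, 169, 194, 234, 179]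

def parent : List (ℕ × Bool) := [
    (0, false), (0, false), (0, true), (1, false), (1, true), (2, false), (2, true), (3, false),
    (3, true), (4, false), (4, true), (5, false), (5, true), (6, true), (7, false), (7, true),
    (8, false), (8, true), (9, false), (9, true), (10, true), (11, false), (11, true), (12, false),
    (12, true), (14, true), (15, false), (15, true), (16, false), (16, true), (17, true), (18, false),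
    (18, true), (19, false), (19, true), (21, false), (21, true), (22, false), (22, true), (23, false),
    (23, true), (24, true), (25, false), (25, true), (26, false), (26, true), (27, true), (28, false),
    (28, true), (29, false), (29, true), (31, false), (31, true), (32, false), (32, true), (33, false),
    (33, true), (34, true), (35, true), (36, false), (36, true), (37, false), (37, true), (38, true),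
    (39, false), (39, true), (40, false), (40, true), (42, false), (42, true), (43, true), (44, false),
    (44, true), (45, false), (45, true), (47, false), (47, true), (48, false), (48, true), (49, false),
    (49, true), (50, true), (51, true), (52, false), (52, true), (53, false), (53, true), (54, true),
    (55, false), (55, true), (56, false), (56, true), (58, false), (58, true), (59, false), (59, true),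
    (60, true), (61, false), (62, false), (62, true), (64, false), (64, true), (65, false), (65, true),
    (66, false), (66, true), (67, true), (68, false), (68, true), (69, false), (69, true), (71, false),
    (71, true), (72, false), (72, true), (73, false), (73, true), (74, true), (75, true), (76, false),
    (76, true), (77, true), (78, true), (79, false), (79, true), (80, true), (82, true), (83, false),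
    (83, true), (84, true), (85, false), (86, false), (86, true), (88, false), (88, true), (89, false),
    (89, true), (90, true), (91, true), (92, false), (93, true), (94, true), (95, false), (95, true),
    (97, false), (97, true), (98, false), (98, true), (99, true), (101, true), (102, false), (103, true),
    (104, false), (104, true), (105, false), (105, true), (107, false), (107, true), (108, false), (108, true),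
    (109, false), (109, true), (111, true), (112, false), (112, true), (114, true), (115, true), (116, true),
    (118, true), (119, false), (119, true), (120, true), (121, true), (123, false), (123, true), (124, false),
    (124, true), (125, true), (127, true), (128, false), (128, true), (130, false), (131, false), (131, true),
    (134, true), (136, true), (137, true), (139, false), (139, true), (141, true), (142, false), (142, true),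
    (143, true), (144, true), (145, false), (146, false), (147, true), (149, true), (152, false), (152, true),
    (153, false), (153, true), (155, true), (156, true), (157, true), (159, true), (162, true), (163, false),
    (163, true), (166, true), (167, true), (169, true), (170, false), (170, true), (174, true), (178, true),
    (179, false), (179, true), (180, true), (181, true), (184, true), (186, true), (188, false), (191, true),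
    (194, true), (199, true), (203, true), (208, false), (211, true), (212, false), (212, true), (213, true),
    (217, true), (223, true), (224, false), (225, true), (227, false), (227, true), (230, true), (232, true)]

def genU : List ℕ := [2,4,5,1,3,2,6,5,1,6,2,1,1,1,6,2]

def genV : List ℕ := [1,5,6,4,5,6,4,1,2,6,2,1,6,5,1,5]

end Cfsg.Agent.Lib.Recog.TwoSymFive
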