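import Mathlib
import Cfsg.Agent.Lib.Recog.Affine

/-! Primitive groups that are not almost simple with at most two classes of derangements. -/

set_option autoImplicit false

namespace Cfsg.Agent.Lib.Recog

open Subgroup MulAction

variable {G Ω : Type*} [Group G] [Finite G] [MulAction G Ω] [FaithfulSMul G Ω] [Finite Ω]
  [Nontrivial Ω]

/-- The conjugacy classes of derangements. -/
abbrev DerClass (G Ω : Type*) [Group G] [MulAction G Ω] : Type _ :=
  {c : ConjClasses G // ∃ g : G, ConjClasses.mk g = c ∧ ∀ ω : Ω, g • ω ≠ ω}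

/-- The class of a derangement. -/
def derClass {g : G} (h : IsDer Ω g) : DerClass G Ω := ⟨ConjClasses.mk g, g, rfl, h⟩

omit [Finite G] [FaithfulSMul G Ω] [Finite Ω] [Nontrivial Ω] in
theorem derClass_eq {g k : G} {hg : IsDer Ω g} {hk : IsDer Ω k} :
    derClass hg = derClass hk ↔ ∃ u : G, u * g * u⁻¹ = k := by
  simp [derClass, Subtype.ext_iff, ConjClasses.mk_eq_mk_iff_isConj, isConj_iff]

omit [FaithfulSMul G Ω] [Finite Ω] [Nontrivial Ω] in
theorem three_le_card_derClass {a b c : G} (ha : IsDer Ω a) (hb : IsDer Ω b) (hc : IsDer Ω c)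
    (h : ∀ g : G, g * a * g⁻¹ ≠ b ∧ g * a * g⁻¹ ≠ c ∧ g * b * g⁻¹ ≠ c) :
    3 ≤ Nat.card (DerClass G Ω) := by
  let f : Fin 3 → DerClass G Ω := ![derClass ha, derClass hb, derClass hc]
  have hf : Function.Injective f := by
    have n1 : derClass ha ≠ derClass hb := fun e => by
      obtain ⟨u, hu⟩ := derClass_eq.1 e; exact (h u).1 hu
    have n2 : derClass ha ≠ derClass hc := fun e => by
      obtain ⟨u, hu⟩ := derClass_eq.1 e; exact (h u).2.1 hu
    have n3 : derClass hb ≠ derClass hc := fun e => by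
      obtain ⟨u, hu⟩ := derClass_eq.1 e; exact (h u).2.2 hu
    intro i j e
    fin_cases i <;> fin_cases j <;> simp [f] at e ⊢ <;>
      first | exact n1 e | exact n1 e.symm | exact n2 e | exact n2 e.symm | exact n3 e | exact n3 e.symm
  simpa using Nat.card_le_card_of_injective f hf

theorem affine_of_card_derClass_le [IsPreprimitive G Ω] (hnas : NotAS G)
    (h : Nat.card (DerClass G Ω) ≤ 2) :
    ∃ N : Subgroup G, N.Normal ∧ N ≠ ⊥ ∧ IsMulCommutative N ∧ IsPretransitive N Ω ∧
      ActsFreely Ω N ∧ ∀ a : Ω, stabilizer N a = ⊥ := by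
  rcases affine_or_configs (G := G) (Ω := Ω) with ⟨N, p, -, h1, h2, h3, -, h4, h5, h6⟩ | h' | h'
  · exact ⟨N, h1, h2, h3, h4, h5, h6⟩
  · exact absurd hnas h'
  · obtain ⟨a, b, c, ha, hb, hc, hne⟩ := h'.elim (fun h => h.three) (fun h => h.three)
    exact absurd (three_le_card_derClass ha hb hc hne) (by omega)

/-- Sharply 2-transitive groups have one class of derangements. -/
theorem card_derClass_of_sharp (h2 : IsMultiplyPretransitive G Ω 2)
    (hs : ∀ g : G, g ≠ 1 → ∀ a b : Ω, a ≠ b → g • a = a → g • b ≠ b) :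
    Nat.card (DerClass G Ω) = 1 := by
  classical
  have := Fintype.ofFinite G
  haveI : IsPretransitive G Ω := isPretransitive_of_is_two_pretransitive
  have hn : 2 ≤ Nat.card Ω := Finite.one_lt_card
  obtain ⟨α, β, hαβ⟩ := exists_pair_ne Ω
  have hf : ∀ g : G, g ≠ 1 → Nat.card (fixedBy Ω g) = if IsDer Ω g then 0 else 1 := by
    intro g hg
    split_ifs with h
    · exact isDer_iff.1 h
    · refine le_antisymm ?_ (Nat.one_le_iff_ne_zero.2 fun e => h (isDer_iff.2 e))
      rw [Finite.card_le_one_iff_subsingleton]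
      exact ⟨fun ⟨a, ha⟩ ⟨b, hb⟩ => Subtype.ext (by_contra fun hne => hs g hg a b hne ha hb)⟩
  have hD : Nat.card {g : G // IsDer Ω g} + 1 = Nat.card Ω := by
    have h1 := Perm.sum_fixedBy (G := G) (X := Ω)
    have h2 : Nat.card (orbitRel.Quotient G Ω) = 1 := by
      rw [Nat.card_eq_one_iff_unique]
      exact ⟨(pretransitive_iff_subsingleton_quotient G Ω).1 inferInstance,
        ⟨Quotient.mk'' α⟩⟩
    rw [h2, one_mul] at h1
    have h3 : ∀ g : G, Nat.card (fixedBy Ω g) + (if IsDer Ω g then 1 else 0) + (if g = 1 then 1 else 0) =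
        1 + (if g = 1 then Nat.card Ω else 0) := by
      intro g
      by_cases hg : g = 1
      · subst hg
        rw [Perm.card_fixedBy_one, if_pos rfl, if_pos rfl, if_neg fun h => h.ne_one rfl]
        omega
      · rw [hf g hg, if_neg hg, if_neg hg]
        split_ifs <;> rfl
    have h4 := Finset.sum_congr (rfl : (Finset.univ : Finset G) = _) fun g _ => h3 g
    rw [Finset.sum_add_distrib, Finset.sum_add_distrib, Finset.sum_add_distrib, h1,
      Finset.sum_ite_eq' Finset.univ (1 : G), Finset.sum_ite_eq' Finset.univ (1 : G),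
      if_pos (Finset.mem_univ _), if_pos (Finset.mem_univ _), Finset.sum_boole, Finset.sum_const,
      smul_eq_mul, mul_one, Finset.card_univ, Nat.card_eq_fintype_card (α := G)] at h4
    rw [Nat.card_eq_fintype_card (α := {g : G // IsDer Ω g}), Fintype.card_subtype]
    simp only [Nat.cast_id] at h4
    omega
  obtain ⟨d, hd⟩ := exists_isDer (G := G) hn
  -- the centralizer of a derangement acts freely
  have hfree : ∀ c : G, c * d = d * c → c • α = α → c = 1 := by
    intro c hc hcα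
    by_contra hne
    exact hs c hne α (d • α) (fun e => hd α e.symm) hcα (by rw [← mul_smul, hc, mul_smul, hcα])
  have hC : Nat.card (centralizer ({d} : Set G)) ≤ Nat.card Ω := by
    refine Nat.card_le_card_of_injective (fun c => (c : G) • α) fun c e he => Subtype.ext ?_
    have hcd : ((e : G)⁻¹ * c) * d = d * ((e : G)⁻¹ * c) := by
      have := (mul_mem (inv_mem e.2) c.2 : (e : G)⁻¹ * c ∈ centralizer ({d} : Set G))
      exact (this d rfl).symm
    exact (inv_mul_eq_one.1 (hfree _ hcd (by rw [mul_smul, inv_smul_eq_iff]; exact he))).symm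
  -- the group is large
  have hH : Nat.card Ω ≤ Nat.card (stabilizer G α) + 1 := by
    have : Nat.card {x : Ω // x ≠ α} ≤ Nat.card (stabilizer G α) := by
      refine Nat.card_le_card_of_surjective
        (fun h : stabilizer G α => (⟨(h : G) • β, fun e => hαβ.symm
          (smul_left_cancel (h : G) (e.trans h.2.symm))⟩ : {x : Ω // x ≠ α})) fun x => ?_
      obtain ⟨g, h1, h2⟩ := is_two_pretransitive_iff.1 h2 hαβ.symm x.2
      exact ⟨⟨g, h2⟩, Subtype.ext h1⟩
    have h' : Nat.card {x : Ω // x ≠ α} + 1 = Nat.card Ω := by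
      have := Fintype.ofFinite Ω
      rw [Nat.card_eq_fintype_card, Nat.card_eq_fintype_card, Fintype.card_subtype_compl,
        Fintype.card_subtype_eq]
      have := Fintype.card_pos_iff.2 (⟨α⟩ : Nonempty Ω)
      omega
    omega
  have hG : Nat.card G = Nat.card Ω * Nat.card (stabilizer G α) := by
    rw [← (stabilizer G α).index_mul_card, index_stabilizer_of_transitive G α]
  -- the class of `d` contains all derangements
  have hcls : Nat.card {g : G // IsDer Ω g} ≤ (ConjClasses.mk d).carrier.ncard := by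
    have h1 : Nat.card (stabilizer (ConjAct G) d) = Nat.card (centralizer ({d} : Set G)) := by
      refine Nat.card_congr ⟨fun c => ⟨ConjAct.ofConjAct c.1, fun x hx => ?_⟩,
        fun c => ⟨ConjAct.toConjAct c.1, ?_⟩, fun c => Subtype.ext ?_, fun c => Subtype.ext ?_⟩
      · rw [Set.mem_singleton_iff] at hx
        subst hx
        have := c.2
        rw [mem_stabilizer_iff, ConjAct.smul_def, mul_inv_eq_iff_eq_mul] at this
        exact this.symm
      · rw [mem_stabilizer_iff, ConjAct.smul_def, ConjAct.ofConjAct_toConjAct, ← c.2 d rfl,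
          mul_inv_cancel_right]
      · simp
      · simp
    have h2 := (stabilizer (ConjAct G) d).index_mul_card
    rw [index_stabilizer, ConjAct.orbit_eq_carrier_conjClasses, h1,
      Nat.card_congr (ConjAct.toConjAct (G := G)).symm.toEquiv, hG] at h2
    by_contra hlt
    push Not at hlt
    have : Nat.card Ω * Nat.card (stabilizer G α) ≤ (ConjClasses.mk d).carrier.ncard * Nat.card Ω :=
      h2 ▸ Nat.mul_le_mul_left _ hC
    rw [mul_comm (ConjClasses.mk d).carrier.ncard] at this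
    have := Nat.le_of_mul_le_mul_left this (by omega)
    omega
  have hsub : (ConjClasses.mk d).carrier ⊆ {g | IsDer Ω g} := by
    intro g hg
    rw [ConjClasses.mem_carrier_iff_mk_eq, ConjClasses.mk_eq_mk_iff_isConj, isConj_iff] at hg
    obtain ⟨u, hu⟩ := hg
    have : g = u⁻¹ * d * u⁻¹⁻¹ := by rw [← hu]; group
    rw [Set.mem_setOf_eq, this]
    exact hd.conj u⁻¹
  have heq : (ConjClasses.mk d).carrier = {g | IsDer Ω g} :=
    Set.eq_of_subset_of_ncard_le hsub (by rwa [← Nat.card_coe_set_eq]) (Set.toFinite _)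
  rw [Nat.card_eq_one_iff_unique]
  refine ⟨⟨?_⟩, ⟨derClass hd⟩⟩
  rintro ⟨c, g, rfl, hg⟩ ⟨c', g', rfl, hg'⟩
  apply Subtype.ext
  have e1 : g ∈ (ConjClasses.mk d).carrier := heq ▸ hg
  have e2 : g' ∈ (ConjClasses.mk d).carrier := heq ▸ hg'
  rw [ConjClasses.mem_carrier_iff_mk_eq] at e1 e2
  exact e1.trans e2.symm

section Affine

variable {N : Subgroup G}

omit [Finite G] [Finite Ω] [Nontrivial Ω] in
/-- `G = N H`. -/
theorem exists_eq_mul_stab (ht : IsPretransitive N Ω) (α : Ω) (g : G) :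
    ∃ n ∈ N, ∃ h ∈ stabilizer G α, g = n * h := by
  obtain ⟨n, hn⟩ := ht.exists_smul_eq α (g • α)
  refine ⟨n, n.2, (n : G)⁻¹ * g, ?_, (mul_inv_cancel_left _ _).symm⟩
  rw [mem_stabilizer_iff, mul_smul, inv_smul_eq_iff]
  exact hn.symm

omit [Finite G] [Finite Ω] [Nontrivial Ω] in
/-- Conjugate elements of `N` move `α` into one orbit of the stabilizer. -/
theorem same_orbit_of_conj (hN : N.Normal) (hc : IsMulCommutative N) (ht : IsPretransitive N Ω)
    (α : Ω) {x y u : G} (hx : x ∈ N) (h : u * x * u⁻¹ = y) :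
    ∃ k ∈ stabilizer G α, k • x • α = y • α := by
  obtain ⟨n, hn, k, hk, rfl⟩ := exists_eq_mul_stab ht α u
  refine ⟨k, hk, ?_⟩
  have h1 : n * (k * x * k⁻¹) = (k * x * k⁻¹) * n :=
    congrArg Subtype.val (hc.is_comm.comm ⟨n, hn⟩ ⟨_, hN.conj_mem x hx k⟩)
  have h2 : y = k * x * k⁻¹ := by
    rw [← h, show n * k * x * (n * k)⁻¹ = n * (k * x * k⁻¹) * n⁻¹ by group, h1,
      mul_inv_cancel_right]
  rw [h2, mul_smul, mul_smul, inv_smul_eq_iff.2 (show α = k • α from hk.symm)]

/-- If every derangement is conjugate into `N`, the derangements are `N \ {1}`. -/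
theorem card_der_eq (hN : N.Normal) (ht : IsPretransitive N Ω) (hf : ActsFreely Ω N)
    (h : ∀ g : G, IsDer Ω g → ∃ u : G, u * g * u⁻¹ ∈ N) :
    Nat.card {g : G // IsDer Ω g} + 1 = Nat.card Ω := by
  classical
  have := Fintype.ofFinite N
  obtain ⟨α, -⟩ := exists_pair_ne Ω
  have e1 : Nat.card {g : G // IsDer Ω g} = Nat.card {x : N // x ≠ 1} := by
    refine Nat.card_congr ⟨fun g => ⟨⟨g.1, ?_⟩, ?_⟩, fun x => ⟨x.1, hf.isDer x.1.2 fun e => x.2 (Subtype.ext e)⟩,
      fun g => rfl, fun x => rfl⟩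
    · obtain ⟨u, hu⟩ := h g g.2
      have := hN.conj_mem _ hu u⁻¹
      simpa [mul_assoc] using this
    · intro e
      exact g.2.ne_one (congrArg Subtype.val e)
  have e2 : Nat.card N = Nat.card Ω := by
    refine Nat.card_congr (Equiv.ofBijective (fun n : N => (n : G) • α) ⟨fun a b e => ?_, fun x => ?_⟩)
    · exact Subtype.ext (inv_mul_eq_one.1 (hf _ (mul_mem (inv_mem a.2) b.2) α (by
        change (a : G) • α = (b : G) • α at e
        rw [mul_smul, ← e, inv_smul_smul])))
    · obtain ⟨n, hn⟩ := ht.exists_smul_eq α x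
      exact ⟨n, hn⟩
  rw [e1, ← e2, Nat.card_eq_fintype_card, Nat.card_eq_fintype_card, Fintype.card_subtype_compl,
    Fintype.card_subtype_eq]
  have := Fintype.card_pos (α := N)
  omega

omit [FaithfulSMul G Ω] [Nontrivial Ω] in
theorem card_eq_mul_stab [IsPretransitive G Ω] (α : Ω) :
    Nat.card G = Nat.card Ω * Nat.card (stabilizer G α) := by
  rw [← (stabilizer G α).index_mul_card, index_stabilizer_of_transitive G α]

omit [FaithfulSMul G Ω] [Finite G] [Nontrivial Ω] in
theorem two_le_rank {α β : Ω} (h : α ≠ β) : 2 ≤ Nat.card (orbitRel.Quotient G (Ω × Ω)) := by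
  haveI := Finite.one_lt_card_iff_nontrivial (α := orbitRel.Quotient G (Ω × Ω))
  refine (this.2 ⟨⟨Quotient.mk'' (α, α), Quotient.mk'' (α, β), fun e => ?_⟩⟩ : 1 < _)
  obtain ⟨g, hg⟩ := Quotient.exact' e
  simp only [Prod.smul_mk, Prod.mk.injEq] at hg
  exact h (smul_left_cancel g (hg.1.trans hg.2.symm))

theorem sharp_of_card_derClass_eq_one [IsPreprimitive G Ω] (hnas : NotAS G)
    (h : Nat.card (DerClass G Ω) = 1) :
    IsMultiplyPretransitive G Ω 2 ∧ ∀ g : G, g ≠ 1 → ∀ a b : Ω, a ≠ b → g • a = a → g • b ≠ b := by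
  classical
  obtain ⟨N, hN, hN1, hc, ht, hf, -⟩ := affine_of_card_derClass_le (Ω := Ω) hnas (by omega)
  obtain ⟨hsub, -⟩ := Nat.card_eq_one_iff_unique.1 h
  obtain ⟨α, β, hαβ⟩ := exists_pair_ne Ω
  obtain ⟨x, hx, hx1⟩ := N.bot_or_exists_ne_one.resolve_left hN1
  have hconj : ∀ g : G, IsDer Ω g → ∃ u : G, u * g * u⁻¹ = x := fun g hg =>
    derClass_eq.1 (hsub.elim (derClass hg) (derClass (hf.isDer hx hx1)))
  have htr : ∀ a b : Ω, a ≠ α → b ≠ α → ∃ k ∈ stabilizer G α, k • a = b := by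
    intro a b ha hb
    obtain ⟨na, rfl⟩ := ht.exists_smul_eq α a
    obtain ⟨nb, rfl⟩ := ht.exists_smul_eq α b
    have hna : (na : G) ≠ 1 := fun e => ha (by rw [Subgroup.smul_def, e, one_smul])
    have hnb : (nb : G) ≠ 1 := fun e => hb (by rw [Subgroup.smul_def, e, one_smul])
    obtain ⟨u, hu⟩ := hconj _ (hf.isDer na.2 hna)
    obtain ⟨v, hv⟩ := hconj _ (hf.isDer nb.2 hnb)
    refine same_orbit_of_conj hN hc ht α (u := v⁻¹ * u) na.2 ?_
    calc v⁻¹ * u * (na : G) * (v⁻¹ * u)⁻¹ = v⁻¹ * (u * na * u⁻¹) * v := by group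
      _ = nb := by rw [hu, ← hv]; group
  have h2 : IsMultiplyPretransitive G Ω 2 := by
    rw [is_two_pretransitive_iff]
    intro a b c d hab hcd
    obtain ⟨g₁, hg₁⟩ := exists_smul_eq G a α
    obtain ⟨g₂, hg₂⟩ := exists_smul_eq G c α
    obtain ⟨k, hk, hkb⟩ := htr (g₁ • b) (g₂ • d)
      (fun e => hab (smul_left_cancel g₁ (hg₁.trans e.symm)))
      (fun e => hcd (smul_left_cancel g₂ (hg₂.trans e.symm)))
    refine ⟨g₂⁻¹ * k * g₁, ?_, ?_⟩
    · rw [mul_smul, mul_smul, hg₁, show k • α = α from hk, inv_smul_eq_iff, hg₂]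
    · rw [mul_smul, mul_smul, hkb, inv_smul_smul]
  refine ⟨h2, fun g hg a b hab ha hb => ?_⟩
  have hD := card_der_eq hN ht hf fun g hg => by
    obtain ⟨u, hu⟩ := hconj g hg
    exact ⟨u, by rw [hu]; exact hx⟩
  have hH : Nat.card Ω ≤ Nat.card (stabilizer G α) + 1 := by
    have : Nat.card {y : Ω // y ≠ α} ≤ Nat.card (stabilizer G α) := by
      refine Nat.card_le_card_of_surjective
        (fun k : stabilizer G α => (⟨(k : G) • β, fun e => hαβ.symm
          (smul_left_cancel (k : G) (e.trans k.2.symm))⟩ : {y : Ω // y ≠ α})) fun y => ?_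
      obtain ⟨k, hk, hky⟩ := htr β y hαβ.symm y.2
      exact ⟨⟨k, hk⟩, Subtype.ext hky⟩
    have h' : Nat.card {y : Ω // y ≠ α} + 1 = Nat.card Ω := by
      have := Fintype.ofFinite Ω
      rw [Nat.card_eq_fintype_card, Nat.card_eq_fintype_card, Fintype.card_subtype_compl,
        Fintype.card_subtype_eq]
      have := Fintype.card_pos_iff.2 (⟨α⟩ : Nonempty Ω)
      omega
    omega
  have hr := two_le_rank (G := G) hαβ
  have hG := card_eq_mul_stab (G := G) α
  have hle := der_count_eq (G := G) (Ω := Ω) (by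
    have e : (Nat.card Ω) * Nat.card {g : G // IsDer Ω g} ≤
        (Nat.card (orbitRel.Quotient G (Ω × Ω)) - 1) * Nat.card G := by
      calc (Nat.card Ω) * Nat.card {g : G // IsDer Ω g}
          ≤ Nat.card Ω * Nat.card (stabilizer G α) := Nat.mul_le_mul_left _ (by omega)
        _ = 1 * Nat.card G := by rw [one_mul, hG]
        _ ≤ _ := Nat.mul_le_mul_right _ (by omega)
    have := Int.ofNat_le.2 e
    push_cast [Nat.cast_sub (show 1 ≤ Nat.card (orbitRel.Quotient G (Ω × Ω)) by omega)] at this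
    exact this) g hg
  rw [Finite.card_le_one_iff_subsingleton] at hle
  exact hab (congrArg Subtype.val (hle.elim (⟨a, ha⟩ : fixedBy Ω g) ⟨b, hb⟩))

/-- Two classes of derangements. -/
theorem of_card_derClass_eq_two [IsPreprimitive G Ω] (hnas : NotAS G)
    (h : Nat.card (DerClass G Ω) = 2) (α : Ω) :
    ((∃ N : Subgroup G, N.Normal ∧ N ≠ ⊥ ∧ IsMulCommutative N ∧ ∀ ω : Ω, stabilizer N ω = ⊥) ∧
        (∀ g : G, g ≠ 1 → Nat.card (fixedBy Ω g) ≤ 1) ∧ ¬ 2 ∣ Nat.card Ω ∧
        2 * Nat.card (stabilizer G α) = Nat.card Ω - 1) ∨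
    ((∃ N : Subgroup G, N.Normal ∧ N ≠ ⊥ ∧ IsMulCommutative N ∧ ∀ ω : Ω, stabilizer N ω = ⊥) ∧
        IsMultiplyPretransitive G Ω 2 ∧ ∃ g : G, g ≠ 1 ∧ 2 ≤ Nat.card (fixedBy Ω g)) := by
  classical
  obtain ⟨N, hN, hN1, hc, ht, hf, hst⟩ := affine_of_card_derClass_le (Ω := Ω) hnas (by omega)
  have hA : ∃ N : Subgroup G, N.Normal ∧ N ≠ ⊥ ∧ IsMulCommutative N ∧
      ∀ ω : Ω, stabilizer N ω = ⊥ := ⟨N, hN, hN1, hc, hst⟩
  by_cases h2 : IsMultiplyPretransitive G Ω 2
  · right
    refine ⟨hA, h2, by_contra fun hne => ?_⟩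
    push Not at hne
    have := card_derClass_of_sharp h2 fun g hg a b hab ha hb => by
      have := Nat.lt_succ_iff.1 (hne g hg)
      rw [Finite.card_le_one_iff_subsingleton] at this
      exact hab (congrArg Subtype.val (this.elim (⟨a, ha⟩ : fixedBy Ω g) ⟨b, hb⟩))
    omega
  left
  obtain ⟨a, b, ha, hb, hab⟩ : ∃ a b : Ω, a ≠ α ∧ b ≠ α ∧ ∀ k ∈ stabilizer G α, k • a ≠ b := by
    by_contra hne
    push Not at hne
    apply h2
    rw [is_two_pretransitive_iff]
    intro a b c d hab hcd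
    obtain ⟨g₁, hg₁⟩ := exists_smul_eq G a α
    obtain ⟨g₂, hg₂⟩ := exists_smul_eq G c α
    obtain ⟨k, hk, hkb⟩ := hne (g₁ • b) (g₂ • d)
      (fun e => hab (smul_left_cancel g₁ (hg₁.trans e.symm)))
      (fun e => hcd (smul_left_cancel g₂ (hg₂.trans e.symm)))
    refine ⟨g₂⁻¹ * k * g₁, ?_, ?_⟩
    · rw [mul_smul, mul_smul, hg₁, show k • α = α from hk, inv_smul_eq_iff, hg₂]
    · rw [mul_smul, mul_smul, hkb, inv_smul_smul]
  obtain ⟨na, rfl⟩ := ht.exists_smul_eq α a
  obtain ⟨nb, rfl⟩ := ht.exists_smul_eq α b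
  have hna : (na : G) ≠ 1 := fun e => ha (by rw [Subgroup.smul_def, e, one_smul])
  have hnb : (nb : G) ≠ 1 := fun e => hb (by rw [Subgroup.smul_def, e, one_smul])
  have hne : derClass (hf.isDer (Ω := Ω) na.2 hna) ≠ derClass (hf.isDer (Ω := Ω) nb.2 hnb) := by
    intro e
    obtain ⟨u, hu⟩ := derClass_eq.1 e
    obtain ⟨k, hk, hk'⟩ := same_orbit_of_conj hN hc ht α na.2 hu
    exact hab k hk hk'
  have hall : ∀ g : G, IsDer Ω g → (∃ u : G, u * g * u⁻¹ = na) ∨ ∃ u : G, u * g * u⁻¹ = nb := by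
    intro g hg
    obtain ⟨u, w, -, huw⟩ := Nat.card_eq_two_iff.1 h
    have hm : ∀ z : DerClass G Ω, z = u ∨ z = w := fun z => by
      simpa using huw.ge (Set.mem_univ z)
    rw [← derClass_eq (hg := hg) (hk := hf.isDer na.2 hna),
      ← derClass_eq (hg := hg) (hk := hf.isDer nb.2 hnb)]
    rcases hm (derClass hg) with e1 | e1 <;> rcases hm (derClass (hf.isDer na.2 hna)) with e2 | e2 <;>
      rcases hm (derClass (hf.isDer nb.2 hnb)) with e3 | e3 <;>
      first
        | exact absurd (e2.trans e3.symm) hne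
        | exact Or.inl (e1.trans e2.symm)
        | exact Or.inr (e1.trans e3.symm)
  have hD := card_der_eq hN ht hf fun g hg => by
    rcases hall g hg with ⟨u, hu⟩ | ⟨u, hu⟩
    · exact ⟨u, hu ▸ na.2⟩
    · exact ⟨u, hu ▸ nb.2⟩
  -- two orbits of the stabilizer
  have hH : Nat.card Ω ≤ 2 * Nat.card (stabilizer G α) + 1 := by
    have : Nat.card {y : Ω // y ≠ α} ≤ Nat.card (stabilizer G α ⊕ stabilizer G α) := by
      refine Nat.card_le_card_of_surjective
        (Sum.elim (fun k => (⟨(k : G) • (na • α), fun e => ha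
            (smul_left_cancel (k : G) (e.trans k.2.symm))⟩ : {y : Ω // y ≠ α}))
          (fun k => ⟨(k : G) • (nb • α), fun e => hb
            (smul_left_cancel (k : G) (e.trans k.2.symm))⟩)) fun y => ?_
      obtain ⟨z, hz⟩ := ht.exists_smul_eq α (y : Ω)
      have hz1 : (z : G) ≠ 1 := fun e => y.2 (by rw [← hz, Subgroup.smul_def, e, one_smul])
      rcases hall _ (hf.isDer z.2 hz1) with ⟨u, hu⟩ | ⟨u, hu⟩
      · obtain ⟨k, hk, hk'⟩ := same_orbit_of_conj hN hc ht α na.2
          (u := u⁻¹) (y := z) (by rw [← hu]; group)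
        exact ⟨Sum.inl ⟨k, hk⟩, Subtype.ext (hk'.trans hz)⟩
      · obtain ⟨k, hk, hk'⟩ := same_orbit_of_conj hN hc ht α nb.2
          (u := u⁻¹) (y := z) (by rw [← hu]; group)
        exact ⟨Sum.inr ⟨k, hk⟩, Subtype.ext (hk'.trans hz)⟩
    rw [Nat.card_sum] at this
    have h' : Nat.card {y : Ω // y ≠ α} + 1 = Nat.card Ω := by
      have := Fintype.ofFinite Ω
      rw [Nat.card_eq_fintype_card, Nat.card_eq_fintype_card, Fintype.card_subtype_compl,
        Fintype.card_subtype_eq]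
      have := Fintype.card_pos_iff.2 (⟨α⟩ : Nonempty Ω)
      omega
    omega
  have hr : 3 ≤ Nat.card (orbitRel.Quotient G (Ω × Ω)) := by
    have key : ∀ x y : Ω, (Quotient.mk'' (α, x) : orbitRel.Quotient G (Ω × Ω)) = Quotient.mk'' (α, y) →
        ∃ k ∈ stabilizer G α, k • y = x := by
      intro x y e
      obtain ⟨g, hg⟩ := Quotient.exact' e
      simp only [Prod.smul_mk, Prod.mk.injEq] at hg
      exact ⟨g, hg.1, hg.2⟩
    let f : Fin 3 → orbitRel.Quotient G (Ω × Ω) :=
      ![Quotient.mk'' (α, α), Quotient.mk'' (α, na • α), Quotient.mk'' (α, nb • α)]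
    have n1 : f 0 ≠ f 1 := fun e => by
      obtain ⟨k, hk, hk'⟩ := key _ _ e
      exact ha (smul_left_cancel k (hk'.trans hk.symm))
    have n2 : f 0 ≠ f 2 := fun e => by
      obtain ⟨k, hk, hk'⟩ := key _ _ e
      exact hb (smul_left_cancel k (hk'.trans hk.symm))
    have n3 : f 2 ≠ f 1 := fun e => by
      obtain ⟨k, hk, hk'⟩ := key _ _ e
      exact hab k hk hk'
    have hf' : Function.Injective f := by
      intro i j e
      fin_cases i <;> fin_cases j <;>
        first
          | rfl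
          | exact absurd e n1 | exact absurd e.symm n1 | exact absurd e n2 | exact absurd e.symm n2
          | exact absurd e n3 | exact absurd e.symm n3
    simpa using Nat.card_le_card_of_injective f hf'
  have hG := card_eq_mul_stab (G := G) α
  have hge := der_count_ge (G := G) (Ω := Ω)
  have hpos : 0 < Nat.card Ω := by omega
  have h2H : 2 * Nat.card (stabilizer G α) ≤ Nat.card {g : G // IsDer Ω g} := by
    rw [hG] at hge
    refine Nat.le_of_mul_le_mul_left (Int.ofNat_le.1 (le_trans ?_ hge)) hpos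
    push_cast
    have h3 : (2 : ℤ) ≤ (Nat.card (orbitRel.Quotient G (Ω × Ω)) : ℤ) - 1 := by omega
    nlinarith [Int.natCast_nonneg (Nat.card Ω), Int.natCast_nonneg (Nat.card (stabilizer G α)),
      mul_nonneg (Int.natCast_nonneg (Nat.card Ω)) (Int.natCast_nonneg (Nat.card (stabilizer G α)))]
  refine ⟨hA, fun g hg => der_count_eq ?_ g hg, by omega, by omega⟩
  rw [hG]
  push_cast
  have h3 : (2 : ℤ) ≤ (Nat.card (orbitRel.Quotient G (Ω × Ω)) : ℤ) - 1 := by omega
  have h4 : (Nat.card {g : G // IsDer Ω g} : ℤ) = 2 * Nat.card (stabilizer G α) := by omega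
  rw [h4]
  nlinarith [mul_nonneg (Int.natCast_nonneg (Nat.card Ω)) (Int.natCast_nonneg (Nat.card (stabilizer G α)))]

end Affine

end Cfsg.Agent.Lib.Recog
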