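import Mathlib
import Cfsg.Prelude.Def_ChevG2

/-! The six-dimensional module of `G₂` over the field of four elements: tables and checks. -/

set_option autoImplicit false
set_option maxRecDepth 100000
set_option Elab.async false

open scoped Matrix

namespace Cfsg.Agent.Lib.Recog.G2Four

/-- the field of four elements, `re + im ω` -/
structure K where
  /-- constant part -/
  re : Bool
  /-- coefficient of `ω` -/
  im : Bool
deriving DecidableEq, Fintype

namespace K

instance : Zero K := ⟨⟨false, false⟩⟩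
instance : One K := ⟨⟨true, false⟩⟩
instance : Add K := ⟨fun a b => ⟨xor a.re b.re, xor a.im b.im⟩⟩
instance : Neg K := ⟨id⟩
instance : Mul K := ⟨fun a b => ⟨xor (a.re && b.re) (a.im && b.im),
  xor (xor (a.re && b.im) (a.im && b.re)) (a.im && b.im)⟩⟩
instance : Inv K := ⟨fun a => a * a⟩

instance : CommRing K := CommRing.ofMinimalAxioms (by decide +kernel) (by decide +kernel) (by decide +kernel)
  (by decide +kernel) (by decide +kernel) (by decide +kernel) (by decide +kernel)

instance : Field K where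
  exists_pair_ne := ⟨0, 1, by decide +kernel⟩
  mul_inv_cancel := by decide +kernel
  inv_zero := by decide +kernel
  nnqsmul := _
  qsmul := _

/-- the primitive element -/
def ω : K := ⟨false, true⟩

theorem card_eq : Fintype.card K = 4 := by decide +kernel

theorem eq_one_of_sq : ∀ a : K, a * a = 1 → a = 1 := by decide +kernel

end K

/-- six by six matrices -/
abbrev M6 : Type := Matrix (Fin 6) (Fin 6) K

/-- root matrices: first-order parts -/
def tblA : List (List ℕ) :=
  [[16,32,0,0,0,0],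
   [8,0,32,0,0,0],
   [0,8,16,0,0,0],
   [4,0,0,32,0,0],
   [2,0,0,0,32,0],
   [0,4,0,16,0,0],
   [0,0,2,0,8,0],
   [0,1,0,0,0,16],
   [0,0,1,0,0,8],
   [0,0,0,2,4,0],
   [0,0,0,1,0,4],
   [0,0,0,0,1,2]]

/-- second-order parts -/
def tblB : List (List ℕ) :=
  [[0,0,0,0,0,0],
   [0,0,0,0,0,0],
   [32,0,0,0,0,0],
   [0,16,0,0,0,0],
   [0,0,8,0,0,0],
   [0,0,0,0,0,0],
   [0,0,0,0,0,0],
   [0,0,0,4,0,0],
   [0,0,0,0,2,0],
   [0,0,0,0,0,1],
   [0,0,0,0,0,0],
   [0,0,0,0,0,0]]

/-- the image of the Lie algebra basis -/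
def tblE : List (List ℕ) :=
  [[1,2,0,0,16,32],
   [0,2,4,8,16,0],
   [16,32,0,0,0,0],
   [8,0,32,0,0,0],
   [0,8,16,0,0,0],
   [4,0,0,32,0,0],
   [2,0,0,0,32,0],
   [0,4,0,16,0,0],
   [0,0,2,0,8,0],
   [0,1,0,0,0,16],
   [0,0,1,0,0,8],
   [0,0,0,2,4,0],
   [0,0,0,1,0,4],
   [0,0,0,0,1,2]]

/-- matrix units as products -/
def tblW : List (List ℕ) :=
  [[0,3,12], [3,11], [0,5], [0,3], [2,1], [2,6], [1,9], [0,4,11], [0,7], [0,4], [2,9], [1,2], [1,10], [3,13], [1,3,12], [3,10], [3,9], [1,3], [1,12], [5,13], [5,12], [1,5,10], [5,9], [1,5], [1,13], [6,13], [0,11], [0,8], [0,8,7], [1,6], [9,13], [10,11], [0,12], [0,10], [9,1], [0,10,5]]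

/-- a separating entry for each basis element -/
def tblP : List (ℕ × ℕ) :=
  [(0, 0), (2, 2), (0, 4), (0, 3), (1, 3), (0, 2), (0, 1), (1, 2), (2, 1), (1, 0), (2, 0), (3, 1), (3, 0), (4, 0)]

/-- a table entry -/
def bit (T : List (List ℕ)) (n : ℕ) (i j : Fin 6) : Bool := ((T.getD n []).getD i.val 0).testBit j.val

/-- position of a basis index in the tables -/
def pos : Lie.chevG2.Idx → ℕ := Sum.elim (fun i => i.val) (fun r => 2 + r.val)

/-- the root element in the six-dimensional module -/
def x6 (r : Fin 12) (t : K) : M6 := fun i j =>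
  (if i = j then 1 else 0) + (if bit tblA r.val i j then t else 0) + (if bit tblB r.val i j then t * t else 0)

/-- basis of the Lie algebra, as matrices -/
def Eb (u : Lie.chevG2.Idx) : M6 := fun i j => if bit tblE (pos u) i j then 1 else 0

/-- the map from the Lie algebra to matrices -/
def L (v : Lie.chevG2.Idx → K) : M6 := ∑ u, v u • Eb u

/-- a form of `L` for evaluation -/
def Lc (v : Lie.chevG2.Idx → K) : M6 := fun i j => ∑ u, if bit tblE (pos u) i j then v u else 0

theorem L_eq_Lc (v : Lie.chevG2.Idx → K) : L v = Lc v := by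
  ext i j
  simp only [L, Lc, Matrix.sum_apply, Matrix.smul_apply, Eb, smul_eq_mul, mul_ite, mul_one, mul_zero]

/-- product in a form for evaluation -/
def mul6 (a b : M6) : M6 := fun i j =>
  a i 0 * b 0 j + a i 1 * b 1 j + a i 2 * b 2 j + a i 3 * b 3 j + a i 4 * b 4 j + a i 5 * b 5 j

theorem mul_eq_mul6 (a b : M6) : a * b = mul6 a b := by
  ext i j; rw [Matrix.mul_apply, Fin.sum_univ_six]; rfl

/-- the invariant form -/
def J : M6 := fun i j => if i.val + j.val = 5 then 1 else 0

theorem x6_sq : ∀ (r : Fin 12) (t : K), mul6 (x6 r t) (x6 r t) = (1 : M6) := by decide +kernel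

theorem x6_form : ∀ (r : Fin 12) (t : K), mul6 (mul6 (x6 r t)ᵀ J) (x6 r t) = J := by decide +kernel

/-- the intertwining check -/
def conjOK (r : Fin 12) : Prop :=
  ∀ (t : K) (s : Lie.chevG2.Idx),
    mul6 (x6 r t) (Eb s) = mul6 (Lc fun u => Lie.chevG2.xMat K r t u s) (x6 r t)

instance (r : Fin 12) : Decidable (conjOK r) := inferInstanceAs (Decidable (∀ _, _))

theorem conj_0 : conjOK 0 := by decide +kernel
theorem conj_1 : conjOK 1 := by decide +kernel
theorem conj_2 : conjOK 2 := by decide +kernel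
theorem conj_3 : conjOK 3 := by decide +kernel
theorem conj_4 : conjOK 4 := by decide +kernel
theorem conj_5 : conjOK 5 := by decide +kernel
theorem conj_6 : conjOK 6 := by decide +kernel
theorem conj_7 : conjOK 7 := by decide +kernel
theorem conj_8 : conjOK 8 := by decide +kernel
theorem conj_9 : conjOK 9 := by decide +kernel
theorem conj_10 : conjOK 10 := by decide +kernel
theorem conj_11 : conjOK 11 := by decide +kernel

theorem conj_all : ∀ r : Fin 12, conjOK r := by
  intro r
  fin_cases r
  exacts [conj_0, conj_1, conj_2, conj_3, conj_4, conj_5, conj_6, conj_7, conj_8, conj_9, conj_10, conj_11]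

/-- basis index from a table position -/
def ofPos (n : ℕ) : Lie.chevG2.Idx :=
  if h : n < 2 then .inl ⟨n, h⟩ else if h' : n - 2 < 12 then .inr ⟨n - 2, h'⟩ else .inl ⟨0, by decide +kernel⟩

theorem units_ok : ∀ i j : Fin 6,
    (tblW.getD (6 * i.val + j.val) []).foldr (fun n M => mul6 (Eb (ofPos n)) M) (1 : M6) =
      Matrix.single i j (1 : K) := by
  decide +kernel

theorem sep_ok : ∀ u w : Lie.chevG2.Idx,
    bit tblE (pos w) (Fin.ofNat 6 (tblP.getD (pos u) (0, 0)).1) (Fin.ofNat 6 (tblP.getD (pos u) (0, 0)).2) =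
      decide (w = u) := by
  decide +kernel

end Cfsg.Agent.Lib.Recog.G2Four
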