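import Mathlib

/-! Certificates for the smallest Janko group as a subgroup of `GL(7,11)`. -/

set_option autoImplicit false
set_option maxRecDepth 100000

namespace Cfsg.Agent.Lib.Recog.Janko

abbrev LMat : Type := List (List ℕ)

def elts0 : List LMat := [
  [[1,0,0,0,0,0,0],[0,1,0,0,0,0,0],[0,0,1,0,0,0,0],[0,0,0,1,0,0,0],[0,0,0,0,1,0,0],[0,0,0,0,0,1,0],[0,0,0,0,0,0,1]],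
  [[0,1,0,0,0,0,0],[0,0,1,0,0,0,0],[0,0,0,1,0,0,0],[0,0,0,0,1,0,0],[0,0,0,0,0,1,0],[0,0,0,0,0,0,1],[1,0,0,0,0,0,0]],
  [[8,2,10,10,8,10,8],[9,1,1,3,1,3,3],[10,10,8,10,8,8,2],[10,8,10,8,8,2,10],[8,10,8,8,2,10,10],[1,3,3,9,1,1,3],[3,3,9,1,1,3,1]],
  [[6,2,10,10,7,3,0],[9,4,8,0,3,8,8],[10,3,6,10,7,0,2],[10,0,10,6,7,2,3],[7,8,7,7,6,8,8],[8,8,0,9,3,4,8],[0,8,9,8,3,8,4]],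
  [[9,4,8,0,3,8,8],[10,3,6,10,7,0,2],[10,0,10,6,7,2,3],[7,8,7,7,6,8,8],[8,8,0,9,3,4,8],[0,8,9,8,3,8,4],[6,2,10,10,7,3,0]],
  [[8,8,2,10,10,8,10],[3,9,1,1,3,1,3],[2,10,10,8,10,8,8],[10,10,8,10,8,8,2],[10,8,10,8,8,2,10],[3,1,3,3,9,1,1],[1,3,3,9,1,1,3]],
  [[8,2,4,3,0,8,8],[9,10,8,6,10,7,0],[8,10,0,10,6,7,9],[3,7,3,7,7,6,3],[8,3,8,0,2,8,4],[4,0,8,2,3,8,8],[0,6,9,10,10,7,8]],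
  [[9,1,1,3,1,3,3],[10,10,8,10,8,8,2],[10,8,10,8,8,2,10],[8,10,8,8,2,10,10],[1,3,3,9,1,1,3],[3,3,9,1,1,3,1],[8,2,10,10,8,10,8]],
  [[2,9,9,1,2,6,5],[10,9,2,6,6,5,4],[10,1,9,3,6,2,10],[1,3,8,5,2,9,9],[9,8,10,8,6,9,2],[3,5,8,9,4,1,6],[6,2,6,4,1,2,6]],
  [[0,6,2,10,10,7,3],[8,9,4,8,0,3,8],[2,10,3,6,10,7,0],[3,10,0,10,6,7,2],[8,7,8,7,7,6,8],[8,8,8,0,9,3,4],[4,0,8,9,8,3,8]],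
  [[1,2,6,6,4,2,6],[0,6,6,3,0,7,5],[7,5,8,5,7,9,4],[3,7,0,7,1,8,7],[5,2,7,2,3,7,9],[4,5,6,4,7,2,8],[0,1,0,4,8,5,7]],
  [[3,9,1,1,3,1,3],[2,10,10,8,10,8,8],[10,10,8,10,8,8,2],[10,8,10,8,8,2,10],[3,1,3,3,9,1,1],[1,3,3,9,1,1,3],[8,8,2,10,10,8,10]],
  [[2,8,5,6,8,10,7],[6,7,4,3,2,6,7],[3,2,7,1,1,4,3],[6,3,8,7,2,6,10],[10,5,6,5,0,9,3],[0,2,9,2,1,8,10],[6,0,4,3,2,8,9]],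
  [[3,3,3,0,2,8,7],[4,0,8,9,8,3,8],[0,6,2,10,10,7,3],[3,2,7,3,0,8,3],[2,10,3,6,10,7,0],[8,1,0,1,5,4,9],[3,4,3,4,4,5,3]],
  [[8,1,2,6,1,1,2],[7,3,9,4,10,7,7],[8,2,3,3,2,4,7],[1,3,0,10,8,4,8],[3,9,5,9,1,8,2],[0,6,4,3,9,9,8],[1,2,3,6,5,4,8]],
  [[0,3,2,3,8,3,7],[5,9,1,1,4,8,0],[2,7,3,0,8,3,3],[10,3,6,10,7,0,2],[10,0,10,6,7,2,3],[4,3,4,4,5,3,3],[8,8,0,9,3,4,8]],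
  [[0,7,7,3,1,7,8],[4,2,9,6,8,9,4],[6,8,4,4,7,5,2],[0,4,7,0,3,10,6],[5,5,5,10,7,9,9],[5,6,8,0,0,5,4],[8,4,5,7,7,5,9]],
  [[1,8,9,10,4,3,4],[0,8,6,6,9,10,5],[2,2,0,8,8,6,7],[2,4,4,8,6,6,7],[2,1,8,4,6,6,3],[1,1,9,9,8,0,2],[8,4,3,5,10,2,6]],
  [[5,6,3,0,0,6,7],[5,3,4,7,7,5,2],[8,4,6,7,4,6,2],[0,7,7,0,3,10,6],[0,4,7,8,1,7,8],[6,6,5,1,7,9,9],[4,2,2,6,3,2,7]],
  [[8,2,1,2,5,10,1],[3,9,2,1,5,2,8],[7,2,5,5,10,6,2],[5,5,1,9,5,4,9],[6,9,10,3,9,9,3],[2,1,8,3,7,6,5],[10,6,9,2,9,5,9]],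
  [[7,4,0,1,4,8,3],[0,2,7,8,10,10,6],[8,4,8,6,6,2,1],[2,0,4,9,9,1,7],[9,2,10,2,8,8,6],[10,1,8,3,1,3,9],[0,2,7,2,0,10,3]],
  [[7,0,3,2,3,8,3],[0,5,9,1,1,4,8],[3,2,7,3,0,8,3],[2,10,3,6,10,7,0],[3,10,0,10,6,7,2],[3,4,3,4,4,5,3],[8,8,8,0,9,3,4]],
  [[1,5,9,8,8,2,9],[2,6,4,2,5,5,1],[3,7,5,5,9,10,3],[9,6,10,10,8,2,1],[6,1,6,9,7,2,5],[8,2,9,8,6,9,10],[2,9,6,9,1,5,2]],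
  [[0,0,9,10,7,3,9],[0,1,2,1,4,5,8],[2,2,0,10,7,4,9],[1,1,10,3,8,9,8],[7,7,4,3,0,8,1],[3,6,7,2,8,1,5],[2,8,9,8,10,6,9]],
  [[7,6,6,9,7,3,7],[7,1,4,6,0,0,3],[4,4,4,8,3,0,1],[6,2,6,9,10,6,7],[9,2,2,4,6,7,8],[5,6,3,4,0,6,0],[3,6,7,2,4,5,7]],
  [[1,2,8,3,6,2,9],[8,8,10,3,2,10,1],[4,2,0,1,3,0,9],[0,10,7,8,8,7,4],[7,3,1,10,5,0,2],[8,5,5,2,10,8,4],[7,9,9,10,7,9,0]],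
  [[3,10,0,10,5,4,9],[8,7,3,7,4,5,3],[3,3,8,0,9,3,4],[4,0,3,9,3,8,3],[0,5,2,1,10,7,3],[3,2,4,3,0,3,8],[9,1,3,5,10,7,0]],
  [[3,7,0,3,2,3,8],[8,0,5,9,1,1,4],[3,3,2,7,3,0,8],[0,2,10,3,6,10,7],[2,3,10,0,10,6,7],[3,3,4,3,4,4,5],[4,8,8,8,0,9,3]],
  [[4,8,2,4,10,4,7],[3,9,8,3,2,7,7],[1,3,0,1,3,4,3],[8,2,6,9,1,3,2],[0,6,4,8,2,9,3],[1,2,3,5,6,4,3],[8,1,2,5,10,1,9]],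
  [[3,1,9,3,6,5,7],[7,4,3,2,7,1,7],[3,1,8,0,10,8,7],[3,0,5,4,3,9,2],[9,8,10,2,6,1,10],[7,3,2,8,8,9,4],[2,8,9,6,2,10,8]],
  [[9,10,3,6,9,9,3],[10,8,10,9,10,8,8],[0,7,0,3,9,9,1],[7,0,7,3,7,10,3],[0,7,1,6,9,3,1],[8,8,5,1,7,5,9],[2,4,2,7,0,2,10]],
  [[5,5,6,10,4,2,2],[7,9,9,5,8,9,4],[6,5,8,0,0,5,4],[5,3,4,7,7,5,2],[8,4,6,7,4,6,2],[0,4,4,0,8,1,5],[0,4,7,8,1,7,8]],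
  [[4,10,6,5,5,6,4],[5,6,0,7,4,3,3],[4,5,7,6,10,5,6],[5,5,4,10,6,5,4],[3,6,3,5,5,8,8],[0,4,3,6,4,8,5],[8,4,5,4,5,3,0]],
  [[0,3,9,1,0,0,3],[5,0,0,0,9,4,0],[0,2,8,1,0,0,3],[0,8,3,10,0,0,9],[0,1,10,3,0,0,1],[9,0,0,0,7,6,0],[4,0,0,0,6,9,0]],
  [[10,3,6,9,2,2,3],[3,9,7,10,5,3,5],[6,7,1,2,6,5,9],[9,10,2,6,5,9,2],[2,5,6,5,4,1,2],[2,3,5,9,1,10,1],[3,5,9,2,2,1,3]],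
  [[0,0,9,10,4,8,9],[0,10,9,10,4,5,3],[9,2,0,10,4,7,9],[10,1,10,3,3,2,8],[4,7,4,3,0,3,1],[3,5,4,9,8,1,6],[2,3,2,3,10,6,2]],
  [[10,7,9,8,6,5,3],[4,3,8,2,4,10,10],[9,3,1,5,5,6,0],[8,9,5,0,7,8,9],[6,7,5,7,7,8,9],[6,10,5,3,3,4,9],[8,10,0,2,2,9,10]],
  [[8,3,7,0,3,2,3],[4,8,0,5,9,1,1],[8,3,3,2,7,3,0],[7,0,2,10,3,6,10],[7,2,3,10,0,10,6],[5,3,3,4,3,4,4],[3,4,8,8,8,0,9]],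
  [[4,9,5,6,10,6,2],[10,6,2,2,2,6,2],[5,5,10,9,6,7,2],[3,9,1,9,5,10,1],[6,9,1,3,2,2,8],[8,2,2,10,5,2,8],[9,10,8,8,7,6,5]],
  [[9,3,10,0,0,8,0],[8,3,10,0,0,9,0],[10,1,8,0,0,10,0],[0,0,0,4,5,0,2],[0,0,0,5,2,0,7],[3,9,1,0,0,3,0],[0,0,0,9,4,0,5]],
  [[0,10,0,4,3,5,4],[0,5,6,3,0,7,6],[8,4,0,7,10,8,4],[7,6,6,4,4,2,3],[10,9,6,6,7,2,5],[4,6,8,5,4,9,7],[6,9,7,2,8,7,2]],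
  [[0,9,3,10,0,0,8],[0,8,3,10,0,0,9],[0,10,1,8,0,0,10],[2,0,0,0,4,5,0],[7,0,0,0,5,2,0],[0,3,9,1,0,0,3],[5,0,0,0,9,4,0]],
  [[5,7,9,6,1,9,6],[3,0,7,6,0,6,5],[5,7,9,7,4,5,3],[7,1,8,4,8,7,0],[9,8,4,9,5,9,7],[7,4,9,8,4,6,6],[4,8,5,4,0,1,0]],
  [[3,7,3,3,9,7,2],[1,4,1,0,8,3,8],[9,3,8,5,10,2,9],[3,2,0,4,2,8,6],[6,7,10,3,6,8,2],[5,1,8,9,1,9,10],[7,7,7,2,10,4,8]],
  [[5,6,9,4,3,4,4],[1,7,5,0,0,3,7],[7,4,8,8,0,10,7],[2,5,2,10,5,7,6],[2,9,7,6,4,8,9],[6,8,7,0,5,0,5],[5,7,2,7,5,4,8]],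
  [[7,0,6,0,0,0,9],[0,8,0,2,8,10,0],[0,2,0,8,3,1,0],[0,10,0,1,10,8,0],[5,0,2,0,0,0,7],[2,0,7,0,0,0,6],[0,8,0,3,9,10,0]],
  [[3,6,9,1,8,9,2],[2,1,5,9,2,2,5],[3,8,2,2,1,6,2],[9,5,5,10,2,5,7],[6,9,10,8,3,4,6],[1,8,2,10,9,5,1],[2,7,2,6,6,10,5]],
  [[8,3,5,4,2,2,0],[7,6,6,3,9,10,8],[6,10,2,6,3,7,3],[5,9,10,5,0,3,6],[8,5,5,4,2,4,7],[9,3,0,9,1,1,2],[1,4,3,4,10,3,9]],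
  [[8,10,4,1,0,3,8],[5,3,9,0,7,2,8],[1,5,10,3,2,1,9],[2,8,7,3,3,2,4],[2,9,8,3,6,10,2],[2,5,7,10,3,5,3],[8,4,7,7,2,1,7]],
  [[7,8,4,1,3,9,1],[8,6,4,9,2,0,8],[6,6,8,9,1,3,4],[10,2,5,3,4,8,5],[2,1,5,0,3,6,5],[5,5,7,2,7,4,3],[8,0,9,10,1,2,9]]]

def elts1 : List LMat := [
  [[7,0,4,3,4,10,3],[3,8,5,10,7,6,2],[9,1,8,6,2,9,3],[0,4,0,3,2,9,1],[0,4,10,6,2,3,1],[9,4,2,4,0,9,1],[1,8,10,2,10,3,3]],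
  [[3,3,9,10,10,3,10],[8,2,10,1,3,10,3],[9,1,1,8,10,3,8],[1,1,3,10,8,3,2],[1,3,1,8,8,9,10],[8,10,8,3,9,10,1],[10,8,8,9,1,10,3]],
  [[9,10,8,1,6,10,2],[5,5,4,6,10,2,9],[8,9,6,10,2,8,9],[9,5,10,9,2,2,6],[10,2,3,2,6,3,9],[9,7,6,10,5,9,6],[3,5,9,3,7,5,10]],
  [[3,8,4,2,5,1,5],[6,5,5,0,9,3,10],[2,9,9,1,3,1,0],[0,7,3,9,8,9,6],[3,6,6,3,10,7,2],[4,7,3,9,6,7,6],[2,7,10,1,7,8,8]],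
  [[0,2,5,2,4,8,8],[10,5,2,4,8,3,6],[3,1,1,1,9,9,6],[4,10,3,7,2,4,4],[8,9,9,7,3,7,8],[1,3,8,7,0,8,1],[8,1,9,8,6,9,9]],
  [[5,10,9,2,2,6,9],[1,3,10,5,1,9,2],[2,3,2,6,3,9,10],[6,7,5,1,9,2,6],[4,5,1,6,2,5,2],[2,5,1,9,3,2,3],[5,9,3,7,5,10,3]],
  [[8,2,10,7,8,7,1],[8,5,6,2,1,6,0],[9,0,3,8,6,7,9],[4,7,8,5,5,4,2],[10,8,7,6,6,3,9],[10,9,2,8,0,2,10],[7,3,6,10,2,6,3]],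
  [[6,8,0,7,6,0,6],[0,7,1,3,7,8,4],[6,7,4,2,3,4,5],[6,5,7,2,5,1,2],[8,6,4,9,7,7,5],[4,2,3,4,9,6,9],[0,4,8,6,7,0,10]],
  [[0,7,9,4,0,7,2],[7,4,10,10,7,10,7],[9,10,9,1,7,5,4],[4,10,1,5,9,9,7],[0,7,7,9,2,4,0],[7,10,5,9,4,1,9],[2,7,4,7,0,9,0]],
  [[7,5,6,7,1,6,5],[5,0,4,3,6,7,3],[4,7,10,6,5,6,5],[6,7,5,7,6,1,6],[3,3,5,8,6,5,8],[0,8,7,6,7,5,3],[3,6,6,0,7,7,8]],
  [[2,5,1,2,9,2,6],[2,10,3,10,5,10,2],[1,2,8,9,5,3,9],[6,5,7,5,1,2,9],[2,7,5,1,6,9,6],[3,9,5,1,9,8,9],[8,5,2,8,4,5,10]],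
  [[4,0,7,10,8,4,8],[2,5,5,4,9,6,1],[2,4,9,3,4,9,5],[6,5,8,0,4,5,0],[6,6,4,4,2,3,7],[6,8,5,4,9,7,4],[1,0,7,8,6,7,0]],
  [[5,10,9,3,2,8,9],[10,2,2,2,6,2,6],[3,9,6,3,9,1,9],[6,1,5,9,6,2,4],[2,3,4,6,1,3,5],[3,1,5,1,9,9,10],[4,5,10,2,9,6,6]],
  [[3,8,7,5,5,2,1],[6,6,10,5,2,7,2],[9,2,2,5,2,1,5],[1,9,6,4,2,6,6],[10,9,5,1,1,8,2],[10,3,2,9,8,5,2],[9,10,5,9,8,3,9]],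
  [[10,2,0,1,9,3,2],[9,3,5,2,0,3,7],[4,5,2,3,8,10,5],[7,3,5,2,4,5,7],[8,10,3,10,2,4,7],[1,4,6,9,3,6,8],[8,6,10,0,5,9,6]],
  [[10,3,3,7,5,5,9],[6,9,9,2,5,2,10],[2,1,9,6,10,10,8],[9,2,10,6,2,3,3],[9,6,5,10,5,2,4],[6,10,9,5,7,9,6],[9,10,8,2,9,8,6]],
  [[7,0,3,2,3,8,3],[8,9,4,8,0,3,8],[3,10,0,10,6,7,2],[3,3,3,0,2,8,7],[0,6,2,10,10,7,3],[9,1,8,5,1,4,0],[3,4,3,4,4,5,3]],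
  [[1,4,3,0,6,2,10],[10,7,0,2,1,8,5],[7,6,3,8,4,3,4],[3,8,8,7,0,8,9],[0,3,3,8,2,7,3],[5,4,2,8,10,0,10],[2,8,4,3,8,8,0]],
  [[3,6,6,3,10,7,2],[5,6,6,0,2,8,1],[7,4,8,2,5,4,5],[9,2,2,10,8,10,0],[2,7,10,1,7,8,8],[0,7,3,9,8,9,6],[8,3,7,9,6,10,6]],
  [[6,7,0,10,0,7,3],[3,7,3,4,0,4,10],[9,6,1,9,6,5,7],[4,9,5,9,7,9,8],[4,5,0,5,6,8,0],[9,8,4,6,6,7,4],[2,4,7,6,8,6,4]],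
  [[0,9,4,8,10,1,6],[8,4,8,5,5,2,10],[2,0,4,2,2,1,4],[9,2,10,9,3,8,5],[1,10,3,3,1,8,9],[0,9,4,2,0,1,3],[7,4,0,10,7,8,8]],
  [[7,6,0,0,8,7,1],[6,2,10,6,7,5,9],[3,7,0,6,0,6,5],[6,2,7,3,7,4,5],[7,8,8,0,10,4,4],[9,4,5,4,3,9,2],[7,9,4,5,7,8,5]],
  [[4,2,2,4,0,0,4],[4,7,0,2,0,9,7],[1,1,7,10,4,7,7],[1,5,2,2,7,7,10],[5,9,7,10,9,4,10],[9,4,0,4,2,0,7],[2,10,7,5,7,9,1]],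
  [[2,7,10,5,8,6,3],[8,5,9,1,1,10,2],[7,10,9,5,5,9,5],[5,2,9,9,1,3,8],[1,2,6,5,2,9,9],[3,5,2,9,2,3,1],[6,6,5,4,10,9,2]],
  [[5,2,0,7,0,0,0],[0,0,9,0,8,3,10],[0,0,3,0,3,9,1],[0,0,10,0,10,1,8],[9,4,0,5,0,0,0],[4,5,0,2,0,0,0],[0,0,8,0,9,3,10]],
  [[9,10,3,8,5,9,2],[6,2,2,2,10,2,6],[9,9,3,1,3,6,9],[4,1,9,2,6,5,6],[5,3,6,3,2,4,1],[10,1,1,9,3,5,9],[6,5,2,6,4,10,9]],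
  [[8,6,5,3,10,7,9],[2,4,10,10,4,3,8],[6,6,5,0,2,8,10],[0,7,8,9,8,9,5],[4,4,3,2,5,4,6],[8,8,7,2,5,1,6],[9,9,2,1,3,1,0]],
  [[5,1,2,2,10,8,1],[10,2,2,5,6,7,5],[9,3,9,3,9,6,10],[9,9,6,2,5,10,9],[5,8,9,1,2,3,2],[5,9,5,9,4,5,1],[7,5,1,3,6,2,8]],
  [[1,8,5,2,3,7,5],[2,9,1,8,10,5,1],[2,6,5,7,6,10,2],[2,3,9,5,10,2,8],[5,2,5,1,9,2,2],[9,10,9,3,9,5,8],[6,9,4,6,1,6,2]],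
  [[8,2,6,7,5,4,4],[7,9,5,1,6,3,3],[9,1,8,10,0,9,9],[5,8,10,7,9,3,5],[10,1,4,3,8,9,7],[5,0,2,8,10,5,5],[3,9,3,2,6,0,7]],
  [[1,0,4,0,8,9,9],[3,4,0,7,8,7,10],[1,0,4,1,5,9,3],[2,8,8,6,1,4,6],[1,2,4,9,7,0,9],[3,2,1,3,5,9,9],[3,10,8,1,9,1,3]],
  [[5,9,8,3,10,5,7],[3,6,9,7,5,7,4],[10,8,1,9,4,7,3],[4,5,2,8,6,8,10],[6,1,0,6,9,6,3],[2,0,10,2,3,2,1],[3,6,9,0,3,7,2]],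
  [[6,4,7,6,9,8,4],[4,0,3,1,6,0,4],[7,3,10,7,3,0,4],[5,10,4,9,2,6,6],[2,5,8,2,4,4,2],[8,0,0,5,7,6,5],[7,7,7,6,2,6,8]],
  [[5,2,9,9,5,2,10],[2,9,10,5,2,3,3],[6,10,2,5,4,2,5],[10,3,8,7,6,6,2],[9,10,9,5,10,10,8],[9,6,6,10,6,9,7],[2,1,8,9,9,8,6]],
  [[4,3,9,4,1,4,7],[0,6,4,3,2,2,8],[8,9,8,8,2,4,4],[1,9,8,5,5,4,3],[10,3,0,10,3,7,8],[8,10,9,5,1,1,9],[8,9,5,9,10,3,2]],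
  [[9,1,3,1,5,10,2],[3,9,6,1,2,3,2],[10,9,8,2,5,3,9],[3,6,2,3,4,5,10],[5,6,7,6,1,2,9],[2,5,10,2,2,9,5],[2,7,6,1,5,2,5]],
  [[9,2,1,3,10,5,1],[9,10,2,3,2,6,3],[9,5,5,4,6,10,2],[5,2,4,5,1,6,2],[9,8,9,6,10,2,8],[1,8,6,2,8,4,6],[5,2,6,1,2,9,9]],
  [[4,2,7,4,6,3,6],[8,5,7,0,1,0,4],[10,3,4,8,4,0,4],[7,9,5,10,9,5,5],[8,4,2,6,9,4,9],[0,7,5,0,6,6,3],[7,2,8,4,5,6,4]],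
  [[5,3,6,6,3,8,3],[7,3,5,7,3,5,0],[7,5,7,6,8,0,8],[1,6,6,6,5,4,4],[5,0,4,7,8,3,5],[6,7,5,1,6,6,4],[6,4,1,5,6,4,5]],
  [[10,6,2,2,4,7,1],[2,7,0,4,9,0,4],[4,2,9,7,0,0,4],[10,10,7,10,7,7,4],[5,9,4,1,9,7,10],[2,10,4,6,7,2,1],[4,7,0,9,0,2,7]],
  [[7,9,7,4,7,10,3],[4,0,8,10,1,8,3],[9,4,8,3,0,9,6],[1,2,2,6,8,1,1],[4,3,7,3,8,2,2],[8,5,2,9,3,1,9],[4,3,8,6,1,5,2]],
  [[3,8,3,0,9,3,7],[7,0,3,9,8,3,3],[0,6,9,10,10,7,8],[8,2,4,3,0,8,8],[2,1,3,5,1,4,0],[8,10,0,10,6,7,9],[8,4,8,4,4,5,8]],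
  [[3,5,7,2,9,0,3],[6,6,8,9,1,3,4],[1,9,6,8,7,3,6],[9,10,6,0,8,5,6],[6,6,4,9,4,7,8],[8,0,9,10,1,2,9],[7,8,4,1,3,9,1]],
  [[5,7,4,10,5,5,6],[3,3,6,5,0,4,4],[6,5,4,5,4,6,1],[5,4,6,6,4,1,6],[8,8,8,5,3,6,5],[8,5,0,7,3,5,4],[8,0,8,4,6,4,6]],
  [[2,8,2,5,8,2,10],[7,5,10,6,2,5,9],[5,2,3,4,6,1,3],[10,3,1,5,1,9,9],[5,7,6,1,9,2,5],[9,5,10,9,3,2,8],[5,1,9,9,9,5,9]],
  [[4,4,2,2,4,0,0],[4,10,10,4,1,7,4],[10,5,9,7,10,9,4],[10,9,1,4,6,4,2],[4,7,4,0,9,0,2],[1,10,6,9,9,4,4],[7,9,4,0,4,2,0]],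
  [[5,1,4,0,9,1,8],[9,8,3,8,4,0,8],[1,5,4,9,8,1,0],[1,1,4,8,0,5,9],[4,4,5,3,3,4,3],[8,0,3,8,8,9,4],[0,9,3,4,8,8,8]],
  [[2,5,2,4,2,8,4],[7,0,10,0,7,8,5],[6,0,6,5,3,0,4],[7,8,4,0,4,1,8],[8,7,6,6,7,7,2],[6,10,9,6,5,4,2],[7,7,5,3,5,4,2]],
  [[10,0,4,3,5,4,0],[5,6,3,0,7,6,0],[7,0,4,1,3,7,3],[6,6,4,4,2,3,7],[2,5,5,4,9,6,1],[5,3,6,7,2,4,7],[2,4,9,3,4,9,5]],
  [[10,8,10,5,10,9,9],[9,6,1,9,8,2,8],[2,3,9,5,3,2,10],[6,2,3,7,6,10,8],[6,7,6,10,9,9,6],[5,10,2,9,2,5,9],[4,5,10,5,2,6,2]]]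

def elts2 : List LMat := [
  [[0,8,7,1,7,6,0],[6,7,5,9,6,2,10],[6,0,6,5,3,7,0],[3,7,4,5,6,2,7],[0,10,4,4,7,8,8],[4,3,9,2,9,4,5],[5,7,8,5,7,9,4]],
  [[8,4,2,4,7,4,1],[9,7,8,4,8,3,9],[3,4,0,8,10,1,8],[9,8,5,2,9,3,1],[5,2,7,3,8,0,2],[2,4,3,8,6,1,5],[10,10,9,9,5,3,10]],
  [[6,9,4,5,4,7,8],[0,10,9,3,9,10,9],[8,1,2,4,4,8,1],[6,9,0,3,4,9,8],[5,2,3,6,3,1,7],[9,8,8,10,6,4,6],[1,0,5,9,5,8,5]],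
  [[4,5,6,4,7,2,8],[0,10,0,7,3,6,4],[1,2,6,6,4,2,6],[0,5,5,8,0,4,6],[4,6,3,6,4,2,7],[8,4,0,4,10,3,4],[5,2,7,2,3,7,9]],
  [[8,1,10,10,8,3,2],[5,3,5,7,9,3,10],[9,0,0,9,1,4,8],[9,2,9,0,1,4,7],[1,7,4,4,8,0,3],[9,2,3,9,3,1,5],[8,0,10,2,10,7,6]],
  [[2,1,3,9,8,9,5],[4,1,7,7,7,8,2],[3,2,9,8,0,5,7],[3,9,4,7,8,9,8],[5,5,7,3,10,2,3],[1,8,7,3,10,3,0],[6,10,1,2,8,10,9]],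
  [[3,5,9,2,2,1,3],[1,8,5,2,9,9,8],[3,9,7,10,5,3,5],[5,4,10,9,5,6,2],[2,1,9,5,6,2,9],[9,6,5,6,7,10,9],[2,3,5,9,1,10,1]],
  [[7,2,8,10,6,3,5],[0,1,4,4,9,9,2],[9,8,10,5,2,2,3],[10,3,8,2,3,1,10],[9,10,7,8,2,0,0],[7,8,0,8,1,4,7],[9,10,7,5,8,0,1]],
  [[9,4,9,6,6,1,5],[2,1,5,2,9,2,6],[9,5,5,1,9,5,4],[1,8,2,1,2,5,10],[8,5,2,1,8,2,2],[8,3,9,2,1,5,2],[6,9,10,3,8,4,5]],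
  [[5,2,7,3,8,0,2],[1,1,2,2,6,8,1],[9,7,8,4,8,3,9],[2,3,6,9,2,8,10],[9,7,8,3,5,10,6],[3,7,9,7,4,7,10],[3,4,0,8,10,1,8]],
  [[5,7,5,3,0,3,7],[0,4,4,3,3,6,5],[7,10,5,6,7,5,5],[8,6,7,3,6,0,4],[6,6,5,6,4,7,1],[4,6,1,6,5,4,5],[3,6,5,8,8,8,5]],
  [[3,2,0,0,2,10,7],[8,10,4,7,7,3,0],[5,3,0,1,9,1,4],[10,5,3,5,7,9,3],[7,9,2,9,0,1,4],[6,2,9,8,2,8,10],[2,8,1,10,10,8,3]],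
  [[4,7,5,9,3,7,5],[6,3,2,7,4,2,2],[0,8,1,5,0,4,4],[0,0,5,4,6,5,8],[3,10,4,3,0,7,4],[7,7,5,2,5,3,4],[1,7,9,9,6,6,5]],
  [[6,9,2,2,10,9,5],[2,9,8,10,8,6,9],[4,10,9,2,6,6,5],[5,8,6,3,2,7,10],[10,10,1,9,3,6,2],[5,5,9,5,7,10,9],[2,10,8,3,6,9,2]],
  [[2,6,5,5,1,7,2],[7,7,2,9,5,8,2],[7,6,6,8,0,0,6],[9,5,8,4,7,7,6],[2,3,4,5,4,7,6],[5,0,4,7,0,3,1],[3,0,7,7,8,1,4]],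
  [[7,0,1,0,4,8,5],[5,0,6,6,3,0,7],[4,8,4,0,4,10,3],[8,4,5,6,4,7,2],[5,10,9,5,5,7,9],[7,4,6,3,6,4,2],[2,6,9,4,9,8,4]],
  [[8,0,9,1,10,9,9],[7,3,4,10,8,2,1],[3,6,7,9,2,0,3],[6,5,8,2,10,8,4],[1,2,6,3,4,8,6],[9,1,6,0,3,6,6],[6,5,4,2,7,4,8]],
  [[9,5,1,9,8,9,3],[5,2,8,4,5,10,8],[5,1,2,9,2,6,2],[10,3,10,5,10,2,2],[2,8,9,5,3,9,1],[5,7,5,1,2,9,6],[7,5,1,6,9,6,2]],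
  [[2,9,4,7,1,1,5],[0,4,2,0,7,2,7],[9,4,0,0,4,7,9],[7,1,7,7,4,1,1],[4,10,9,7,10,6,2],[7,6,4,9,10,2,10],[0,9,0,9,4,4,7]],
  [[7,4,10,10,7,10,7],[7,10,5,9,4,1,9],[2,1,2,10,4,6,7],[2,7,4,7,0,9,0],[7,1,10,6,2,2,4],[0,4,2,7,0,4,9],[0,4,4,2,9,7,0]],
  [[7,0,1,4,3,3,4],[4,8,5,5,2,10,8],[9,1,2,8,3,6,2],[2,7,9,0,10,8,0],[2,7,3,1,10,5,0],[0,4,2,2,1,4,2],[10,3,3,1,8,9,1]],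
  [[5,5,3,2,10,8,7],[10,2,5,3,4,8,5],[9,10,6,0,8,5,6],[6,6,4,9,4,7,8],[3,0,2,1,10,9,2],[7,8,4,1,3,9,1],[8,6,4,9,2,0,8]],
  [[9,7,0,4,9,0,7],[7,2,2,7,0,0,7],[1,10,4,10,7,7,7],[5,2,4,10,2,4,10],[2,1,4,5,4,9,1],[7,7,0,9,0,2,4],[10,5,2,9,7,4,1]],
  [[9,6,3,9,1,9,3],[6,1,9,2,5,5,7],[10,6,2,5,9,7,5],[1,2,8,9,3,2,6],[3,4,6,1,3,5,2],[2,2,2,6,2,6,10],[10,6,10,2,2,1,8]],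
  [[4,4,4,0,9,0,9],[7,2,4,0,4,9,0],[4,1,10,4,1,4,7],[1,9,10,7,5,4,2],[10,10,5,2,2,4,4],[4,7,2,2,4,0,0],[1,5,2,4,1,9,4]],
  [[5,0,4,4,3,3,6],[4,8,6,7,3,6,0],[6,7,5,10,5,6,7],[7,5,7,5,3,0,3],[6,4,1,6,5,4,6],[10,5,5,6,5,7,4],[6,8,5,6,3,3,3]],
  [[3,3,4,5,6,2,1],[5,6,10,6,2,4,9],[2,2,2,6,2,10,6],[1,2,5,4,9,6,6],[1,9,5,10,1,3,9],[10,8,9,9,3,5,2],[9,1,6,9,3,3,9]],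
  [[8,1,0,0,8,0,9],[3,10,0,0,2,0,3],[1,8,0,0,1,0,1],[0,0,4,6,0,2,0],[0,0,6,2,0,4,0],[2,10,0,0,3,0,3],[0,0,9,7,0,5,0]],
  [[8,8,10,5,7,6,2],[10,9,7,4,8,10,8],[0,6,2,5,8,6,1],[9,0,3,7,2,8,5],[2,7,6,4,7,3,6],[2,3,6,8,10,7,6],[10,9,3,2,1,9,0]],
  [[0,0,2,0,3,3,10],[4,6,0,2,0,0,0],[0,0,3,0,3,2,10],[0,0,8,0,9,8,1],[0,0,1,0,1,1,8],[6,2,0,4,0,0,0],[9,7,0,5,0,0,0]],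
  [[9,8,5,6,7,3,10],[3,9,4,10,7,7,7],[3,0,10,8,4,8,1],[5,7,8,2,2,3,0],[1,2,6,1,1,2,8],[9,8,8,9,7,4,3],[2,6,2,10,3,9,8]],
  [[9,4,7,1,1,5,2],[7,9,0,4,9,4,0],[7,0,0,7,4,2,2],[10,4,4,7,10,10,4],[10,9,7,10,6,2,4],[6,4,9,10,2,10,7],[2,0,2,7,7,4,0]],
  [[10,9,7,2,4,0,2],[3,4,0,7,8,7,10],[3,2,1,3,5,9,9],[10,0,7,10,6,2,8],[3,10,8,1,9,1,3],[9,3,3,5,10,7,5],[10,0,7,0,3,2,2]],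
  [[3,2,7,7,9,2,5],[8,1,5,0,7,4,0],[0,6,7,6,5,3,0],[1,7,8,0,7,7,3],[7,5,2,6,8,4,4],[4,2,2,6,6,6,1],[7,5,9,8,4,5,7]],
  [[3,5,8,9,0,7,9],[4,9,8,4,8,8,2],[8,2,6,7,10,3,6],[3,8,1,4,1,0,8],[2,1,6,10,3,2,10],[2,9,9,3,8,5,10],[7,3,4,4,4,9,1]],
  [[4,6,6,7,4,9,8],[7,6,8,6,4,2,4],[0,10,0,7,3,6,7],[3,4,0,4,10,3,7],[1,9,6,5,7,9,6],[5,9,7,9,8,4,9],[0,5,6,8,0,4,5]],
  [[10,8,7,3,4,0,7],[7,9,3,7,5,6,7],[4,9,5,10,2,6,5],[4,9,4,7,6,3,5],[3,4,2,6,2,7,9],[3,5,7,0,10,0,4],[0,7,5,0,5,5,3]],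
  [[0,8,10,10,3,3,7],[2,2,6,3,10,1,10],[6,9,2,3,1,2,8],[2,4,7,7,10,8,7],[4,8,3,0,2,6,2],[8,4,8,8,2,9,4],[3,8,6,10,6,2,7]],
  [[2,6,6,5,10,4,9],[7,7,9,9,6,3,9],[7,6,5,8,0,0,5],[9,5,3,4,4,4,5],[2,3,7,5,7,4,5],[5,0,7,7,0,8,10],[3,0,4,7,3,10,7]],
  [[7,1,6,9,3,1,0],[8,5,1,7,5,9,8],[7,9,4,0,9,1,9],[10,3,6,9,9,3,9],[3,1,2,1,3,3,1],[4,0,8,2,2,10,0],[0,4,8,4,1,8,4]],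
  [[2,4,9,5,6,10,6],[2,5,5,10,9,6,7],[3,5,2,10,8,9,9],[5,9,10,8,8,7,6],[9,1,5,9,9,9,5],[10,8,2,10,2,6,1],[3,3,9,9,1,6,9]],
  [[1,6,4,6,2,6,2],[6,4,8,2,9,9,4],[0,6,0,5,6,3,7],[7,5,4,3,6,7,9],[4,3,4,7,6,6,2],[0,0,3,4,10,7,6],[3,0,1,7,7,7,8]],
  [[4,4,10,6,5,5,6],[5,7,6,4,5,1,6],[8,3,6,3,5,5,8],[0,3,7,6,7,6,8],[8,6,5,0,4,7,8],[7,6,6,7,1,5,6],[5,0,4,3,6,4,8]],
  [[7,8,5,1,2,6,8],[3,5,6,2,10,5,0],[4,4,3,6,5,4,9],[1,9,2,8,0,9,10],[3,2,10,7,3,4,1],[2,0,3,8,5,4,9],[10,3,4,5,6,3,2]],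
  [[6,9,10,5,9,9,2],[7,9,5,6,1,2,6],[10,10,3,2,10,2,5],[2,3,6,2,10,8,2],[2,3,8,9,9,1,5],[6,6,9,1,3,3,7],[6,9,4,2,6,5,10]],
  [[6,9,8,1,0,4,10],[2,1,8,3,10,8,10],[10,4,5,2,8,8,5],[8,2,9,10,0,7,0],[7,0,9,10,9,7,9],[3,7,1,3,4,0,4],[5,2,9,8,9,10,3]],
  [[1,8,8,9,10,1,3],[8,3,9,10,1,8,10],[8,9,1,10,3,10,8],[9,10,10,3,10,3,3],[10,1,3,10,3,8,2],[1,8,10,3,8,9,1],[3,10,8,3,2,1,1]],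
  [[8,3,3,6,3,6,6],[3,8,5,6,0,4,7],[8,6,0,4,3,5,7],[6,6,7,6,4,6,10],[8,0,3,7,6,4,5],[5,7,5,5,4,1,5],[5,4,7,1,5,5,5]],
  [[3,10,3,0,10,8,4],[9,8,9,6,9,1,8],[3,0,6,7,3,9,9],[8,1,9,3,5,6,7],[2,8,10,2,5,10,10],[4,4,3,2,4,10,7],[7,8,9,3,8,9,7]],
  [[1,1,2,8,1,2,6],[10,3,9,8,2,6,2],[1,4,4,4,8,2,7],[2,2,3,0,5,7,8],[2,4,7,8,2,3,3],[5,4,8,1,2,3,6],[3,7,3,10,8,0,1]]]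

def elts3 : List LMat := [
  [[4,5,7,6,3,0,8],[6,7,10,6,6,4,6],[1,5,5,5,5,4,7],[6,3,6,6,8,3,3],[5,0,7,4,8,3,6],[4,3,5,7,8,6,0],[5,7,5,1,5,5,4]],
  [[1,10,1,2,2,5,3],[1,3,4,2,4,4,7],[2,9,4,3,7,8,3],[8,8,4,0,8,1,10],[1,2,8,5,2,2,8],[2,6,2,7,3,3,0],[6,2,7,8,3,6,1]],
  [[3,9,3,8,2,4,7],[10,8,0,1,8,4,8],[3,9,6,9,10,3,9],[0,6,7,3,2,2,3],[10,9,3,5,5,4,8],[8,1,9,6,10,10,9],[4,8,9,7,10,7,7]],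
  [[9,3,3,6,9,9,10],[2,0,10,8,0,2,4],[8,10,10,5,0,2,4],[9,9,1,4,9,0,7],[8,10,8,9,10,10,8],[10,7,3,3,7,7,0],[6,6,2,10,3,4,3]],
  [[4,8,10,3,0,1,3],[2,3,0,5,4,3,9],[10,9,8,10,2,6,1],[7,4,8,9,3,3,2],[8,2,8,9,6,2,10],[4,8,10,2,8,5,6],[4,4,7,8,9,4,10]],
  [[6,4,4,1,5,5,6],[3,3,5,5,0,7,7],[6,5,7,5,7,5,10],[6,7,6,5,4,1,6],[8,8,3,5,8,5,6],[3,6,0,4,3,5,4],[3,0,8,7,6,4,6]],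
  [[9,5,2,6,1,2,9],[9,6,9,7,6,10,5],[1,9,2,1,3,10,5],[3,2,3,2,5,1,9],[8,2,1,9,8,9,5],[5,10,3,5,9,3,7],[2,9,5,5,4,6,10]],
  [[4,2,10,7,8,4,4],[8,3,9,4,2,8,4],[10,0,8,8,8,10,7],[3,5,10,9,9,2,8],[0,4,2,3,6,8,9],[1,3,6,3,2,5,4],[3,9,1,2,10,6,10]],
  [[9,2,2,0,10,7,4],[8,1,1,10,3,8,9],[10,4,4,7,8,0,3],[5,3,6,7,2,8,1],[2,9,3,2,3,1,5],[2,0,0,2,1,4,8],[3,0,10,9,10,7,6]],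
  [[9,9,1,3,8,5,2],[5,6,9,2,2,10,9],[2,9,2,3,1,3,5],[6,7,1,2,9,5,5],[1,6,3,5,8,9,4],[2,10,10,1,9,3,6],[9,5,5,9,5,7,10]],
  [[6,7,3,2,2,3,0],[9,3,5,5,4,8,10],[1,9,6,10,10,9,8],[8,9,7,10,7,7,4],[9,3,8,2,4,7,3],[8,0,1,8,4,8,10],[9,6,9,10,3,9,3]],
  [[6,3,6,6,8,3,3],[4,3,5,7,8,6,0],[4,5,7,6,3,0,8],[1,5,5,5,5,4,7],[5,0,7,4,8,3,6],[5,7,5,1,5,5,4],[6,7,10,6,6,4,6]],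
  [[8,1,9,6,10,10,9],[8,2,5,2,1,8,2],[4,8,9,7,10,7,7],[0,5,4,8,9,9,8],[8,2,8,3,9,7,4],[1,2,8,6,6,7,3],[10,8,0,1,8,4,8]],
  [[9,8,10,5,2,2,3],[2,1,4,3,9,0,0],[2,1,4,6,3,0,10],[0,10,7,7,2,2,9],[10,3,8,2,3,1,10],[7,8,0,8,1,4,7],[4,9,3,1,5,8,6]],
  [[6,10,5,2,5,9,4],[9,3,7,6,1,3,6],[3,10,5,10,2,2,10],[7,5,1,2,9,6,5],[6,10,2,3,2,8,2],[1,2,9,2,6,2,5],[3,2,6,8,2,10,9]],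
  [[0,0,3,4,10,4,5],[0,5,0,5,6,8,4],[3,0,1,7,7,4,3],[4,5,7,8,5,7,9],[10,6,7,5,9,6,2],[4,8,4,7,6,5,9],[5,4,3,9,2,9,4]],
  [[0,0,7,7,9,2,4],[0,2,7,4,7,0,9],[7,7,4,10,10,7,10],[7,4,10,1,5,9,9],[9,7,10,5,9,4,1],[2,0,7,9,4,0,7],[4,9,10,9,1,7,5]],
  [[4,3,3,6,10,6,9],[7,0,8,1,1,8,3],[1,2,9,6,3,10,10],[3,6,2,2,3,1,9],[4,2,7,7,7,10,3],[2,7,8,8,0,9,6],[4,3,4,3,3,9,9]],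
  [[3,0,3,3,8,2,7],[5,10,7,0,2,1,8],[10,5,4,2,8,10,0],[4,7,6,3,8,4,3],[0,2,8,4,3,8,8],[9,3,8,8,7,0,8],[10,1,4,3,0,6,2]],
  [[3,7,3,5,1,2,5],[0,8,5,5,9,1,5],[2,4,7,3,6,5,7],[1,1,2,2,8,0,2],[10,3,9,10,7,3,7],[9,9,0,8,3,6,4],[2,1,3,7,6,5,3]],
  [[2,9,10,0,7,0,8],[0,9,10,9,7,9,7],[7,1,3,4,0,4,3],[2,9,8,9,10,3,5],[9,8,1,0,4,10,6],[1,8,3,10,8,10,2],[4,5,2,8,8,5,10]],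
  [[3,5,10,4,0,9,10],[0,10,5,7,2,3,1],[3,7,4,6,8,8,4],[3,0,2,3,4,8,3],[8,2,8,8,3,7,0],[2,1,10,4,8,0,6],[7,8,0,3,8,8,2]],
  [[3,0,2,1,10,9,2],[7,8,4,1,3,9,1],[3,5,7,2,9,0,3],[5,5,3,2,10,8,7],[1,9,6,8,7,3,6],[2,1,5,0,3,6,5],[5,5,7,2,7,4,3]],
  [[6,9,1,8,9,8,9],[7,3,9,9,3,0,6],[3,5,6,7,8,1,9],[2,5,10,10,2,8,10],[2,4,10,7,4,4,3],[3,8,9,7,7,8,9],[0,10,8,4,3,10,3]],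
  [[3,9,7,10,5,3,5],[2,1,9,5,6,2,9],[2,3,5,9,1,10,1],[1,8,5,2,9,9,8],[5,4,10,9,5,6,2],[9,6,5,6,7,10,9],[3,5,9,2,2,1,3]],
  [[3,10,3,8,2,10,1],[10,3,8,9,1,1,8],[3,8,9,10,10,8,1],[8,9,10,1,3,1,8],[2,1,10,3,1,3,8],[10,1,8,1,3,3,2],[1,8,1,8,8,2,1]],
  [[1,2,5,8,4,3,6],[2,10,6,0,8,6,5],[5,6,4,2,4,4,3],[8,0,2,10,10,2,9],[4,8,4,10,3,2,10],[3,6,4,2,2,0,3],[6,5,3,9,10,3,4]],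
  [[6,9,3,7,6,1,3],[10,3,10,5,10,2,2],[5,7,5,1,2,9,6],[2,6,10,2,3,2,8],[5,1,2,9,2,6,2],[9,3,2,6,8,2,10],[4,6,10,5,2,5,9]],
  [[6,0,5,5,8,7,0],[3,4,7,5,5,2,7],[0,1,7,4,4,8,8],[7,3,9,9,9,7,6],[6,7,8,6,7,2,7],[0,3,4,1,4,6,0],[5,7,5,2,6,9,1]],
  [[5,3,3,3,5,3,5],[4,3,6,0,7,3,6],[6,3,0,3,4,6,7],[6,6,4,7,10,5,6],[4,8,8,5,5,0,7],[1,5,6,7,5,4,5],[6,6,7,5,6,4,10]],
  [[8,8,4,0,8,1,10],[1,2,8,5,2,2,8],[9,5,9,4,8,8,0],[6,2,7,8,3,6,1],[10,1,10,9,9,6,8],[10,8,7,9,7,7,4],[9,2,7,8,4,3,8]],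
  [[3,7,0,5,0,5,5],[7,9,7,6,7,3,5],[5,9,7,3,4,4,6],[4,5,0,0,3,7,10],[7,8,3,0,10,7,4],[5,9,10,6,4,5,2],[9,4,6,7,3,2,2]],
  [[0,10,7,8,3,4,4],[7,8,10,1,5,0,9],[3,5,5,2,1,3,4],[4,9,9,10,4,2,0],[10,2,8,3,5,9,9],[8,3,1,8,2,10,10],[4,9,0,10,3,0,2]],
  [[2,3,10,9,6,1,10],[2,8,2,6,9,1,3],[7,4,8,2,4,10,4],[8,0,5,7,3,9,2],[7,3,9,8,3,2,7],[8,10,9,8,6,5,7],[8,10,8,0,10,8,7]],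
  [[6,4,9,5,1,9,6],[9,8,7,9,6,2,4],[3,0,4,6,0,5,6],[4,7,9,3,4,6,6],[5,7,2,7,7,6,8],[7,3,5,7,0,1,0],[4,10,8,7,8,7,0]],
  [[4,7,1,3,4,2,4],[3,0,2,6,2,7,3],[3,8,9,2,7,8,4],[6,1,6,2,7,8,3],[10,1,3,3,7,0,3],[6,8,10,1,10,9,9],[9,3,10,9,3,6,9]],
  [[3,9,10,1,8,3,1],[3,8,4,7,0,10,7],[9,10,3,7,3,5,5],[3,5,2,9,1,9,3],[10,3,0,2,7,2,0],[10,6,0,2,7,8,10],[10,4,9,0,7,2,2]],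
  [[5,9,9,1,9,8,8],[2,10,10,3,8,1,3],[3,0,2,7,2,0,1],[8,7,7,0,10,4,8],[6,0,2,7,8,1,1],[1,3,4,8,6,5,9],[7,9,0,4,9,2,10]],
  [[9,1,3,5,10,7,0],[3,4,8,4,7,6,8],[7,0,8,2,8,3,8],[8,9,7,8,0,8,3],[3,10,0,10,5,4,9],[3,3,8,0,9,3,4],[0,6,9,10,1,4,8]],
  [[2,4,1,7,7,7,8],[4,8,9,2,3,0,6],[3,8,2,7,4,3,2],[8,6,6,4,8,1,9],[0,1,8,7,3,10,3],[9,6,10,1,2,8,10],[6,9,10,8,2,3,2]],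
  [[1,6,5,6,6,7,7],[6,0,4,4,8,3,5],[5,4,5,10,6,6,4],[5,7,1,6,6,4,5],[5,3,5,6,8,3,8],[7,3,6,7,8,6,0],[4,6,7,5,8,0,8]],
  [[3,0,9,4,2,0,1],[5,0,2,7,3,1,10],[7,9,0,7,9,9,10],[2,10,1,8,8,10,3],[8,7,4,0,10,7,8],[10,8,4,8,5,5,2],[6,2,9,1,2,8,3]],
  [[5,5,9,1,8,7,8],[9,3,3,6,9,9,10],[2,0,10,8,0,2,4],[3,1,1,6,0,9,7],[9,9,1,4,9,0,7],[3,1,3,2,1,1,3],[1,4,8,8,4,4,0]],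
  [[5,6,4,6,5,4,10],[4,8,6,0,7,8,5],[6,5,4,7,10,6,5],[1,6,6,7,5,7,6],[6,3,8,8,6,3,5],[5,3,0,8,7,6,7],[4,3,8,5,5,0,4]],
  [[7,4,9,2,5,8,9],[9,6,3,7,7,7,5],[5,0,7,4,0,3,10],[2,5,6,6,1,7,9],[7,5,5,3,0,0,5],[2,8,7,6,4,7,5],[3,0,4,4,8,1,7]],
  [[8,2,10,7,8,7,1],[9,0,3,8,6,7,9],[1,3,4,5,5,8,2],[7,3,6,10,2,6,3],[3,6,5,9,10,5,0],[7,4,3,6,6,7,9],[1,2,9,3,0,9,1]],
  [[7,2,8,1,5,3,6],[9,8,10,6,9,2,8],[2,1,4,8,2,0,0],[2,1,4,5,8,0,1],[0,1,4,7,2,9,9],[1,8,3,2,3,10,10],[7,8,0,3,10,4,4]],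
  [[2,0,7,2,9,1,4],[9,9,1,9,8,8,5],[10,10,3,8,1,3,2],[0,9,4,9,0,10,8],[7,7,0,10,4,8,8],[0,9,4,3,10,10,5],[8,7,3,5,6,2,10]],
  [[8,8,3,6,3,5,5],[8,0,3,7,6,7,6],[8,8,6,5,0,4,7],[6,7,6,6,7,1,5],[8,5,0,4,3,6,4],[6,4,4,10,6,5,5],[6,5,7,6,4,5,1]],
  [[4,2,2,9,0,1,7],[8,10,7,4,7,8,0],[6,2,2,3,2,3,10],[5,3,0,10,9,10,4],[9,3,1,10,1,8,8],[1,6,3,5,4,9,8],[3,2,0,0,2,1,7]]]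

def elts4 : List LMat := [
  [[7,8,3,7,7,0,1],[3,8,6,9,9,1,2],[1,10,6,0,9,4,8],[1,8,2,1,1,8,8],[6,9,10,3,4,8,5],[0,10,3,0,9,4,2],[9,10,4,9,0,4,2]],
  [[9,2,1,3,8,6,9],[9,9,9,8,10,3,5],[1,5,3,5,8,2,7],[9,6,5,9,5,4,1],[5,5,9,2,2,1,2],[5,7,10,9,2,5,5],[9,10,1,10,2,3,6]],
  [[3,5,7,2,8,10,6],[0,0,9,10,7,8,2],[9,2,0,1,4,4,9],[4,7,7,8,0,8,1],[2,3,9,8,10,5,2],[0,1,9,10,7,5,8],[1,10,10,3,8,2,3]],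
  [[5,9,2,3,9,3,1],[5,3,0,1,9,1,4],[9,3,10,1,1,3,8],[1,6,8,6,4,2,8],[8,9,0,0,9,1,4],[7,9,2,9,0,1,4],[8,10,4,7,7,3,0]],
  [[4,7,0,9,0,9,4],[1,1,7,1,7,7,4],[1,5,2,9,4,7,1],[6,2,4,10,9,7,10],[2,7,0,4,2,0,7],[2,10,7,6,4,9,10],[7,9,9,4,0,0,4]],
  [[2,2,9,1,3,3,6],[4,10,6,3,5,3,2],[2,5,5,2,9,2,10],[5,2,1,1,10,9,3],[5,9,9,2,3,10,8],[1,9,6,6,2,5,7],[5,5,7,1,2,2,6]],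
  [[8,9,1,10,3,3,1],[9,1,3,7,3,6,6],[1,3,0,9,4,2,0],[10,7,9,0,7,9,9],[3,3,4,7,0,1,4],[3,6,2,9,1,2,8],[1,6,0,9,4,8,10]],
  [[3,2,2,1,5,9,3],[9,1,3,8,4,6,5],[7,9,5,5,10,5,9],[10,5,9,2,9,6,2],[5,6,1,9,5,7,2],[3,2,10,9,6,10,1],[5,9,1,8,2,9,3]],
  [[8,7,8,5,5,9,1],[2,2,1,2,8,8,5],[0,2,4,2,0,10,8],[0,2,4,8,10,10,5],[2,0,4,2,2,10,7],[10,10,8,8,10,8,9],[4,4,0,1,4,8,8]],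
  [[7,4,10,6,6,6,6],[5,4,5,7,5,1,5],[8,8,5,8,5,5,3],[0,3,7,6,4,5,8],[8,5,6,0,4,7,3],[4,6,6,7,10,6,6],[6,0,4,3,5,7,8]],
  [[7,10,4,5,0,0,3],[4,7,4,3,8,0,1],[6,9,6,2,1,5,7],[9,9,2,7,5,4,8],[5,5,3,7,0,5,0],[3,5,7,9,7,6,7],[7,5,6,2,4,8,7]],
  [[8,10,2,3,6,6,7],[2,3,1,2,6,10,10],[4,7,8,2,7,10,7],[4,8,9,8,8,2,4],[8,10,3,0,10,3,7],[9,3,2,6,2,1,8],[8,0,6,4,3,2,2]],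
  [[8,1,1,10,9,2,5],[4,1,8,7,9,4,4],[3,9,9,4,3,4,3],[1,8,3,7,0,8,1],[8,10,2,8,5,9,9],[0,9,6,2,7,8,8],[1,5,2,7,8,8,5]],
  [[3,10,0,9,2,2,1],[3,9,5,0,7,3,2],[10,4,2,8,5,5,3],[5,7,5,4,7,3,2],[4,8,3,2,7,10,10],[6,1,6,3,8,4,9],[9,8,10,5,6,6,0]],
  [[2,0,1,4,4,2,2],[4,7,3,0,3,1,4],[3,2,8,10,5,9,9],[1,2,10,7,5,3,0],[10,1,3,8,2,8,10],[6,7,9,3,1,6,3],[0,9,1,4,3,2,0]],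
  [[2,1,10,2,9,3,0],[7,10,8,9,1,4,8],[7,2,9,0,8,3,6],[3,2,10,3,4,5,6],[6,8,7,8,5,1,2],[6,0,8,6,5,9,1],[4,9,4,4,3,6,5]],
  [[4,7,9,9,4,0,0],[1,5,9,7,1,2,4],[4,4,7,0,9,0,9],[4,9,4,0,7,9,0],[7,10,10,4,10,4,4],[1,9,1,4,5,7,2],[1,1,5,2,9,4,7]],
  [[5,6,7,2,7,7,8],[4,8,7,10,8,9,1],[5,6,3,2,10,3,4],[2,10,5,0,3,5,6],[3,0,2,1,10,2,9],[8,5,4,9,2,0,3],[10,9,5,3,4,3,6]],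
  [[10,3,7,3,1,3,0],[2,1,8,2,8,2,5],[3,2,2,3,0,6,7],[5,5,4,8,10,9,3],[5,1,1,2,3,10,2],[7,10,7,7,4,8,9],[3,9,7,4,8,2,8]],
  [[4,8,1,9,8,6,6],[4,8,1,8,0,10,3],[1,2,8,10,9,6,10],[3,9,8,9,5,2,1],[4,4,4,3,9,7,10],[9,8,0,5,7,3,2],[7,4,3,2,3,8,2]],
  [[10,2,7,1,5,9,4],[4,9,0,4,9,4,0],[6,7,9,1,9,1,7],[4,0,0,7,4,2,9],[9,0,9,7,7,4,0],[1,4,7,7,10,10,7],[9,7,7,10,10,6,2]],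
  [[8,4,4,7,5,2,6],[4,5,7,7,5,9,8],[4,7,0,3,10,6,0],[7,7,3,1,7,8,0],[5,5,10,7,9,9,5],[2,9,6,8,9,4,4],[6,8,0,0,5,4,5]],
  [[6,3,2,1,2,8,2],[1,9,9,5,6,4,5],[6,2,6,9,4,6,1],[2,8,2,3,9,5,10],[4,6,10,3,6,9,8],[2,2,5,2,5,1,9],[6,10,9,2,10,3,1]],
  [[1,9,8,2,6,8,9],[3,5,9,8,4,5,1],[6,6,7,6,10,9,9],[9,5,10,2,9,2,5],[9,7,6,1,6,9,5],[9,10,8,10,5,10,9],[3,2,5,10,2,3,9]],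
  [[2,7,7,7,0,2,0],[7,4,1,10,4,1,4],[7,1,1,6,9,9,7],[7,10,6,9,7,10,2],[0,4,9,7,0,7,2],[2,1,9,10,7,5,4],[0,4,7,2,2,4,0]],
  [[6,7,5,9,6,2,10],[5,0,5,6,8,4,0],[3,7,4,5,6,2,7],[0,1,7,7,4,3,3],[7,8,2,9,2,7,6],[6,4,3,6,4,2,7],[0,8,7,1,7,6,0]],
  [[3,8,2,2,1,6,2],[6,9,10,8,3,4,6],[9,4,9,5,5,1,6],[2,1,5,9,2,2,5],[2,6,6,1,9,6,4],[10,3,9,1,2,6,10],[8,5,2,10,3,2,9]],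
  [[1,0,7,10,5,9,8],[1,9,7,2,7,0,2],[8,10,8,1,2,10,3],[3,7,0,4,8,7,1],[9,8,8,6,10,7,6],[8,2,1,3,6,2,9],[10,0,4,0,3,2,9]],
  [[9,9,1,9,5,5,9],[2,9,5,6,5,7,10],[1,9,3,5,9,10,1],[3,8,5,9,2,9,10],[8,10,8,5,2,2,2],[6,3,2,4,1,5,3],[9,5,7,1,2,5,6]],
  [[3,3,9,3,10,10,10],[9,8,10,5,3,6,4],[10,4,3,2,0,0,9],[1,7,7,9,2,2,0],[8,0,3,1,7,7,7],[3,10,5,9,2,8,2],[1,7,5,3,0,10,2]],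
  [[8,2,0,0,2,10,4],[7,2,2,2,0,10,4],[8,1,4,4,4,8,0],[5,2,2,8,2,8,1],[5,8,0,10,2,10,4],[9,8,10,10,10,8,8],[1,5,8,5,7,9,8]],
  [[4,9,3,5,9,0,3],[7,4,8,6,2,4,6],[8,10,7,5,9,3,5],[9,10,2,0,10,2,3],[5,7,6,9,3,8,1],[4,8,10,3,1,9,4],[5,8,6,10,0,6,9]],
  [[3,3,6,2,2,10,2],[0,10,8,0,9,4,9],[1,1,6,0,2,7,8],[2,10,7,9,0,4,9],[10,8,9,1,1,8,3],[4,8,8,7,7,0,10],[6,2,10,8,7,3,5]],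
  [[1,6,2,3,10,0,4],[5,1,4,5,2,3,3],[2,7,0,2,1,9,7],[3,6,2,9,8,2,1],[10,9,1,8,3,1,3],[0,3,2,9,10,0,4],[7,3,4,10,8,4,0]],
  [[1,7,6,2,8,5,8],[4,6,2,8,3,1,5],[3,6,1,0,5,9,5],[7,8,5,9,7,6,7],[1,2,0,1,9,3,9],[3,10,8,10,2,4,4],[2,3,6,2,0,3,4]],
  [[6,1,9,2,2,8,3],[3,6,8,2,6,7,10],[9,1,7,3,4,4,4],[0,3,8,3,10,7,10],[7,9,3,5,8,9,0],[9,1,9,10,5,1,8],[3,9,7,2,3,7,3]],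
  [[0,7,5,0,6,6,3],[7,9,4,7,5,8,5],[10,3,4,8,4,0,4],[3,7,9,5,2,7,2],[4,9,3,7,6,5,7],[3,6,4,0,10,0,7],[7,9,5,10,9,5,5]],
  [[3,0,1,3,4,8,10],[9,6,2,10,8,2,8],[6,7,8,2,9,8,0],[2,8,5,6,4,8,10],[1,9,5,10,1,2,3],[3,2,7,1,7,7,4],[2,8,8,9,4,7,3]],
  [[10,5,2,4,9,6,5],[5,7,9,6,6,10,9],[9,2,3,5,2,1,3],[7,5,5,9,10,3,3],[9,6,9,1,5,2,2],[5,1,1,3,9,10,2],[5,9,8,8,2,9,1]],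
  [[3,10,4,4,7,8,0],[6,9,2,8,9,8,10],[5,8,0,1,2,1,4],[2,3,10,10,1,8,3],[1,5,3,6,7,2,8],[8,2,0,0,2,1,4],[7,2,9,9,0,1,4]],
  [[2,4,3,8,0,9,6],[4,8,8,6,1,6,9],[1,9,2,6,8,10,10],[7,2,7,4,7,1,8],[7,3,4,8,3,2,2],[7,0,3,1,10,8,3],[8,6,2,9,3,10,2]],
  [[2,10,8,6,9,9,8],[1,8,1,9,10,8,3],[0,4,0,8,2,2,1],[7,0,7,8,4,1,3],[0,7,10,6,9,3,10],[8,3,5,10,4,6,9],[9,4,9,7,0,2,1]],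
  [[10,4,4,4,1,10,7],[5,7,2,10,2,1,7],[9,4,7,10,10,5,9],[7,0,0,4,7,2,9],[10,9,7,1,5,2,7],[9,0,9,7,7,7,0],[4,2,0,4,9,7,0]],
  [[10,3,2,9,8,5,2],[9,2,2,5,2,1,5],[9,10,5,9,8,3,9],[1,9,6,4,2,6,6],[3,8,7,5,5,2,1],[10,9,5,1,1,8,2],[6,6,10,5,2,7,2]],
  [[3,0,1,2,10,4,6],[3,10,1,10,8,8,2],[6,8,6,7,9,8,10],[2,0,0,9,1,7,8],[2,9,2,0,1,7,7],[10,4,7,4,8,0,3],[2,9,8,9,3,10,5]],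
  [[5,6,4,10,6,6,7],[7,10,5,6,6,6,4],[3,5,3,5,5,3,3],[5,5,0,7,4,8,8],[0,7,3,6,4,3,6],[7,5,4,5,1,5,6],[3,4,6,7,6,3,0]],
  [[6,0,7,8,5,4,8],[5,4,6,4,5,10,5],[0,3,4,5,4,6,8],[7,5,6,7,1,6,5],[4,7,10,6,5,6,5],[8,8,6,3,5,6,3],[3,6,6,0,7,7,8]],
  [[4,7,8,9,5,4,5],[9,4,10,10,7,8,8],[3,8,7,2,6,10,6],[5,6,5,0,9,3,10],[9,2,9,10,3,1,0],[0,4,3,2,8,9,6],[3,6,5,3,1,4,9]],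
  [[9,3,6,9,1,10,10],[8,5,2,2,2,1,8],[1,3,5,9,2,2,8],[3,2,7,1,6,8,5],[6,4,1,9,5,6,9],[2,10,9,6,5,9,9],[2,6,6,6,7,10,2]],
  [[4,0,9,1,8,6,10],[8,8,7,0,3,9,8],[4,2,8,1,0,10,6],[4,3,0,5,9,10,10],[5,8,3,4,3,7,7],[8,8,3,2,7,8,0],[8,4,3,3,3,0,9]]]

def elts5 : List LMat := [
  [[5,1,2,2,9,6,9],[7,5,1,5,2,6,9],[1,8,1,5,10,9,2],[2,6,10,9,8,2,3],[2,8,9,6,8,9,10],[6,9,3,4,5,1,8],[5,7,5,10,9,9,5]],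
  [[0,2,0,0,0,4,6],[8,0,8,9,1,0,0],[8,0,9,8,1,0,0],[10,0,10,10,3,0,0],[0,7,0,0,0,5,9],[0,6,0,0,0,2,4],[2,0,3,3,10,0,0]],
  [[7,8,8,2,7,2,8],[7,1,8,5,8,2,5],[4,10,0,3,3,8,10],[1,3,2,10,9,10,6],[3,3,6,1,2,9,2],[7,4,9,1,4,8,4],[2,0,7,9,8,6,8]],
  [[7,3,5,4,2,7,5],[4,5,2,6,2,10,5],[4,4,6,6,2,7,8],[8,9,9,9,4,5,7],[8,4,1,4,5,0,0],[0,5,5,8,4,0,6],[1,4,7,7,8,8,0]],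
  [[0,7,3,6,7,8,6],[7,6,7,6,1,5,5],[3,7,5,4,6,3,0],[6,6,4,10,5,5,7],[7,1,6,5,6,6,7],[8,5,3,5,6,8,3],[6,5,0,7,7,3,8]],
  [[10,1,6,0,9,4,8],[1,8,9,1,10,3,3],[6,9,1,3,7,3,6],[0,1,3,0,9,4,2],[9,10,7,9,0,7,9],[4,3,3,4,7,0,1],[8,3,6,2,9,1,2]],
  [[5,8,10,7,5,9,3],[10,6,4,5,2,8,3],[2,6,3,5,1,0,5],[5,4,7,3,5,9,7],[3,9,10,2,0,10,2],[4,4,8,10,3,1,9],[8,7,2,8,6,2,0]],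
  [[5,10,7,6,2,3,8],[9,7,0,2,10,2,7],[8,6,2,9,3,9,1],[1,9,1,8,8,10,3],[0,8,9,2,10,0,7],[7,8,7,1,8,4,0],[10,6,2,3,1,0,4]],
  [[3,2,7,4,8,9,3],[6,5,7,3,1,9,3],[10,8,7,3,1,8,0],[5,10,1,2,3,1,9],[2,10,8,2,8,9,6],[4,10,4,4,7,8,9],[8,2,9,8,0,6,7]],
  [[0,8,10,7,4,7,8],[10,6,2,2,3,2,3],[4,5,3,0,10,9,10],[8,9,3,1,10,1,8],[8,1,6,3,5,4,9],[7,3,2,0,0,2,1],[7,4,2,2,9,0,1]],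
  [[9,1,7,8,4,1,3],[0,3,3,5,7,2,9],[3,4,6,6,8,9,1],[3,6,1,9,6,8,7],[5,6,9,10,6,0,8],[7,8,6,6,4,9,4],[2,9,8,0,9,10,1]],
  [[3,8,3,2,4,3,0],[4,0,2,10,8,6,1],[4,9,3,10,0,10,5],[6,8,3,4,8,4,7],[8,7,8,8,3,0,2],[3,8,7,0,8,2,8],[7,3,0,5,2,1,10]],
  [[0,1,7,3,8,7,4],[3,6,5,9,10,8,4],[10,9,8,8,6,2,9],[4,2,0,1,8,0,2],[7,3,10,10,6,0,9],[4,2,9,1,7,9,0],[8,8,1,3,9,1,10]],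
  [[3,5,1,0,5,2,6],[1,9,0,1,9,8,2],[9,3,5,9,0,3,4],[7,6,9,3,8,1,5],[7,3,5,9,7,5,4],[8,10,3,1,9,4,4],[1,4,6,2,8,6,3]],
  [[3,0,9,5,2,4,3],[6,1,5,9,7,3,3],[6,8,1,10,10,2,9],[7,4,1,3,7,2,7],[8,3,9,2,4,8,7],[10,1,8,8,7,0,3],[2,8,10,9,8,6,2]],
  [[6,5,0,7,4,8,3],[0,4,3,5,7,8,6],[7,6,4,6,10,6,6],[8,4,5,7,6,3,0],[5,5,4,1,5,5,7],[4,10,6,6,6,6,7],[8,5,8,5,5,3,8]],
  [[3,1,0,0,2,0,8],[1,3,0,0,1,0,10],[0,0,7,5,0,2,0],[0,0,5,9,0,4,0],[2,1,0,0,3,0,8],[0,0,2,4,0,5,0],[8,10,0,0,8,0,2]],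
  [[5,10,8,9,1,2,1],[9,8,8,5,10,9,2],[7,4,7,2,10,7,3],[8,2,0,7,9,8,6],[8,7,8,8,2,7,2],[6,4,10,3,6,3,9],[10,4,10,0,3,3,8]],
  [[3,6,6,7,8,10,2],[0,1,8,4,3,1,8],[9,5,1,1,9,8,10],[5,9,10,3,2,8,9],[2,7,10,7,4,7,8],[4,3,2,2,8,0,6],[3,3,9,7,7,3,2]],
  [[0,0,1,0,0,0,0],[0,0,0,1,0,0,0],[0,0,0,0,1,0,0],[0,0,0,0,0,1,0],[0,0,0,0,0,0,1],[1,0,0,0,0,0,0],[0,1,0,0,0,0,0]],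
  [[0,0,0,1,0,0,0],[0,0,0,0,1,0,0],[0,0,0,0,0,1,0],[0,0,0,0,0,0,1],[1,0,0,0,0,0,0],[0,1,0,0,0,0,0],[0,0,1,0,0,0,0]],
  [[10,8,8,2,10,10,8],[3,3,9,1,1,3,1],[8,2,10,10,8,10,8],[2,10,10,8,10,8,8],[10,10,8,10,8,8,2],[1,3,1,3,3,9,1],[3,1,3,3,9,1,1]],
  [[6,9,10,10,7,8,0],[2,4,3,0,8,8,8],[10,8,6,10,7,0,9],[10,0,10,6,7,9,8],[7,3,7,7,6,3,3],[3,8,0,2,8,4,8],[0,8,2,3,8,8,4]],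
  [[0,0,0,0,1,0,0],[0,0,0,0,0,1,0],[0,0,0,0,0,0,1],[1,0,0,0,0,0,0],[0,1,0,0,0,0,0],[0,0,1,0,0,0,0],[0,0,0,1,0,0,0]],
  [[10,8,10,8,8,2,10],[8,10,8,8,2,10,10],[1,3,3,9,1,1,3],[3,3,9,1,1,3,1],[8,2,10,10,8,10,8],[9,1,1,3,1,3,3],[10,10,8,10,8,8,2]],
  [[3,3,9,1,1,3,1],[8,2,10,10,8,10,8],[2,10,10,8,10,8,8],[10,10,8,10,8,8,2],[1,3,1,3,3,9,1],[3,1,3,3,9,1,1],[10,8,8,2,10,10,8]],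
  [[5,9,1,1,4,8,0],[2,7,3,0,8,3,3],[10,3,6,10,7,0,2],[10,0,10,6,7,2,3],[4,3,4,4,5,3,3],[8,8,0,9,3,4,8],[0,3,2,3,8,3,7]],
  [[8,9,4,8,0,3,8],[2,10,3,6,10,7,0],[3,10,0,10,6,7,2],[8,7,8,7,7,6,8],[8,8,8,0,9,3,4],[4,0,8,9,8,3,8],[0,6,2,10,10,7,3]],
  [[2,4,3,0,8,8,8],[10,8,6,10,7,0,9],[10,0,10,6,7,9,8],[7,3,7,7,6,3,3],[3,8,0,2,8,4,8],[0,8,2,3,8,8,4],[6,9,10,10,7,8,0]],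
  [[8,10,8,8,2,10,10],[1,3,3,9,1,1,3],[8,8,2,10,10,8,10],[8,2,10,10,8,10,8],[2,10,10,8,10,8,8],[1,1,3,1,3,3,9],[1,3,1,3,3,9,1]],
  [[3,3,0,2,8,7,3],[0,8,9,8,3,8,4],[6,2,10,10,7,3,0],[2,7,3,0,8,3,3],[10,3,6,10,7,0,2],[1,0,1,5,4,9,8],[4,3,4,4,5,3,3]],
  [[0,3,9,8,3,3,7],[5,2,1,1,4,3,0],[9,7,8,0,3,3,3],[10,8,6,10,7,0,9],[10,0,10,6,7,9,8],[4,8,4,4,5,8,8],[3,8,0,2,8,4,8]],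
  [[3,0,6,2,10,10,7],[8,8,9,4,8,0,3],[0,2,10,3,6,10,7],[2,3,10,0,10,6,7],[8,8,7,8,7,7,6],[4,8,8,8,0,9,3],[8,4,0,8,9,8,3]],
  [[6,5,8,0,0,5,4],[6,8,7,4,4,6,9],[8,4,6,7,4,6,2],[0,7,7,0,3,10,6],[0,7,4,3,10,4,3],[6,6,5,1,7,9,9],[7,9,9,5,8,9,4]],
  [[0,6,9,10,10,7,8],[8,2,4,3,0,8,8],[9,10,8,6,10,7,0],[8,10,0,10,6,7,9],[3,7,3,7,7,6,3],[8,3,8,0,2,8,4],[4,0,8,2,3,8,8]],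
  [[8,9,10,10,8,1,3],[2,1,10,8,10,3,3],[10,1,8,10,8,3,9],[10,3,10,8,8,9,1],[8,1,8,8,2,1,1],[10,3,8,2,10,1,3],[8,3,2,10,10,3,1]],
  [[0,0,0,0,0,1,0],[0,0,0,0,0,0,1],[1,0,0,0,0,0,0],[0,1,0,0,0,0,0],[0,0,1,0,0,0,0],[0,0,0,1,0,0,0],[0,0,0,0,1,0,0]],
  [[8,10,8,8,2,10,10],[1,3,3,9,1,1,3],[3,3,9,1,1,3,1],[8,2,10,10,8,10,8],[9,1,1,3,1,3,3],[10,10,8,10,8,8,2],[10,8,10,8,8,2,10]],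
  [[10,10,8,10,8,8,2],[10,8,10,8,8,2,10],[3,1,3,3,9,1,1],[1,3,3,9,1,1,3],[8,8,2,10,10,8,10],[3,9,1,1,3,1,3],[2,10,10,8,10,8,8]],
  [[10,0,10,6,7,2,3],[7,8,7,7,6,8,8],[8,8,0,9,3,4,8],[0,8,9,8,3,8,4],[6,2,10,10,7,3,0],[9,4,8,0,3,8,8],[10,3,6,10,7,0,2]],
  [[1,3,3,9,1,1,3],[8,8,2,10,10,8,10],[8,2,10,10,8,10,8],[2,10,10,8,10,8,8],[1,1,3,1,3,3,9],[1,3,1,3,3,9,1],[8,10,8,8,2,10,10]],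
  [[0,8,9,8,3,8,4],[6,2,10,10,7,3,0],[2,7,3,0,8,3,3],[10,3,6,10,7,0,2],[1,0,1,5,4,9,8],[4,3,4,4,5,3,3],[3,3,0,2,8,7,3]],
  [[0,5,9,1,1,4,8],[3,2,7,3,0,8,3],[2,10,3,6,10,7,0],[3,10,0,10,6,7,2],[3,4,3,4,4,5,3],[8,8,8,0,9,3,4],[7,0,3,2,3,8,3]],
  [[5,2,1,1,4,3,0],[9,7,8,0,3,3,3],[10,8,6,10,7,0,9],[10,0,10,6,7,9,8],[4,8,4,4,5,8,8],[3,8,0,2,8,4,8],[0,3,9,8,3,3,7]],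
  [[8,8,9,4,8,0,3],[0,2,10,3,6,10,7],[2,3,10,0,10,6,7],[8,8,7,8,7,7,6],[4,8,8,8,0,9,3],[8,4,0,8,9,8,3],[3,0,6,2,10,10,7]],
  [[6,8,7,4,4,6,9],[8,4,6,7,4,6,2],[0,7,7,0,3,10,6],[0,7,4,3,10,4,3],[6,6,5,1,7,9,9],[7,9,9,5,8,9,4],[6,5,8,0,0,5,4]],
  [[2,1,10,8,10,3,3],[10,1,8,10,8,3,9],[10,3,10,8,8,9,1],[8,1,8,8,2,1,1],[10,3,8,2,10,1,3],[8,3,2,10,10,3,1],[8,9,10,10,8,1,3]],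
  [[10,8,10,8,8,2,10],[3,1,3,3,9,1,1],[10,8,8,2,10,10,8],[8,8,2,10,10,8,10],[8,2,10,10,8,10,8],[9,1,1,3,1,3,3],[1,1,3,1,3,3,9]],
  [[7,8,7,7,6,8,8],[8,8,0,9,3,4,8],[0,3,2,3,8,3,7],[6,2,10,10,7,3,0],[2,7,3,0,8,3,3],[1,8,5,1,4,0,9],[1,0,1,5,4,9,8]],
  [[8,3,0,9,3,7,3],[0,8,2,3,8,8,4],[6,9,10,10,7,8,0],[9,7,8,0,3,3,3],[10,8,6,10,7,0,9],[1,0,1,5,4,2,3],[4,8,4,4,5,8,8]]]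

def elts6 : List LMat := [
  [[4,2,2,6,3,2,7],[5,6,3,0,0,6,7],[5,3,4,7,7,5,2],[8,4,6,7,4,6,2],[0,7,7,0,3,10,6],[0,4,7,8,1,7,8],[6,6,5,1,7,9,9]],
  [[3,8,9,1,1,8,10],[3,2,1,1,3,10,8],[9,10,1,3,1,8,8],[10,1,8,10,8,3,9],[10,3,10,8,8,9,1],[3,10,3,3,9,10,10],[10,3,8,2,10,1,3]],
  [[7,3,0,6,2,10,10],[3,8,8,9,4,8,0],[7,0,2,10,3,6,10],[7,2,3,10,0,10,6],[6,8,8,7,8,7,7],[3,4,8,8,8,0,9],[3,8,4,0,8,9,8]],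
  [[6,2,7,8,4,4,6],[9,4,5,7,8,9,9],[7,6,0,0,3,7,10],[8,4,0,6,0,5,5],[4,3,3,0,10,7,4],[7,9,4,6,4,8,6],[5,9,1,6,7,6,9]],
  [[4,6,5,8,0,0,5],[9,6,8,7,4,4,6],[2,8,4,6,7,4,6],[6,0,7,7,0,3,10],[3,0,7,4,3,10,4],[9,6,6,5,1,7,9],[4,7,9,9,5,8,9]],
  [[3,3,4,6,5,2,10],[9,9,9,6,2,1,6],[10,2,6,10,1,8,9],[9,1,6,2,8,3,2],[6,5,1,6,2,7,9],[1,2,5,7,2,6,5],[10,8,9,2,8,5,9]],
  [[8,0,6,9,10,10,7],[8,8,2,4,3,0,8],[0,9,10,8,6,10,7],[9,8,10,0,10,6,7],[3,3,7,3,7,7,6],[4,8,3,8,0,2,8],[8,4,0,8,2,3,8]],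
  [[3,8,9,10,10,8,1],[3,2,1,10,8,10,3],[9,10,1,8,10,8,3],[1,10,3,10,8,8,9],[1,8,1,8,8,2,1],[3,10,3,8,2,10,1],[1,8,3,2,10,10,3]],
  [[0,0,0,0,0,0,1],[1,0,0,0,0,0,0],[0,1,0,0,0,0,0],[0,0,1,0,0,0,0],[0,0,0,1,0,0,0],[0,0,0,0,1,0,0],[0,0,0,0,0,1,0]],
  [[1,3,3,9,1,1,3],[3,3,9,1,1,3,1],[8,2,10,10,8,10,8],[9,1,1,3,1,3,3],[10,10,8,10,8,8,2],[10,8,10,8,8,2,10],[8,10,8,8,2,10,10]],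
  [[10,8,10,8,8,2,10],[3,1,3,3,9,1,1],[1,3,3,9,1,1,3],[8,8,2,10,10,8,10],[3,9,1,1,3,1,3],[2,10,10,8,10,8,8],[10,10,8,10,8,8,2]],
  [[2,10,10,8,10,8,8],[10,10,8,10,8,8,2],[1,3,1,3,3,9,1],[3,1,3,3,9,1,1],[10,8,8,2,10,10,8],[3,3,9,1,1,3,1],[8,2,10,10,8,10,8]],
  [[3,10,0,10,6,7,2],[8,7,8,7,7,6,8],[8,8,8,0,9,3,4],[4,0,8,9,8,3,8],[0,6,2,10,10,7,3],[8,9,4,8,0,3,8],[2,10,3,6,10,7,0]],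
  [[3,1,3,3,9,1,1],[10,8,8,2,10,10,8],[8,8,2,10,10,8,10],[8,2,10,10,8,10,8],[9,1,1,3,1,3,3],[1,1,3,1,3,3,9],[10,8,10,8,8,2,10]],
  [[8,8,0,9,3,4,8],[0,3,2,3,8,3,7],[6,2,10,10,7,3,0],[2,7,3,0,8,3,3],[1,8,5,1,4,0,9],[1,0,1,5,4,9,8],[7,8,7,7,6,8,8]],
  [[4,0,8,9,8,3,8],[0,6,2,10,10,7,3],[3,2,7,3,0,8,3],[2,10,3,6,10,7,0],[8,1,0,1,5,4,9],[3,4,3,4,4,5,3],[3,3,3,0,2,8,7]],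
  [[0,8,2,3,8,8,4],[6,9,10,10,7,8,0],[9,7,8,0,3,3,3],[10,8,6,10,7,0,9],[1,0,1,5,4,2,3],[4,8,4,4,5,8,8],[8,3,0,9,3,7,3]],
  [[8,0,5,9,1,1,4],[3,3,2,7,3,0,8],[0,2,10,3,6,10,7],[2,3,10,0,10,6,7],[3,3,4,3,4,4,5],[4,8,8,8,0,9,3],[3,7,0,3,2,3,8]],
  [[0,5,2,1,1,4,3],[3,9,7,8,0,3,3],[9,10,8,6,10,7,0],[8,10,0,10,6,7,9],[8,4,8,4,4,5,8],[8,3,8,0,2,8,4],[7,0,3,9,8,3,3]],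
  [[3,2,1,1,3,10,8],[9,10,1,3,1,8,8],[10,1,8,10,8,3,9],[10,3,10,8,8,9,1],[3,10,3,3,9,10,10],[10,3,8,2,10,1,3],[3,8,9,1,1,8,10]],
  [[3,8,8,9,4,8,0],[7,0,2,10,3,6,10],[7,2,3,10,0,10,6],[6,8,8,7,8,7,7],[3,4,8,8,8,0,9],[3,8,4,0,8,9,8],[7,3,0,6,2,10,10]],
  [[9,4,5,7,8,9,9],[7,6,0,0,3,7,10],[8,4,0,6,0,5,5],[4,3,3,0,10,7,4],[7,9,4,6,4,8,6],[5,9,1,6,7,6,9],[6,2,7,8,4,4,6]],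
  [[9,6,8,7,4,4,6],[2,8,4,6,7,4,6],[6,0,7,7,0,3,10],[3,0,7,4,3,10,4],[9,6,6,5,1,7,9],[4,7,9,9,5,8,9],[4,6,5,8,0,0,5]],
  [[9,9,9,6,2,1,6],[10,2,6,10,1,8,9],[9,1,6,2,8,3,2],[6,5,1,6,2,7,9],[1,2,5,7,2,6,5],[10,8,9,2,8,5,9],[3,3,4,6,5,2,10]],
  [[8,8,2,4,3,0,8],[0,9,10,8,6,10,7],[9,8,10,0,10,6,7],[3,3,7,3,7,7,6],[4,8,3,8,0,2,8],[8,4,0,8,2,3,8],[8,0,6,9,10,10,7]],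
  [[8,9,9,10,6,2,8],[4,2,6,6,1,6,2],[6,5,10,2,6,4,9],[5,9,1,8,2,9,3],[9,1,3,8,4,6,5],[1,6,2,9,2,5,9],[3,2,10,9,6,10,1]],
  [[3,2,1,10,8,10,3],[9,10,1,8,10,8,3],[1,10,3,10,8,8,9],[1,8,1,8,8,2,1],[3,10,3,8,2,10,1],[1,8,3,2,10,10,3],[3,8,9,10,10,8,1]],
  [[10,10,8,10,8,8,2],[1,3,1,3,3,9,1],[8,10,8,8,2,10,10],[10,8,8,2,10,10,8],[8,8,2,10,10,8,10],[3,9,1,1,3,1,3],[9,1,1,3,1,3,3]],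
  [[10,0,10,6,7,2,3],[4,3,4,4,5,3,3],[3,3,0,2,8,7,3],[0,3,2,3,8,3,7],[6,2,10,10,7,3,0],[9,4,8,0,3,8,8],[1,8,5,1,4,0,9]],
  [[8,7,8,7,7,6,8],[8,8,8,0,9,3,4],[7,0,3,2,3,8,3],[0,6,2,10,10,7,3],[3,2,7,3,0,8,3],[9,1,8,5,1,4,0],[8,1,0,1,5,4,9]],
  [[7,3,7,7,6,3,3],[3,8,0,2,8,4,8],[0,3,9,8,3,3,7],[6,9,10,10,7,8,0],[9,7,8,0,3,3,3],[1,3,5,1,4,0,2],[1,0,1,5,4,2,3]],
  [[3,8,3,0,9,3,7],[4,0,8,2,3,8,8],[0,6,9,10,10,7,8],[3,9,7,8,0,3,3],[9,10,8,6,10,7,0],[3,1,0,1,5,4,2],[8,4,8,4,4,5,8]],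
  [[1,8,3,9,1,10,8],[8,3,2,10,10,3,1],[8,9,10,10,8,1,3],[9,10,1,3,1,8,8],[10,1,8,10,8,3,9],[1,8,1,3,3,2,10],[3,10,3,3,9,10,10]],
  [[6,2,10,5,4,5,2],[5,9,4,3,7,7,5],[2,7,6,4,3,2,2],[7,6,0,0,3,7,10],[8,4,0,6,0,5,5],[7,8,8,0,1,4,7],[7,9,4,6,4,8,6]],
  [[1,3,2,9,3,6,2],[8,8,7,5,6,9,1],[2,2,2,5,9,10,5],[10,2,6,10,1,8,9],[9,1,6,2,8,3,2],[5,6,10,5,9,4,2],[1,2,5,7,2,6,5]],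
  [[10,3,8,9,1,1,8],[8,3,2,1,1,3,10],[8,9,10,1,3,1,8],[9,10,1,8,10,8,3],[1,10,3,10,8,8,9],[10,3,10,3,3,9,10],[3,10,3,8,2,10,1]],
  [[0,0,0,0,0,0,10],[10,0,0,0,0,0,0],[0,10,0,0,0,0,0],[0,0,1,0,0,0,0],[0,0,0,1,0,0,0],[0,0,0,0,10,0,0],[0,0,0,0,0,1,0]],
  [[10,7,3,0,6,2,10],[0,3,8,8,9,4,8],[10,7,0,2,10,3,6],[6,7,2,3,10,0,10],[7,6,8,8,7,8,7],[9,3,4,8,8,8,0],[8,3,8,4,0,8,9]],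
  [[1,2,5,1,10,8,9],[9,10,6,2,8,8,9],[5,5,10,5,9,7,9],[1,9,5,7,2,5,6],[10,3,9,2,8,6,2],[3,8,4,6,5,9,1],[2,9,2,5,9,1,6]],
  [[6,6,2,7,8,4,4],[9,9,4,5,7,8,9],[10,7,6,0,0,3,7],[5,8,4,0,6,0,5],[4,4,3,3,0,10,7],[6,7,9,4,6,4,8],[9,5,9,1,6,7,6]],
  [[5,4,6,5,8,0,0],[6,9,6,8,7,4,4],[6,2,8,4,6,7,4],[10,6,0,7,7,0,3],[4,3,0,7,4,3,10],[9,9,6,6,5,1,7],[9,4,7,9,9,5,8]],
  [[0,0,2,1,4,8,2],[0,10,9,10,7,6,3],[2,2,0,10,7,4,9],[1,1,10,3,8,9,8],[4,4,7,8,0,3,10],[3,6,7,2,8,1,5],[9,3,2,3,1,5,2]],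
  [[10,3,3,4,6,5,2],[6,9,9,9,6,2,1],[9,10,2,6,10,1,8],[2,9,1,6,2,8,3],[9,6,5,1,6,2,7],[5,1,2,5,7,2,6],[9,10,8,9,2,8,5]],
  [[3,7,8,8,8,0,2],[8,8,7,0,3,9,8],[4,3,0,5,9,10,10],[3,3,8,9,4,3,0],[4,0,9,1,8,6,10],[7,9,3,10,0,1,5],[6,3,8,7,8,4,4]],
  [[7,8,0,6,9,10,10],[8,8,8,2,4,3,0],[7,0,9,10,8,6,10],[7,9,8,10,0,10,6],[6,3,3,7,3,7,7],[8,4,8,3,8,0,2],[8,8,4,0,8,2,3]],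
  [[1,3,8,9,10,10,8],[3,3,2,1,10,8,10],[3,9,10,1,8,10,8],[9,1,10,3,10,8,8],[1,1,8,1,8,8,2],[1,3,10,3,8,2,10],[3,1,8,3,2,10,10]],
  [[3,3,4,3,4,4,5],[4,8,8,8,0,9,3],[8,4,0,8,9,8,3],[8,0,5,9,1,1,4],[8,8,9,4,8,0,3],[0,9,1,8,5,1,4],[9,8,1,0,1,5,4]],
  [[3,3,9,1,1,3,1],[8,2,10,10,8,10,8],[9,1,1,3,1,3,3],[10,10,8,10,8,8,2],[10,8,10,8,8,2,10],[8,10,8,8,2,10,10],[1,3,3,9,1,1,3]],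
  [[3,1,3,3,9,1,1],[1,3,3,9,1,1,3],[8,8,2,10,10,8,10],[3,9,1,1,3,1,3],[2,10,10,8,10,8,8],[10,10,8,10,8,8,2],[10,8,10,8,8,2,10]],
  [[10,10,8,10,8,8,2],[1,3,1,3,3,9,1],[3,1,3,3,9,1,1],[10,8,8,2,10,10,8],[3,3,9,1,1,3,1],[8,2,10,10,8,10,8],[2,10,10,8,10,8,8]]]

def elts7 : List LMat := [
  [[10,0,10,6,7,2,3],[4,3,4,4,5,3,3],[8,8,0,9,3,4,8],[0,3,2,3,8,3,7],[5,9,1,1,4,8,0],[2,7,3,0,8,3,3],[10,3,6,10,7,0,2]],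
  [[8,2,10,10,8,10,8],[2,10,10,8,10,8,8],[1,1,3,1,3,3,9],[1,3,1,3,3,9,1],[8,10,8,8,2,10,10],[1,3,3,9,1,1,3],[8,8,2,10,10,8,10]],
  [[2,7,3,0,8,3,3],[10,3,6,10,7,0,2],[1,0,1,5,4,9,8],[4,3,4,4,5,3,3],[3,3,0,2,8,7,3],[0,8,9,8,3,8,4],[6,2,10,10,7,3,0]],
  [[2,3,10,0,10,6,7],[8,8,7,8,7,7,6],[4,8,8,8,0,9,3],[8,4,0,8,9,8,3],[3,0,6,2,10,10,7],[8,8,9,4,8,0,3],[0,2,10,3,6,10,7]],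
  [[0,7,7,0,3,10,6],[0,7,4,3,10,4,3],[6,6,5,1,7,9,9],[7,9,9,5,8,9,4],[6,5,8,0,0,5,4],[6,8,7,4,4,6,9],[8,4,6,7,4,6,2]],
  [[1,3,1,3,3,9,1],[8,10,8,8,2,10,10],[10,8,8,2,10,10,8],[8,8,2,10,10,8,10],[3,9,1,1,3,1,3],[9,1,1,3,1,3,3],[10,10,8,10,8,8,2]],
  [[4,3,4,4,5,3,3],[3,3,0,2,8,7,3],[0,3,2,3,8,3,7],[6,2,10,10,7,3,0],[9,4,8,0,3,8,8],[1,8,5,1,4,0,9],[10,0,10,6,7,2,3]],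
  [[8,4,0,8,9,8,3],[3,0,6,2,10,10,7],[3,3,2,7,3,0,8],[0,2,10,3,6,10,7],[9,8,1,0,1,5,4],[3,3,4,3,4,4,5],[7,3,3,3,0,2,8]],
  [[7,9,9,5,8,9,4],[6,5,8,0,0,5,4],[5,3,4,7,7,5,2],[8,4,6,7,4,6,2],[0,4,4,0,8,1,5],[0,4,7,8,1,7,8],[5,5,6,10,4,2,2]],
  [[4,0,8,2,3,8,8],[0,6,9,10,10,7,8],[3,9,7,8,0,3,3],[9,10,8,6,10,7,0],[3,1,0,1,5,4,2],[8,4,8,4,4,5,8],[3,8,3,0,9,3,7]],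
  [[4,8,0,5,9,1,1],[8,3,3,2,7,3,0],[7,0,2,10,3,6,10],[7,2,3,10,0,10,6],[5,3,3,4,3,4,4],[3,4,8,8,8,0,9],[8,3,7,0,3,2,3]],
  [[5,9,4,3,7,7,5],[2,7,6,4,3,2,2],[7,6,0,0,3,7,10],[8,4,0,6,0,5,5],[7,8,8,0,1,4,7],[7,9,4,6,4,8,6],[6,2,10,5,4,5,2]],
  [[7,5,6,3,0,0,6],[2,5,3,4,7,7,5],[2,8,4,6,7,4,6],[6,0,7,7,0,3,10],[8,0,4,7,8,1,7],[9,6,6,5,1,7,9],[7,4,2,2,6,3,2]],
  [[8,8,7,5,6,9,1],[2,2,2,5,9,10,5],[10,2,6,10,1,8,9],[9,1,6,2,8,3,2],[5,6,10,5,9,4,2],[1,2,5,7,2,6,5],[1,3,2,9,3,6,2]],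
  [[3,0,5,2,1,1,4],[3,3,9,7,8,0,3],[0,9,10,8,6,10,7],[9,8,10,0,10,6,7],[8,8,4,8,4,4,5],[4,8,3,8,0,2,8],[3,7,0,3,9,8,3]],
  [[8,9,1,2,5,1,10],[3,2,2,1,5,9,3],[4,2,6,6,1,6,2],[6,5,10,2,6,4,9],[6,2,10,3,9,2,8],[9,1,3,8,4,6,5],[10,5,9,2,9,6,2]],
  [[8,3,2,1,1,3,10],[8,9,10,1,3,1,8],[9,10,1,8,10,8,3],[1,10,3,10,8,8,9],[10,3,10,3,3,9,10],[3,10,3,8,2,10,1],[10,3,8,9,1,1,8]],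
  [[0,3,8,8,9,4,8],[10,7,0,2,10,3,6],[6,7,2,3,10,0,10],[7,6,8,8,7,8,7],[9,3,4,8,8,8,0],[8,3,8,4,0,8,9],[10,7,3,0,6,2,10]],
  [[9,10,6,2,8,8,9],[5,5,10,5,9,7,9],[1,9,5,7,2,5,6],[10,3,9,2,8,6,2],[3,8,4,6,5,9,1],[2,9,2,5,9,1,6],[1,2,5,1,10,8,9]],
  [[9,9,4,5,7,8,9],[10,7,6,0,0,3,7],[5,8,4,0,6,0,5],[4,4,3,3,0,10,7],[6,7,9,4,6,4,8],[9,5,9,1,6,7,6],[6,6,2,7,8,4,4]],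
  [[6,9,6,8,7,4,4],[6,2,8,4,6,7,4],[10,6,0,7,7,0,3],[4,3,0,7,4,3,10],[9,9,6,6,5,1,7],[9,4,7,9,9,5,8],[5,4,6,5,8,0,0]],
  [[0,10,9,10,7,6,3],[2,2,0,10,7,4,9],[1,1,10,3,8,9,8],[4,4,7,8,0,3,10],[3,6,7,2,8,1,5],[9,3,2,3,1,5,2],[0,0,2,1,4,8,2]],
  [[6,9,9,9,6,2,1],[9,10,2,6,10,1,8],[2,9,1,6,2,8,3],[9,6,5,1,6,2,7],[5,1,2,5,7,2,6],[9,10,8,9,2,8,5],[10,3,3,4,6,5,2]],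
  [[8,8,7,0,3,9,8],[4,3,0,5,9,10,10],[3,3,8,9,4,3,0],[4,0,9,1,8,6,10],[7,9,3,10,0,1,5],[6,3,8,7,8,4,4],[3,7,8,8,8,0,2]],
  [[8,8,8,2,4,3,0],[7,0,9,10,8,6,10],[7,9,8,10,0,10,6],[6,3,3,7,3,7,7],[8,4,8,3,8,0,2],[8,8,4,0,8,2,3],[7,8,0,6,9,10,10]],
  [[2,10,2,10,5,10,8],[3,9,7,9,8,7,8],[6,1,9,9,9,8,8],[3,6,8,9,5,7,1],[2,10,4,3,4,7,4],[0,8,3,3,10,4,10],[7,9,3,6,3,9,0]],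
  [[2,10,10,8,10,8,8],[1,1,3,1,3,3,9],[10,8,10,8,8,2,10],[8,10,8,8,2,10,10],[10,8,8,2,10,10,8],[3,3,9,1,1,3,1],[3,9,1,1,3,1,3]],
  [[10,0,10,6,7,9,8],[4,8,4,4,5,8,8],[8,3,0,9,3,7,3],[0,3,9,8,3,3,7],[6,9,10,10,7,8,0],[2,4,3,0,8,8,8],[1,3,5,1,4,0,2]],
  [[8,8,7,8,7,7,6],[4,8,8,8,0,9,3],[3,7,0,3,2,3,8],[3,0,6,2,10,10,7],[3,3,2,7,3,0,8],[0,9,1,8,5,1,4],[9,8,1,0,1,5,4]],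
  [[0,7,4,3,10,4,3],[6,6,5,1,7,9,9],[4,2,2,6,3,2,7],[6,5,8,0,0,5,4],[5,3,4,7,7,5,2],[3,7,5,4,7,5,9],[0,4,4,0,8,1,5]],
  [[3,7,3,7,7,6,3],[8,3,8,0,2,8,4],[7,0,3,9,8,3,3],[0,6,9,10,10,7,8],[3,9,7,8,0,3,3],[2,1,3,5,1,4,0],[3,1,0,1,5,4,2]],
  [[8,1,8,8,2,1,1],[10,3,8,2,10,1,3],[3,8,9,1,1,8,10],[8,9,10,10,8,1,3],[9,10,1,3,1,8,8],[1,10,3,1,3,8,2],[1,8,1,3,3,2,10]],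
  [[10,9,6,4,9,5,6],[10,8,9,2,8,5,9],[3,3,4,6,5,2,10],[2,2,2,5,9,10,5],[10,2,6,10,1,8,9],[2,10,5,9,3,8,9],[5,6,10,5,9,4,2]],
  [[7,3,8,3,0,9,3],[8,4,0,8,2,3,8],[8,0,6,9,10,10,7],[3,3,9,7,8,0,3],[0,9,10,8,6,10,7],[2,3,1,0,1,5,4],[8,8,4,8,4,4,5]],
  [[8,1,8,3,9,1,10],[1,8,3,2,10,10,3],[3,8,9,10,10,8,1],[8,9,10,1,3,1,8],[9,10,1,8,10,8,3],[10,1,8,1,3,3,2],[10,3,10,3,3,9,10]],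
  [[0,0,0,0,0,10,0],[0,0,0,0,0,0,1],[1,0,0,0,0,0,0],[0,10,0,0,0,0,0],[0,0,1,0,0,0,0],[0,0,0,10,0,0,0],[0,0,0,0,10,0,0]],
  [[3,8,3,7,0,3,2],[1,4,8,0,5,9,1],[0,8,3,3,2,7,3],[10,7,0,2,10,3,6],[6,7,2,3,10,0,10],[4,5,3,3,4,3,4],[9,3,4,8,8,8,0]],
  [[9,2,9,6,2,10,5],[10,9,6,10,1,3,2],[2,1,5,9,3,3,2],[5,5,10,5,9,7,9],[1,9,5,7,2,5,6],[1,8,2,9,3,5,9],[3,8,4,6,5,9,1]],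
  [[6,6,4,10,9,9,5],[5,2,1,1,10,9,3],[2,2,9,1,3,3,6],[6,2,2,9,8,1,3],[4,10,6,3,5,3,2],[10,2,5,5,9,6,4],[9,6,6,9,2,9,1]],
  [[2,1,3,2,9,3,6],[1,8,8,7,5,6,9],[5,2,2,2,5,9,10],[9,10,2,6,10,1,8],[2,9,1,6,2,8,3],[2,5,6,10,5,9,4],[5,1,2,5,7,2,6]],
  [[10,0,0,0,0,0,0],[0,10,0,0,0,0,0],[0,0,10,0,0,0,0],[0,0,0,1,0,0,0],[0,0,0,0,1,0,0],[0,0,0,0,0,10,0],[0,0,0,0,0,0,1]],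
  [[0,10,0,7,3,6,7],[1,9,6,5,7,9,6],[0,5,6,8,0,4,5],[7,6,8,6,4,2,4],[3,4,0,4,10,3,7],[5,9,7,9,8,4,9],[4,6,6,7,4,9,8]],
  [[3,4,5,4,7,6,2],[0,4,7,0,3,1,5],[0,7,7,8,1,4,3],[6,5,5,1,7,2,2],[7,2,9,5,8,2,7],[6,6,8,0,0,6,7],[5,8,4,7,7,6,9]],
  [[4,6,6,2,7,8,4],[9,9,9,4,5,7,8],[7,10,7,6,0,0,3],[5,5,8,4,0,6,0],[7,4,4,3,3,0,10],[8,6,7,9,4,6,4],[6,9,5,9,1,6,7]],
  [[0,5,4,6,5,8,0],[4,6,9,6,8,7,4],[4,6,2,8,4,6,7],[3,10,6,0,7,7,0],[10,4,3,0,7,4,3],[7,9,9,6,6,5,1],[8,9,4,7,9,9,5]],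
  [[8,7,7,6,5,2,7],[0,8,4,10,4,6,0],[0,10,7,7,4,8,8],[5,7,6,2,5,2,10],[7,3,2,9,2,4,5],[5,0,5,6,8,7,0],[6,7,3,6,4,9,4]],
  [[2,0,0,2,1,4,8],[3,0,10,9,10,7,6],[9,2,2,0,10,7,4],[8,1,1,10,3,8,9],[10,4,4,7,8,0,3],[5,3,6,7,2,8,1],[2,9,3,2,3,1,5]],
  [[5,1,6,2,4,3,3],[10,10,8,8,7,0,8],[6,3,1,10,10,9,2],[2,3,10,9,8,5,9],[4,4,10,8,4,2,7],[8,0,2,6,9,4,3],[8,8,9,2,4,3,4]],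
  [[2,3,7,8,8,8,0],[8,8,8,7,0,3,9],[10,4,3,0,5,9,10],[0,3,3,8,9,4,3],[10,4,0,9,1,8,6],[5,7,9,3,10,0,1],[4,6,3,8,7,8,4]],
  [[9,1,10,8,1,8,3],[10,10,3,1,8,3,2],[1,3,10,8,3,2,1],[3,1,8,8,9,10,1],[1,3,8,2,1,10,3],[8,8,9,1,10,3,10],[8,2,1,1,8,1,8]]]

def elts8 : List LMat := [
  [[10,7,8,0,6,9,10],[0,8,8,8,2,4,3],[10,7,0,9,10,8,6],[6,7,9,8,10,0,10],[7,6,3,3,7,3,7],[2,8,4,8,3,8,0],[3,8,8,4,0,8,2]],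
  [[3,0,0,6,7,5,6],[7,4,4,6,9,6,8],[5,4,7,5,9,3,7],[4,0,8,1,5,0,4],[7,8,1,7,8,0,4],[5,1,7,9,9,6,6],[9,5,8,9,4,7,9]],
  [[0,3,8,8,9,4,8],[1,4,0,9,1,8,5],[5,4,9,8,1,0,1],[4,5,3,3,4,3,4],[9,3,4,8,8,8,0],[8,3,8,4,0,8,9],[1,4,8,0,5,9,1]],
  [[7,8,8,0,1,4,7],[7,9,4,6,4,8,6],[5,9,1,6,7,6,9],[5,9,4,3,7,7,5],[9,4,5,7,8,9,9],[4,5,0,0,8,4,1],[3,7,0,5,0,6,6]],
  [[1,3,1,3,3,9,1],[3,1,3,3,9,1,1],[10,8,8,2,10,10,8],[3,3,9,1,1,3,1],[8,2,10,10,8,10,8],[2,10,10,8,10,8,8],[10,10,8,10,8,8,2]],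
  [[4,3,4,4,5,3,3],[8,8,0,9,3,4,8],[0,3,2,3,8,3,7],[5,9,1,1,4,8,0],[2,7,3,0,8,3,3],[10,3,6,10,7,0,2],[10,0,10,6,7,2,3]],
  [[2,10,10,8,10,8,8],[1,1,3,1,3,3,9],[1,3,1,3,3,9,1],[8,10,8,8,2,10,10],[1,3,3,9,1,1,3],[8,8,2,10,10,8,10],[8,2,10,10,8,10,8]],
  [[10,0,10,6,7,9,8],[4,8,4,4,5,8,8],[3,8,0,2,8,4,8],[0,3,9,8,3,3,7],[5,2,1,1,4,3,0],[9,7,8,0,3,3,3],[10,8,6,10,7,0,9]],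
  [[8,8,2,10,10,8,10],[8,2,10,10,8,10,8],[9,1,1,3,1,3,3],[1,1,3,1,3,3,9],[10,8,10,8,8,2,10],[3,1,3,3,9,1,1],[10,8,8,2,10,10,8]],
  [[3,2,7,3,0,8,3],[2,10,3,6,10,7,0],[8,1,0,1,5,4,9],[3,4,3,4,4,5,3],[3,3,3,0,2,8,7],[4,0,8,9,8,3,8],[0,6,2,10,10,7,3]],
  [[7,2,3,10,0,10,6],[6,8,8,7,8,7,7],[3,4,8,8,8,0,9],[3,8,4,0,8,9,8],[7,3,0,6,2,10,10],[3,8,8,9,4,8,0],[7,0,2,10,3,6,10]],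
  [[6,0,7,7,0,3,10],[3,0,7,4,3,10,4],[9,6,6,5,1,7,9],[4,7,9,9,5,8,9],[4,6,5,8,0,0,5],[9,6,8,7,4,4,6],[2,8,4,6,7,4,6]],
  [[9,1,6,2,8,3,2],[6,5,1,6,2,7,9],[1,2,5,7,2,6,5],[10,8,9,2,8,5,9],[3,3,4,6,5,2,10],[9,9,9,6,2,1,6],[10,2,6,10,1,8,9]],
  [[3,4,3,4,4,5,3],[3,3,3,0,2,8,7],[7,0,3,2,3,8,3],[0,6,2,10,10,7,3],[8,9,4,8,0,3,8],[9,1,8,5,1,4,0],[3,10,0,10,6,7,2]],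
  [[4,8,4,4,5,8,8],[8,3,0,9,3,7,3],[0,3,9,8,3,3,7],[6,9,10,10,7,8,0],[2,4,3,0,8,8,8],[1,3,5,1,4,0,2],[10,0,10,6,7,9,8]],
  [[3,8,4,0,8,9,8],[7,3,0,6,2,10,10],[8,3,3,2,7,3,0],[7,0,2,10,3,6,10],[4,9,8,1,0,1,5],[5,3,3,4,3,4,4],[8,7,3,3,3,0,2]],
  [[4,7,9,9,5,8,9],[4,6,5,8,0,0,5],[2,5,3,4,7,7,5],[2,8,4,6,7,4,6],[5,0,4,4,0,8,1],[8,0,4,7,8,1,7],[2,5,5,6,10,4,2]],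
  [[1,6,2,9,2,5,9],[3,2,10,9,6,10,1],[3,2,2,1,5,9,3],[4,2,6,6,1,6,2],[5,6,1,9,5,7,2],[6,2,10,3,9,2,8],[2,10,8,3,7,5,6]],
  [[1,4,8,0,5,9,1],[0,8,3,3,2,7,3],[10,7,0,2,10,3,6],[6,7,2,3,10,0,10],[4,5,3,3,4,3,4],[9,3,4,8,8,8,0],[3,8,3,7,0,3,2]],
  [[10,9,6,10,1,3,2],[2,1,5,9,3,3,2],[5,5,10,5,9,7,9],[1,9,5,7,2,5,6],[1,8,2,9,3,5,9],[3,8,4,6,5,9,1],[9,2,9,6,2,10,5]],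
  [[5,2,1,1,10,9,3],[2,2,9,1,3,3,6],[6,2,2,9,8,1,3],[4,10,6,3,5,3,2],[10,2,5,5,9,6,4],[9,6,6,9,2,9,1],[6,6,4,10,9,9,5]],
  [[6,7,5,6,3,0,0],[5,2,5,3,4,7,7],[6,2,8,4,6,7,4],[10,6,0,7,7,0,3],[7,8,0,4,7,8,1],[9,9,6,6,5,1,7],[2,7,4,2,2,6,3]],
  [[1,8,8,7,5,6,9],[5,2,2,2,5,9,10],[9,10,2,6,10,1,8],[2,9,1,6,2,8,3],[2,5,6,10,5,9,4],[5,1,2,5,7,2,6],[2,1,3,2,9,3,6]],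
  [[4,3,0,5,2,1,1],[3,3,3,9,7,8,0],[7,0,9,10,8,6,10],[7,9,8,10,0,10,6],[5,8,8,4,8,4,4],[8,4,8,3,8,0,2],[3,3,7,0,3,9,8]],
  [[10,8,9,1,2,5,1],[3,3,2,2,1,5,9],[2,4,2,6,6,1,6],[9,6,5,10,2,6,4],[8,6,2,10,3,9,2],[5,9,1,3,8,4,6],[2,10,5,9,2,9,6]],
  [[4,2,8,5,8,2,0],[9,1,9,1,6,1,3],[3,9,7,9,8,7,8],[6,1,9,9,9,8,8],[8,5,3,2,6,4,10],[2,10,4,3,4,7,4],[0,3,8,8,1,7,1]],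
  [[10,8,3,2,1,1,3],[8,8,9,10,1,3,1],[3,9,10,1,8,10,8],[9,1,10,3,10,8,8],[10,10,3,10,3,3,9],[1,3,10,3,8,2,10],[8,10,3,8,9,1,1]],
  [[8,8,7,8,7,7,6],[7,3,3,3,0,2,8],[8,4,0,8,9,8,3],[8,0,5,9,1,1,4],[3,3,2,7,3,0,8],[0,9,1,8,5,1,4],[2,3,10,0,10,6,7]],
  [[8,0,3,8,8,9,4],[6,10,7,0,2,10,3],[10,6,7,2,3,10,0],[7,7,6,8,8,7,8],[0,9,3,4,8,8,8],[9,8,3,8,4,0,8],[10,10,7,3,0,6,2]],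
  [[1,9,6,5,7,9,6],[0,5,6,8,0,4,5],[7,6,8,6,4,2,4],[3,4,0,4,10,3,7],[5,9,7,9,8,4,9],[4,6,6,7,4,9,8],[0,10,0,7,3,6,7]],
  [[9,9,10,6,2,8,8],[9,5,5,10,5,9,7],[6,1,9,5,7,2,5],[2,10,3,9,2,8,6],[1,3,8,4,6,5,9],[6,2,9,2,5,9,1],[9,1,2,5,1,10,8]],
  [[9,9,9,4,5,7,8],[7,10,7,6,0,0,3],[5,5,8,4,0,6,0],[7,4,4,3,3,0,10],[8,6,7,9,4,6,4],[6,9,5,9,1,6,7],[4,6,6,2,7,8,4]],
  [[4,8,1,4,8,0,7],[7,7,7,6,2,6,8],[6,1,7,2,9,5,5],[5,7,4,5,2,3,7],[9,6,3,9,7,7,9],[4,0,3,1,6,0,4],[8,0,0,5,7,6,5]],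
  [[4,6,9,6,8,7,4],[4,6,2,8,4,6,7],[3,10,6,0,7,7,0],[10,4,3,0,7,4,3],[7,9,9,6,6,5,1],[8,9,4,7,9,9,5],[0,5,4,6,5,8,0]],
  [[0,8,4,10,4,6,0],[0,10,7,7,4,8,8],[5,7,6,2,5,2,10],[7,3,2,9,2,4,5],[5,0,5,6,8,7,0],[6,7,3,6,4,9,4],[8,7,7,6,5,2,7]],
  [[3,0,10,9,10,7,6],[9,2,2,0,10,7,4],[8,1,1,10,3,8,9],[10,4,4,7,8,0,3],[5,3,6,7,2,8,1],[2,9,3,2,3,1,5],[2,0,0,2,1,4,8]],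
  [[10,10,8,8,7,0,8],[6,3,1,10,10,9,2],[2,3,10,9,8,5,9],[4,4,10,8,4,2,7],[8,0,2,6,9,4,3],[8,8,9,2,4,3,4],[5,1,6,2,4,3,3]],
  [[8,8,8,7,0,3,9],[10,4,3,0,5,9,10],[0,3,3,8,9,4,3],[10,4,0,9,1,8,6],[5,7,9,3,10,0,1],[4,6,3,8,7,8,4],[2,3,7,8,8,8,0]],
  [[0,8,8,8,2,4,3],[10,7,0,9,10,8,6],[6,7,9,8,10,0,10],[7,6,3,3,7,3,7],[2,8,4,8,3,8,0],[3,8,8,4,0,8,2],[10,7,8,0,6,9,10]],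
  [[7,4,4,6,9,6,8],[5,4,7,5,9,3,7],[4,0,8,1,5,0,4],[7,8,1,7,8,0,4],[5,1,7,9,9,6,6],[9,5,8,9,4,7,9],[3,0,0,6,7,5,6]],
  [[8,2,10,2,10,5,10],[8,3,9,7,9,8,7],[8,6,1,9,9,9,8],[1,3,6,8,9,5,7],[4,2,10,4,3,4,7],[10,0,8,3,3,10,4],[0,7,9,3,6,3,9]],
  [[3,9,2,2,7,5,7],[8,7,1,4,5,0,0],[0,5,6,3,7,0,6],[1,7,7,7,8,3,0],[7,8,5,4,2,4,6],[4,6,2,6,2,1,6],[7,4,5,5,9,7,8]],
  [[2,7,3,0,8,3,3],[1,8,5,1,4,0,9],[10,0,10,6,7,2,3],[7,8,7,7,6,8,8],[3,3,0,2,8,7,3],[0,8,9,8,3,8,4],[5,9,1,1,4,8,0]],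
  [[8,10,0,10,6,7,9],[8,4,8,4,4,5,8],[3,8,3,0,9,3,7],[7,0,3,9,8,3,3],[0,6,9,10,10,7,8],[8,2,4,3,0,8,8],[2,1,3,5,1,4,0]],
  [[6,5,1,6,2,7,9],[1,2,5,7,2,6,5],[1,3,2,9,3,6,2],[3,3,4,6,5,2,10],[2,2,2,5,9,10,5],[1,9,5,1,10,3,2],[2,10,5,9,3,8,9]],
  [[3,3,7,3,7,7,6],[4,8,3,8,0,2,8],[3,7,0,3,9,8,3],[8,0,6,9,10,10,7],[3,3,9,7,8,0,3],[0,2,1,3,5,1,4],[2,3,1,0,1,5,4]],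
  [[1,8,1,8,8,2,1],[3,10,3,8,2,10,1],[10,3,8,9,1,1,8],[3,8,9,10,10,8,1],[8,9,10,1,3,1,8],[2,1,10,3,1,3,8],[10,1,8,1,3,3,2]],
  [[4,2,8,1,0,10,6],[6,3,8,7,8,4,4],[3,7,8,8,8,0,2],[3,3,4,0,8,2,3],[4,3,0,5,9,10,10],[8,8,3,2,7,8,0],[7,0,2,10,3,5,1]],
  [[3,7,3,8,3,0,9],[8,8,4,0,8,2,3],[7,8,0,6,9,10,10],[3,3,3,9,7,8,0],[7,0,9,10,8,6,10],[4,2,3,1,0,1,5],[5,8,8,4,8,4,4]],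
  [[2,3,1,3,5,2,9],[3,5,8,9,4,1,6],[6,2,6,4,1,2,6],[9,2,2,10,9,5,6],[10,9,2,6,6,5,4],[1,10,2,8,5,9,1],[10,8,3,6,9,2,2]]]

def elts9 : List LMat := [
  [[2,3,8,3,7,0,3],[1,1,4,8,0,5,9],[3,0,8,3,3,2,7],[6,10,7,0,2,10,3],[10,6,7,2,3,10,0],[4,4,5,3,3,4,3],[0,9,3,4,8,8,8]],
  [[7,5,5,4,7,2,3],[0,1,0,4,8,5,4],[10,2,5,6,4,2,5],[0,5,6,8,0,4,5],[7,6,8,6,4,2,4],[8,7,0,7,1,8,4],[5,9,7,9,8,4,9]],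
  [[6,3,7,4,4,5,2],[8,7,6,7,4,5,9],[0,7,4,0,8,10,6],[0,7,7,8,1,4,3],[6,5,5,1,7,2,2],[4,9,2,6,3,9,4],[6,6,8,0,0,6,7]],
  [[6,2,1,3,2,9,3],[9,1,8,8,7,5,6],[10,5,2,2,2,5,9],[8,9,10,2,6,10,1],[3,2,9,1,6,2,8],[4,2,5,6,10,5,9],[6,5,1,2,5,7,2]],
  [[3,3,2,9,7,8,7],[6,10,5,9,7,8,8],[1,1,3,3,4,0,3],[6,3,1,10,10,9,2],[2,3,10,9,8,5,9],[7,7,1,3,7,9,4],[8,0,2,6,9,4,3]],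
  [[0,10,0,0,0,0,0],[0,0,10,0,0,0,0],[0,0,0,10,0,0,0],[0,0,0,0,1,0,0],[0,0,0,0,0,1,0],[0,0,0,0,0,0,10],[1,0,0,0,0,0,0]],
  [[3,9,1,1,3,1,3],[2,10,10,8,10,8,8],[1,1,3,1,3,3,9],[10,8,10,8,8,2,10],[8,10,8,8,2,10,10],[10,8,8,2,10,10,8],[3,3,9,1,1,3,1]],
  [[7,0,10,0,7,3,6],[6,1,9,6,5,7,9],[5,0,5,6,8,0,4],[4,7,6,8,6,4,2],[7,3,4,0,4,10,3],[9,5,9,7,9,8,4],[8,4,6,6,7,4,9]],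
  [[2,3,9,6,8,2,1],[7,6,1,5,2,5,2],[6,2,3,4,5,10,3],[10,8,10,6,1,9,2],[6,7,6,1,2,9,5],[2,5,10,9,8,9,8],[6,1,9,9,2,6,9]],
  [[2,3,4,5,4,7,6],[5,0,4,7,0,3,1],[3,0,7,7,8,1,4],[2,6,5,5,1,7,2],[7,7,2,9,5,8,2],[7,6,6,8,0,0,6],[9,5,8,4,7,7,6]],
  [[4,4,6,6,2,7,8],[8,9,9,9,4,5,7],[3,7,10,7,6,0,0],[0,5,5,8,4,0,6],[10,7,4,4,3,3,0],[4,8,6,7,9,4,6],[7,6,9,5,9,1,6]],
  [[0,9,10,2,7,2,4],[2,2,3,9,1,3,5],[10,8,3,1,8,1,9],[2,2,1,0,4,0,8],[7,10,8,4,0,4,3],[9,3,10,0,7,10,6],[7,5,2,3,8,6,1]],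
  [[6,2,7,6,4,7,3],[0,1,2,8,9,10,2],[3,1,2,4,7,3,1],[6,2,0,8,4,9,3],[6,2,3,6,8,10,7],[2,8,8,10,5,7,6],[10,0,5,9,6,3,5]],
  [[8,2,0,0,2,1,4],[6,3,0,10,9,10,7],[4,9,2,2,0,10,7],[9,8,1,1,10,3,8],[3,10,4,4,7,8,0],[1,5,3,6,7,2,8],[5,2,9,3,2,3,1]],
  [[6,0,0,0,2,7,0],[0,9,3,10,0,0,8],[0,8,3,10,0,0,9],[0,1,10,3,0,0,1],[2,0,0,0,4,5,0],[4,0,0,0,6,9,0],[0,8,2,10,0,0,8]],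
  [[3,5,1,6,2,4,3],[8,10,10,8,8,7,0],[2,6,3,1,10,10,9],[9,2,3,10,9,8,5],[7,4,4,10,8,4,2],[3,8,0,2,6,9,4],[4,8,8,9,2,4,3]],
  [[8,2,0,4,9,3,6],[3,4,8,8,9,7,9],[5,7,10,3,5,3,2],[10,4,1,0,3,8,8],[6,1,8,9,10,2,10],[9,8,3,6,10,2,2],[7,4,4,9,10,4,3]],
  [[1,3,5,2,9,2,3],[8,9,4,1,6,3,5],[5,7,10,9,5,5,9],[2,10,9,5,6,9,2],[9,5,5,6,7,1,2],[9,3,6,2,10,10,1],[8,5,2,9,9,1,3]],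
  [[9,3,6,9,9,3,10],[8,7,9,7,7,4,10],[6,2,7,3,3,0,2],[9,4,3,7,8,3,2],[9,4,3,8,5,10,5],[8,4,0,8,1,10,8],[1,10,9,9,6,8,10]],
  [[10,2,5,5,9,6,4],[9,6,6,9,2,9,1],[5,5,7,1,2,2,6],[5,2,1,1,10,9,3],[9,9,2,10,8,8,5],[5,9,9,2,3,10,8],[7,1,5,8,6,8,9]],
  [[1,1,3,1,3,3,9],[1,3,1,3,3,9,1],[8,10,8,8,2,10,10],[1,3,3,9,1,1,3],[8,8,2,10,10,8,10],[8,2,10,10,8,10,8],[2,10,10,8,10,8,8]],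
  [[1,0,1,5,4,9,8],[4,3,4,4,5,3,3],[3,3,0,2,8,7,3],[0,8,9,8,3,8,4],[6,2,10,10,7,3,0],[2,7,3,0,8,3,3],[10,3,6,10,7,0,2]],
  [[4,8,4,4,5,8,8],[3,8,0,2,8,4,8],[0,3,9,8,3,3,7],[5,2,1,1,4,3,0],[9,7,8,0,3,3,3],[10,8,6,10,7,0,9],[10,0,10,6,7,9,8]],
  [[1,1,10,3,8,9,8],[4,4,7,8,0,3,10],[3,6,7,2,8,1,5],[9,3,2,3,1,5,2],[0,0,2,1,4,8,2],[0,10,9,10,7,6,3],[2,2,0,10,7,4,9]],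
  [[2,9,1,6,2,8,3],[9,6,5,1,6,2,7],[5,1,2,5,7,2,6],[9,10,8,9,2,8,5],[10,3,3,4,6,5,2],[6,9,9,9,6,2,1],[9,10,2,6,10,1,8]],
  [[9,3,2,3,1,5,2],[0,0,2,1,4,8,2],[0,1,2,1,4,5,8],[2,2,0,10,7,4,9],[10,10,1,8,3,2,3],[7,7,4,3,0,8,1],[8,5,4,9,3,10,6]],
  [[1,1,4,8,0,5,9],[3,0,8,3,3,2,7],[6,10,7,0,2,10,3],[10,6,7,2,3,10,0],[4,4,5,3,3,4,3],[0,9,3,4,8,8,8],[2,3,8,3,7,0,3]],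
  [[0,1,6,7,2,8,1],[3,7,4,5,3,8,7],[8,0,9,3,4,3,3],[8,2,8,3,8,7,0],[2,1,10,7,3,0,5],[7,8,0,8,3,8,9],[8,6,1,4,0,2,10]],
  [[6,10,5,9,7,8,8],[1,1,3,3,4,0,3],[6,3,1,10,10,9,2],[2,3,10,9,8,5,9],[7,7,1,3,7,9,4],[8,0,2,6,9,4,3],[3,3,2,9,7,8,7]],
  [[8,0,0,5,4,6,5],[4,7,7,5,2,5,3],[5,4,7,5,9,3,7],[4,0,8,1,5,0,4],[4,3,10,4,3,0,7],[5,1,7,9,9,6,6],[2,6,3,2,7,4,2]],
  [[4,7,6,6,2,4,3],[8,2,9,9,4,6,4],[8,7,1,4,5,0,0],[0,5,6,3,7,0,6],[10,4,4,4,3,8,0],[7,8,5,4,2,4,6],[7,5,9,5,9,10,5]],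
  [[6,9,3,4,5,1,8],[1,8,1,5,10,9,2],[5,7,5,10,9,9,5],[2,6,10,9,8,2,3],[5,1,2,2,9,6,9],[2,8,9,6,8,9,10],[7,5,1,5,2,6,9]],
  [[7,6,1,5,2,5,2],[6,2,3,4,5,10,3],[10,8,10,6,1,9,2],[6,7,6,1,2,9,5],[2,5,10,9,8,9,8],[6,1,9,9,2,6,9],[2,3,9,6,8,2,1]],
  [[8,9,9,10,6,2,8],[7,9,5,5,10,5,9],[5,6,1,9,5,7,2],[6,2,10,3,9,2,8],[9,1,3,8,4,6,5],[1,6,2,9,2,5,9],[8,9,1,2,5,1,10]],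
  [[8,9,9,9,4,5,7],[3,7,10,7,6,0,0],[0,5,5,8,4,0,6],[10,7,4,4,3,3,0],[4,8,6,7,9,4,6],[7,6,9,5,9,1,6],[4,4,6,6,2,7,8]],
  [[7,4,8,1,4,8,0],[8,7,7,7,6,2,6],[5,6,1,7,2,9,5],[7,5,7,4,5,2,3],[9,9,6,3,9,7,7],[4,4,0,3,1,6,0],[5,8,0,0,5,7,6]],
  [[8,5,3,1,4,5,9],[9,3,2,1,9,0,10],[8,10,5,7,6,2,8],[2,4,7,3,1,3,1],[6,2,5,8,6,1,0],[0,8,4,9,3,6,2],[4,5,7,4,8,5,9]],
  [[8,10,3,10,2,1,3],[8,4,0,4,3,7,10],[2,3,8,6,1,7,5],[8,2,10,8,6,9,9],[1,0,4,0,8,2,2],[1,0,4,1,5,2,8],[1,9,4,9,7,0,2]],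
  [[0,9,3,10,0,0,8],[0,8,3,10,0,0,9],[0,1,10,3,0,0,1],[2,0,0,0,4,5,0],[4,0,0,0,6,9,0],[0,8,2,10,0,0,8],[6,0,0,0,2,7,0]],
  [[9,8,8,8,7,0,3],[10,10,4,3,0,5,9],[3,0,3,3,8,9,4],[6,10,4,0,9,1,8],[1,5,7,9,3,10,0],[4,4,6,3,8,7,8],[0,2,3,7,8,8,8]],
  [[8,9,4,1,6,3,5],[5,7,10,9,5,5,9],[2,10,9,5,6,9,2],[9,5,5,6,7,1,2],[9,3,6,2,10,10,1],[8,5,2,9,9,1,3],[1,3,5,2,9,2,3]],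
  [[7,3,9,2,2,7,5],[0,8,7,1,4,5,0],[6,0,5,6,3,7,0],[0,1,7,7,7,8,3],[6,7,8,5,4,2,4],[6,4,6,2,6,2,1],[8,7,4,5,5,9,7]],
  [[9,8,10,0,10,6,7],[8,8,4,8,4,4,5],[7,3,8,3,0,9,3],[3,7,0,3,9,8,3],[8,0,6,9,10,10,7],[8,8,2,4,3,0,8],[0,2,1,3,5,1,4]],
  [[9,6,5,1,6,2,7],[5,1,2,5,7,2,6],[2,1,3,2,9,3,6],[10,3,3,4,6,5,2],[5,2,2,2,5,9,10],[2,1,9,5,1,10,3],[9,2,10,5,9,3,8]],
  [[4,0,9,1,8,6,10],[7,9,3,10,0,1,5],[5,8,3,4,3,7,7],[3,7,8,8,8,0,2],[3,3,4,0,8,2,3],[7,8,0,6,2,1,1],[8,8,3,2,7,8,0]],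
  [[8,8,9,4,8,0,3],[0,9,1,8,5,1,4],[2,3,10,0,10,6,7],[3,3,4,3,4,4,5],[7,3,3,3,0,2,8],[3,7,0,3,2,3,8],[3,0,6,2,10,10,7]],
  [[9,3,7,3,8,3,0],[3,8,8,4,0,8,2],[10,7,8,0,6,9,10],[0,3,3,3,9,7,8],[10,7,0,9,10,8,6],[5,4,2,3,1,0,1],[4,5,8,8,4,8,4]],
  [[2,6,3,7,4,4,5],[9,8,7,6,7,4,5],[6,0,7,4,0,8,10],[3,0,7,7,8,1,4],[2,6,5,5,1,7,2],[4,4,9,2,6,3,9],[7,6,6,8,0,0,6]],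
  [[8,5,5,2,10,8,4],[1,2,8,3,6,2,9],[4,2,0,1,3,0,9],[7,3,1,10,5,0,2],[7,9,9,10,7,9,0],[8,8,10,3,2,10,1],[0,10,7,8,8,7,4]],
  [[4,7,7,2,1,7,8],[3,9,0,7,2,8,5],[8,7,3,3,2,4,2],[5,7,10,3,5,3,2],[10,4,1,0,3,8,8],[5,10,3,2,1,9,1],[9,8,3,6,10,2,2]]]

def elts10 : List LMat := [
  [[0,0,10,0,0,0,0],[0,0,0,10,0,0,0],[0,0,0,0,10,0,0],[0,0,0,0,0,1,0],[0,0,0,0,0,0,1],[10,0,0,0,0,0,0],[0,1,0,0,0,0,0]],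
  [[5,9,1,1,4,8,0],[2,7,3,0,8,3,3],[1,8,5,1,4,0,9],[10,0,10,6,7,2,3],[7,8,7,7,6,8,8],[3,3,0,2,8,7,3],[0,8,9,8,3,8,4]],
  [[9,3,3,8,4,0,3],[10,1,7,3,0,5,9],[8,0,3,8,8,2,7],[5,10,4,0,9,10,3],[1,6,4,9,8,10,0],[7,4,6,8,8,4,3],[0,9,8,7,3,8,8]],
  [[10,9,3,6,9,9,3],[10,8,7,9,7,7,4],[2,6,2,7,3,3,0],[2,9,4,3,7,8,3],[5,9,4,3,8,5,10],[8,8,4,0,8,1,10],[10,1,10,9,9,6,8]],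
  [[2,7,6,10,6,2,6],[3,6,2,8,7,5,1],[9,1,3,10,6,10,9],[6,5,4,6,1,9,9],[8,2,5,1,2,8,2],[2,5,10,9,9,9,6],[1,2,3,2,5,8,9]],
  [[8,1,0,1,5,4,9],[3,4,3,4,4,5,3],[3,3,3,0,2,8,7],[4,0,8,9,8,3,8],[0,6,2,10,10,7,3],[3,2,7,3,0,8,3],[2,10,3,6,10,7,0]],
  [[1,0,1,5,4,2,3],[4,8,4,4,5,8,8],[8,3,0,9,3,7,3],[0,8,2,3,8,8,4],[6,9,10,10,7,8,0],[9,7,8,0,3,3,3],[10,8,6,10,7,0,9]],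
  [[8,4,8,4,4,5,8],[8,3,8,0,2,8,4],[7,0,3,9,8,3,3],[0,5,2,1,1,4,3],[3,9,7,8,0,3,3],[9,10,8,6,10,7,0],[8,10,0,10,6,7,9]],
  [[2,7,6,1,5,2,5],[3,6,2,3,4,5,10],[2,10,8,10,6,1,9],[5,6,7,6,1,2,9],[8,2,5,10,9,8,9],[9,6,1,9,9,2,6],[1,2,3,9,6,8,2]],
  [[8,8,9,9,10,6,2],[9,7,9,5,5,10,5],[2,5,6,1,9,5,7],[8,6,2,10,3,9,2],[5,9,1,3,8,4,6],[9,1,6,2,9,2,5],[10,8,9,1,2,5,1]],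
  [[2,5,6,10,5,9,4],[5,2,2,2,5,9,10],[5,1,2,5,7,2,6],[9,10,2,6,10,1,8],[2,1,3,2,9,3,6],[2,9,1,6,2,8,3],[1,8,8,7,5,6,9]],
  [[9,8,5,3,1,4,5],[10,9,3,2,1,9,0],[8,8,10,5,7,6,2],[1,2,4,7,3,1,3],[0,6,2,5,8,6,1],[2,0,8,4,9,3,6],[9,4,5,7,4,8,5]],
  [[4,9,5,10,2,6,5],[0,4,6,0,6,6,8],[7,2,7,4,5,8,6],[1,3,4,8,7,0,4],[3,4,2,6,2,7,9],[7,9,3,7,5,6,7],[8,6,4,0,1,0,7]],
  [[4,0,7,2,0,7,9],[9,2,4,0,0,7,7],[10,7,10,7,7,4,10],[9,4,1,9,7,10,5],[1,7,5,4,9,10,9],[7,0,9,0,2,7,4],[5,9,9,7,4,10,1]],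
  [[0,3,5,5,9,10,6],[2,9,0,3,8,6,4],[2,7,7,3,6,6,4],[2,10,3,7,6,6,8],[1,10,2,2,8,0,9],[8,7,8,6,10,2,5],[1,3,2,1,4,3,7]],
  [[4,4,10,8,4,2,7],[8,0,2,6,9,4,3],[3,3,2,9,7,8,7],[5,1,6,2,4,3,3],[1,1,3,3,4,0,3],[5,8,10,1,1,2,9],[9,8,1,2,3,6,2]],
  [[4,3,10,9,3,6,6],[4,3,10,8,0,10,3],[1,9,3,10,2,6,10],[8,9,8,2,5,9,10],[7,4,4,8,9,4,1],[9,3,0,5,4,3,2],[4,4,3,9,3,3,9]],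
  [[5,4,9,5,10,2,6],[8,0,4,6,0,6,6],[6,7,2,7,4,5,8],[4,1,3,4,8,7,0],[9,3,4,2,6,2,7],[7,7,9,3,7,5,6],[7,8,6,4,0,1,0]],
  [[3,3,9,1,1,3,1],[9,1,1,3,1,3,3],[1,3,1,3,3,9,1],[1,3,3,9,1,1,3],[3,9,1,1,3,1,3],[1,1,3,1,3,3,9],[3,1,3,3,9,1,1]],
  [[10,10,5,2,2,4,4],[4,9,7,0,7,2,0],[7,4,9,9,7,0,0],[7,10,1,7,10,7,4],[1,5,2,4,1,9,4],[1,9,10,7,5,4,2],[7,7,7,0,2,0,2]],
  [[9,5,6,6,10,4,9],[9,8,7,6,7,4,5],[7,7,2,9,5,8,2],[5,0,4,7,0,3,1],[4,5,5,3,0,0,5],[3,0,7,7,8,1,4],[2,6,3,7,4,4,5]],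
  [[10,5,6,6,6,4,7],[5,0,7,4,8,8,5],[6,7,6,10,6,5,4],[6,4,10,6,6,7,5],[6,8,6,6,8,8,8],[4,8,5,7,8,5,0],[7,5,4,5,8,0,8]],
  [[9,0,8,8,1,0,0],[0,9,0,0,0,7,5],[8,0,8,9,1,0,0],[8,0,9,8,1,0,0],[1,0,1,1,8,0,0],[0,7,0,0,0,5,9],[0,5,0,0,0,9,7]],
  [[0,0,1,0,0,0,0],[0,0,0,0,0,0,1],[0,0,0,1,0,0,0],[1,0,0,0,0,0,0],[0,0,0,0,1,0,0],[0,1,0,0,0,0,0],[0,0,0,0,0,1,0]],
  [[8,8,2,4,1,1,4],[1,5,3,3,7,2,6],[3,10,6,6,6,0,2],[10,0,9,9,9,10,3],[2,5,0,7,3,2,8],[7,2,3,5,5,3,1],[4,5,7,7,3,2,6]],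
  [[8,1,5,5,5,0,9],[2,5,0,7,3,2,8],[7,6,4,4,8,9,5],[10,6,8,8,4,9,5],[1,0,2,2,2,1,8],[7,2,3,5,5,3,1],[8,8,2,4,1,1,4]],
  [[0,8,9,1,0,0,8],[5,0,0,0,9,7,0],[0,9,8,1,0,0,8],[0,8,8,1,0,0,9],[0,1,1,8,0,0,1],[9,0,0,0,7,5,0],[7,0,0,0,5,9,0]],
  [[9,8,5,5,8,1,4],[6,4,7,3,9,6,7],[3,9,4,1,10,4,3],[6,8,3,7,9,6,10],[1,5,6,6,0,2,8],[0,2,9,9,1,3,1],[6,0,7,3,9,8,9]],
  [[0,2,3,10,0,0,3],[0,1,1,8,0,0,1],[4,0,0,0,6,2,0],[6,0,0,0,2,4,0],[0,3,3,10,0,0,2],[9,0,0,0,7,5,0],[0,8,9,1,0,0,8]],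
  [[8,2,7,10,1,7,8],[1,5,6,6,0,2,8],[5,0,4,8,2,3,2],[5,7,4,8,2,5,4],[5,3,8,4,2,5,1],[0,2,9,9,1,3,1],[9,8,5,5,8,1,4]],
  [[0,5,0,0,0,9,7],[8,0,9,8,1,0,0],[9,0,8,8,1,0,0],[1,0,1,1,8,0,0],[0,9,0,0,0,7,5],[0,7,0,0,0,5,9],[8,0,8,9,1,0,0]],
  [[10,10,5,0,9,4,3],[10,8,9,1,1,8,3],[5,9,1,3,4,8,6],[0,1,3,0,2,7,2],[9,1,4,2,0,7,2],[4,8,8,7,7,0,10],[3,3,6,2,2,10,2]],
  [[8,4,5,4,5,3,0],[4,10,6,5,5,6,4],[5,6,0,7,4,3,3],[4,5,7,6,10,5,6],[5,5,4,10,6,5,4],[3,6,3,5,5,8,8],[0,4,3,6,4,8,5]],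
  [[0,0,0,0,0,0,1],[0,0,0,10,0,0,0],[10,0,0,0,0,0,0],[0,0,0,0,10,0,0],[0,1,0,0,0,0,0],[0,0,0,0,0,1,0],[0,0,10,0,0,0,0]],
  [[2,0,3,3,10,0,0],[0,9,0,0,0,7,5],[3,0,3,2,10,0,0],[3,0,2,3,10,0,0],[10,0,10,10,3,0,0],[0,7,0,0,0,5,9],[0,5,0,0,0,9,7]],
  [[6,2,10,8,7,3,5],[9,1,4,2,0,7,2],[8,8,5,9,9,1,9],[1,3,2,10,10,3,8],[0,10,8,0,9,4,9],[4,8,8,7,7,0,10],[10,10,5,0,9,4,3]],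
  [[6,5,0,4,7,8,8],[5,5,4,10,6,5,4],[0,7,8,5,7,3,6],[7,1,5,6,6,5,7],[7,6,4,5,1,6,5],[3,6,3,5,5,8,8],[8,4,5,4,5,3,0]],
  [[8,1,3,10,2,7,4],[8,5,10,0,5,2,5],[2,3,6,9,0,3,7],[4,3,6,9,7,5,7],[1,7,6,9,3,5,3],[1,2,0,10,2,3,2],[4,6,2,3,8,1,6]],
  [[8,0,8,9,1,0,0],[10,0,10,10,3,0,0],[0,6,0,0,0,2,4],[0,2,0,0,0,4,6],[8,0,9,8,1,0,0],[0,7,0,0,0,5,9],[2,0,3,3,10,0,0]],
  [[9,6,3,6,1,0,6],[8,4,9,8,5,2,0],[5,7,4,3,6,9,7],[5,3,1,7,6,9,3],[8,9,10,9,0,1,9],[1,6,4,6,2,3,8],[4,7,3,10,8,1,9]],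
  [[9,1,7,3,7,1,8],[8,7,5,6,8,2,1],[5,6,9,1,5,0,3],[2,9,8,0,2,10,10],[0,3,3,6,4,2,2],[8,5,10,9,6,3,7],[4,3,5,6,4,2,4]],
  [[0,0,4,6,0,9,0],[2,1,0,0,3,0,8],[3,1,0,0,3,0,9],[10,8,0,0,10,0,1],[0,0,6,2,0,7,0],[0,0,2,4,0,5,0],[3,1,0,0,2,0,8]],
  [[8,0,1,2,1,4,5],[3,10,10,1,8,3,2],[6,8,5,4,9,3,10],[2,0,0,2,1,4,8],[9,2,2,0,10,7,4],[1,7,7,4,3,0,8],[2,9,3,2,3,1,5]],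
  [[4,5,7,7,3,2,6],[1,0,2,2,2,1,8],[3,3,9,7,10,10,7],[9,6,0,4,8,9,3],[1,5,3,3,7,2,6],[7,2,3,5,5,3,1],[8,1,5,5,5,0,9]],
  [[9,8,5,2,0,8,4],[1,7,6,9,3,5,3],[7,5,9,8,3,10,5],[3,6,1,0,6,9,6],[7,8,5,2,4,6,4],[1,2,0,10,2,3,2],[8,1,3,10,2,7,4]],
  [[6,4,7,8,5,2,4],[8,9,10,9,0,1,9],[7,4,8,1,3,10,2],[3,7,2,3,6,9,0],[6,8,10,4,5,2,8],[1,6,4,6,2,3,8],[9,6,3,6,1,0,6]],
  [[6,5,2,10,6,0,8],[0,3,3,6,4,2,2],[7,8,6,5,7,9,7],[3,4,6,5,3,9,10],[9,2,3,0,9,1,1],[8,5,10,9,6,3,7],[9,1,7,3,7,1,8]],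
  [[8,10,0,0,8,0,2],[0,0,6,2,0,7,0],[8,10,0,0,9,0,3],[9,10,0,0,8,0,3],[1,3,0,0,1,0,10],[0,0,2,4,0,5,0],[0,0,4,6,0,9,0]],
  [[5,3,6,7,2,8,1],[9,2,2,0,10,7,4],[9,2,8,9,8,10,6],[8,1,1,10,3,8,9],[9,0,0,9,10,7,3],[1,7,7,4,3,0,8],[8,0,1,2,1,4,5]],
  [[6,5,0,7,7,3,8],[5,5,7,1,6,6,4],[0,4,8,5,4,3,5],[4,10,5,6,5,5,4],[7,6,7,6,1,5,5],[8,5,3,5,6,8,3],[8,4,6,7,5,8,0]]]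

def elts11 : List LMat := [
  [[4,6,2,3,8,1,6],[7,8,5,2,4,6,4],[3,10,8,1,9,4,7],[10,4,5,2,8,6,8],[8,5,10,0,5,2,5],[1,2,0,10,2,3,2],[9,8,5,2,0,8,4]],
  [[5,9,9,8,9,1,8],[3,2,2,1,0,7,0],[6,2,8,1,0,7,1],[7,0,9,10,9,4,2],[2,10,8,3,10,3,1],[8,7,10,8,7,0,4],[1,4,6,9,3,8,5]],
  [[1,4,6,9,3,8,5],[4,0,2,1,2,7,9],[6,2,2,3,2,10,3],[9,1,3,8,1,8,10],[3,2,2,1,0,7,0],[8,7,10,8,7,0,4],[5,9,3,10,0,4,10]],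
  [[5,2,10,8,4,8,5],[9,10,7,9,0,7,9],[3,8,5,9,2,10,9],[10,3,2,10,1,8,8],[0,10,8,0,2,7,9],[4,3,3,4,7,0,1],[10,1,6,0,9,4,8]],
  [[6,8,7,3,6,1,9],[4,9,4,7,8,6,6],[7,10,8,2,10,4,3],[8,9,1,3,4,6,6],[5,0,3,6,5,2,1],[2,1,10,9,2,3,0],[4,9,2,0,8,8,6]],
  [[7,0,0,0,5,9,0],[0,3,3,10,0,0,2],[0,3,2,10,0,0,3],[0,10,10,3,0,0,10],[5,0,0,0,9,7,0],[9,0,0,0,7,5,0],[0,2,3,10,0,0,3]],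
  [[6,0,7,3,9,8,9],[5,3,8,4,2,5,1],[2,3,6,6,3,10,7],[10,6,5,5,0,9,3],[6,4,7,3,9,6,7],[0,2,9,9,1,3,1],[8,2,7,10,1,7,8]],
  [[0,0,10,0,0,0,0],[0,0,0,0,1,0,0],[0,0,0,0,0,0,10],[0,10,0,0,0,0,0],[0,0,0,10,0,0,0],[0,0,0,0,0,1,0],[1,0,0,0,0,0,0]],
  [[5,9,3,10,0,4,10],[2,10,8,3,10,3,1],[10,7,5,2,8,3,6],[8,9,9,10,0,4,0],[4,0,2,1,2,7,9],[8,7,10,8,7,0,4],[5,9,9,8,9,1,8]],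
  [[8,3,6,2,9,1,2],[0,10,8,0,2,7,9],[1,10,5,0,2,7,3],[2,1,4,2,0,4,2],[1,8,9,1,10,3,3],[4,3,3,4,7,0,1],[5,2,10,8,4,8,5]],
  [[4,1,3,9,1,7,8],[5,0,3,6,5,2,1],[7,2,9,0,3,3,5],[7,2,7,4,3,5,5],[3,2,10,8,7,5,5],[2,1,10,9,2,3,0],[6,8,7,3,6,1,9]],
  [[8,4,6,7,5,8,0],[7,1,6,5,6,6,7],[5,6,0,4,4,8,3],[4,5,4,5,10,6,6],[5,5,7,1,6,6,4],[8,5,3,5,6,8,3],[0,7,3,6,7,8,6]],
  [[4,9,2,0,8,8,6],[3,2,10,8,7,5,5],[5,3,4,8,5,10,2],[6,0,8,5,6,9,10],[4,9,4,7,8,6,6],[2,1,10,9,2,3,0],[4,1,3,9,1,7,8]],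
  [[5,2,9,8,9,10,3],[3,9,2,1,0,4,0],[5,2,3,10,0,7,1],[4,0,2,1,2,4,2],[2,1,8,3,10,8,10],[3,7,1,3,4,0,4],[1,7,6,9,3,3,6]],
  [[4,7,3,10,8,1,9],[6,8,10,4,5,2,8],[2,5,8,5,10,0,5],[3,2,1,2,0,10,2],[8,4,9,8,5,2,0],[1,6,4,6,2,3,8],[6,4,7,8,5,2,4]],
  [[4,3,5,6,4,2,4],[9,2,3,0,9,1,1],[2,10,4,8,4,10,3],[0,8,8,5,7,9,9],[8,7,5,6,8,2,1],[8,5,10,9,6,3,7],[6,5,2,10,6,0,8]],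
  [[0,4,3,6,4,8,5],[7,6,4,5,1,6,5],[3,7,6,7,6,8,0],[6,6,7,1,5,6,7],[4,10,6,5,5,6,4],[3,6,3,5,5,8,8],[6,5,0,4,7,8,8]],
  [[5,3,5,4,2,3,1],[2,9,2,0,1,7,7],[9,2,3,2,8,1,6],[8,1,10,1,3,3,9],[9,0,0,2,10,4,3],[10,4,7,4,8,0,3],[3,0,1,2,10,4,6]],
  [[1,7,6,9,3,3,6],[7,0,9,10,9,7,9],[6,9,2,3,2,1,8],[9,10,3,8,1,3,1],[3,9,2,1,0,4,0],[3,7,1,3,4,0,4],[6,9,8,1,0,4,10]],
  [[5,0,2,0,0,0,7],[0,8,0,2,8,10,0],[2,0,7,0,0,0,6],[0,2,0,8,3,1,0],[0,8,0,3,9,10,0],[0,10,0,1,10,8,0],[7,0,6,0,0,0,9]],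
  [[2,9,8,9,3,10,5],[9,0,0,2,10,4,3],[8,0,10,9,1,7,5],[9,2,9,0,10,4,4],[3,10,1,10,8,8,2],[10,4,7,4,8,0,3],[5,3,5,4,2,3,1]],
  [[7,0,6,0,0,0,9],[0,9,0,3,8,10,0],[6,0,9,0,0,0,4],[0,3,0,8,2,1,0],[0,8,0,2,8,10,0],[0,10,0,1,10,8,0],[9,0,4,0,0,0,5]],
  [[2,9,3,2,3,1,5],[9,0,0,9,10,7,3],[3,0,10,9,10,7,6],[2,9,9,0,1,4,7],[3,10,10,1,8,3,2],[1,7,7,4,3,0,8],[5,3,6,7,2,8,1]],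
  [[9,0,4,0,0,0,5],[0,8,0,3,9,10,0],[4,0,5,0,0,0,2],[0,3,0,9,3,1,0],[0,9,0,3,8,10,0],[0,10,0,1,10,8,0],[5,0,2,0,0,0,7]],
  [[8,7,5,4,5,8,0],[4,1,6,5,5,5,7],[6,6,0,4,7,3,3],[7,5,4,5,1,5,6],[5,6,4,10,6,6,7],[8,6,8,6,6,8,8],[0,7,3,6,4,3,6]],
  [[0,7,3,6,4,3,6],[4,6,7,6,10,6,5],[3,4,6,7,6,3,0],[6,5,7,1,5,5,4],[4,1,6,5,5,5,7],[8,6,8,6,6,8,8],[5,5,0,7,4,8,8]],
  [[5,5,0,7,4,8,8],[5,6,4,10,6,6,7],[0,4,8,5,7,8,5],[7,10,5,6,6,6,4],[4,6,7,6,10,6,5],[8,6,8,6,6,8,8],[8,7,5,4,5,8,0]]]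

def elts : List LMat :=
  elts0 ++ elts1 ++ elts2 ++ elts3 ++ elts4 ++ elts5 ++ elts6 ++ elts7 ++ elts8 ++ elts9 ++ elts10 ++ elts11

def steps0 : List (ℕ × ℕ) := [
  (0,0), (0,0), (0,0), (2,2), (1,3), (2,1), (4,5), (1,2),
  (6,7), (2,5), (8,9), (1,5), (10,11), (5,11), (12,13), (2,7),
  (14,15), (16,11), (11,15), (17,18), (19,7), (15,1), (20,21), (18,7),
  (22,23), (9,23), (24,25), (21,1), (26,27), (2,25), (28,29), (13,2),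
  (30,31), (2,23), (32,33), (3,23), (34,35), (27,1), (36,37), (35,33),
  (38,39), (39,1), (40,41), (37,41), (42,43), (43,3), (44,45), (18,31),
  (46,47), (47,43)]

def steps1 : List (ℕ × ℕ) := [
  (48,49), (35,45), (50,51), (41,39), (52,53), (49,47), (54,55), (29,41),
  (56,57), (18,55), (58,59), (51,57), (60,61), (35,53), (62,63), (18,51),
  (64,65), (59,65), (66,67), (63,18), (68,69), (59,61), (70,71), (29,47),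
  (72,73), (69,18), (74,75), (73,71), (76,77), (35,77), (78,79), (71,67),
  (80,81), (75,67), (82,83), (29,59), (84,85), (59,79), (86,87), (85,18),
  (88,89), (87,75), (90,91), (85,91), (92,93), (59,83), (94,95), (85,89),
  (96,97), (77,85)]

def steps2 : List (ℕ × ℕ) := [
  (98,99), (85,59), (100,101), (97,101), (102,103), (85,75), (104,105), (95,81),
  (106,107), (103,81), (108,109), (93,101), (110,111), (111,99), (112,113), (113,99),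
  (114,115), (107,81), (116,117), (109,113), (118,119), (75,105), (120,121), (119,121),
  (122,123), (117,121), (124,125), (93,81), (126,127), (123,125), (128,129), (115,109),
  (130,131), (129,123), (132,133), (129,133), (134,135), (81,105), (136,137), (135,121),
  (138,139), (137,115), (140,141), (139,115), (142,143), (130,130), (145,130), (90,90),
  (6,4), (148,148)]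

def steps3 : List (ℕ × ℕ) := [
  (149,149), (150,150), (151,148), (148,147), (153,152), (146,154), (154,146), (154,154),
  (155,146), (155,154), (156,154), (157,146), (158,154), (159,146), (160,146), (160,154),
  (161,154), (162,146), (162,154), (163,154), (164,154), (165,146), (166,146), (166,154),
  (167,154), (168,146), (169,146), (169,154), (170,146), (170,154), (173,146), (174,146),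
  (174,154), (175,154), (176,154), (177,146), (178,154), (179,146), (180,154), (181,154),
  (182,146), (183,146), (184,146), (184,154), (185,154), (186,154), (187,154), (188,154),
  (189,146), (189,154)]

def steps4 : List (ℕ × ℕ) := [
  (191,154), (192,154), (193,146), (194,146), (195,146), (196,146), (196,154), (197,146),
  (198,154), (199,146), (200,154), (201,146), (201,154), (202,154), (203,154), (204,154),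
  (205,154), (206,146), (207,154), (208,146), (209,154), (210,146), (211,154), (212,146),
  (213,146), (214,154), (215,146), (217,154), (218,146), (218,154), (219,154), (220,154),
  (221,154), (222,146), (223,154), (224,154), (225,146), (226,154), (227,154), (228,154),
  (229,146), (231,146), (233,154), (234,154), (235,154), (236,154), (237,146), (238,146),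
  (239,146), (241,154)]

def steps5 : List (ℕ × ℕ) := [
  (242,154), (245,154), (246,154), (247,154), (248,154), (249,154), (250,146), (251,146),
  (252,154), (253,154), (256,154), (257,154), (258,146), (259,146), (260,154), (261,154),
  (262,154), (263,154), (267,146), (1,1), (269,1), (5,1), (3,2), (270,1),
  (270,2), (11,1), (11,2), (4,1), (4,2), (271,1), (271,2), (15,2),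
  (9,1), (9,2), (272,1), (272,2), (273,1), (273,2), (274,1), (274,2),
  (275,1), (275,2), (276,1), (276,2), (277,1), (277,2), (278,2), (279,1),
  (279,2), (280,2)]

def steps6 : List (ℕ × ℕ) := [
  (21,2), (281,2), (282,1), (282,2), (283,1), (283,2), (284,1), (285,1),
  (286,1), (286,2), (287,1), (288,1), (289,1), (290,1), (290,2), (291,1),
  (291,2), (292,1), (293,1), (293,2), (294,1), (294,2), (295,1), (295,2),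
  (6,1), (6,2), (296,1), (297,1), (297,2), (298,1), (298,2), (299,1),
  (299,2), (27,2), (300,2), (301,1), (301,2), (302,1), (302,2), (303,1),
  (304,1), (304,2), (305,1), (305,2), (306,1), (307,1), (307,2), (308,2),
  (309,1), (310,1)]

def steps7 : List (ℕ × ℕ) := [
  (310,2), (311,1), (311,2), (312,1), (312,2), (313,1), (313,2), (315,1),
  (315,2), (316,1), (317,1), (317,2), (18,1), (18,2), (318,1), (318,2),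
  (319,1), (320,1), (320,2), (321,1), (322,1), (322,2), (323,1), (323,2),
  (324,1), (325,2), (327,1), (328,2), (329,1), (329,2), (330,1), (330,2),
  (31,2), (331,1), (332,1), (332,2), (37,1), (37,2), (333,2), (334,1),
  (336,1), (337,2), (338,2), (339,1), (340,1), (340,2), (341,1), (342,2),
  (343,1), (343,2)]

def steps8 : List (ℕ × ℕ) := [
  (344,1), (344,2), (345,2), (346,2), (348,1), (348,2), (349,1), (350,2),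
  (351,1), (352,1), (353,1), (354,1), (354,2), (356,1), (356,2), (357,1),
  (358,1), (359,2), (360,1), (360,2), (361,2), (362,1), (363,1), (364,1),
  (365,1), (365,2), (366,1), (366,2), (367,1), (367,2), (368,1), (369,1),
  (369,2), (370,1), (370,2), (371,1), (372,2), (373,1), (374,1), (374,2),
  (375,1), (375,2), (376,2), (377,1), (379,2), (380,1), (381,1), (382,2),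
  (383,1), (383,2)]

def steps9 : List (ℕ × ℕ) := [
  (386,1), (386,2), (387,2), (389,1), (389,2), (390,1), (390,2), (391,1),
  (391,2), (392,1), (393,1), (393,2), (394,2), (396,1), (396,2), (397,1),
  (397,2), (398,2), (401,2), (403,2), (404,1), (404,2), (405,2), (411,2),
  (412,1), (416,2), (418,1), (420,2), (422,2), (423,2), (425,2), (428,2),
  (429,2), (430,1), (431,1), (432,1), (432,2), (434,2), (435,2), (437,1),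
  (437,2), (441,1), (443,1), (444,1), (444,2), (446,2), (448,1), (452,1),
  (453,2), (454,2)]

def steps10 : List (ℕ × ℕ) := [
  (455,1), (456,2), (458,2), (468,1), (468,2), (471,1), (471,2), (472,1),
  (482,1), (483,1), (485,2), (486,1), (486,2), (488,2), (491,2), (493,2),
  (498,2), (512,1), (243,425), (179,436), (157,499), (190,390), (216,287), (249,472),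
  (160,306), (182,507), (524,524), (524,525), (525,524), (525,525), (526,524), (526,525),
  (527,524), (527,525), (528,524), (528,525), (529,524), (530,524), (530,525), (531,524),
  (531,525), (532,524), (532,525), (533,524), (534,524), (535,524), (535,525), (536,524),
  (536,525), (537,525)]

def steps11 : List (ℕ × ℕ) := [
  (538,524), (539,525), (540,524), (542,524), (542,525), (543,524), (543,525), (544,524),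
  (545,525), (548,524), (548,525), (550,525), (551,524), (552,525), (232,524), (232,525),
  (556,524), (254,524), (558,525), (244,525), (561,524), (563,524), (566,525), (567,525),
  (569,524), (569,525), (571,525)]

def steps : List (ℕ × ℕ) :=
  steps0 ++ steps1 ++ steps2 ++ steps3 ++ steps4 ++ steps5 ++ steps6 ++ steps7 ++ steps8 ++ steps9 ++ steps10 ++ steps11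

def ixC : ℕ := 155

def ixD : ℕ := 246

def ixR : ℕ := 9

def ixS5 : ℕ := 523

def ixT5 : ℕ := 522

def ixT : ℕ := 146

def ixU1 : ℕ := 531

def ixU2 : ℕ := 568

def ixA : ℕ := 524

def ixB : ℕ := 525

def cPow : List ℕ := [0,155,162,174,189,208,230,240,207,180,161]

def dPow : List ℕ := [0,246,264,268,265]

def sRep : List ℕ := [0,146,154,156,160,164,165,170,171,178,179,186]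

def tRep0 : List ℕ := [
  0, 1, 2, 269, 7, 5, 3, 270, 11, 4, 271, 15, 9, 272,
  273, 274, 275, 276, 277, 278, 279, 280, 21, 281, 282, 283, 284, 285,
  286, 287, 288, 289, 290, 291, 292, 293, 294, 295, 6, 296, 297, 298,
  13, 299, 27, 300, 301, 302, 303, 304]

def tRep1 : List ℕ := [
  305, 306, 307, 308, 309, 310, 311, 312, 313, 314, 315, 316, 317, 18,
  318, 319, 320, 321, 322, 323, 324, 325, 326, 327, 328, 329, 330, 31,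
  331, 332, 37, 333, 334, 335, 336, 337, 338, 339, 340, 341, 342, 343,
  344, 345, 346, 347, 348, 349, 350, 351]

def tRep2 : List ℕ := [
  352, 353, 354, 355, 356, 357, 358, 359, 360, 361, 362, 363, 364, 365,
  366, 367, 368, 369, 370, 371, 372, 373, 374, 375, 376, 377, 378, 379,
  380, 381, 382, 383, 384, 385, 386, 387, 388, 389, 390, 391, 392, 393,
  394, 395, 396, 397, 398, 399, 400, 401]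

def tRep3 : List ℕ := [
  402, 403, 404, 405, 406, 407, 408, 409, 410, 411, 412, 413, 414, 415,
  416, 417, 418, 419, 420, 421, 422, 423, 424, 425, 426, 427, 428, 429,
  430, 431, 432, 433, 434, 435, 436, 437, 438, 439, 440, 441, 442, 443,
  444, 445, 446, 447, 448, 449, 450, 451]

def tRep4 : List ℕ := [
  452, 453, 454, 455, 456, 457, 458, 459, 460, 461, 462, 463, 464, 465,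
  466, 467, 468, 469, 470, 471, 472, 473, 474, 475, 476, 477, 478, 479,
  480, 481, 482, 483, 484, 485, 486, 487, 488, 489, 490, 491, 492, 493,
  494, 495, 496, 497, 498, 499, 500, 501]

def tRep5 : List ℕ := [
  502, 503, 504, 505, 506, 507, 508, 509, 510, 511, 512, 513, 514, 515,
  516, 517]

def tRep : List ℕ :=
  tRep0 ++ tRep1 ++ tRep2 ++ tRep3 ++ tRep4 ++ tRep5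

def tableS0 : List (ℕ × ℕ × ℕ) := [
  (1,0,0), (0,1,0), (0,0,0), (0,0,1), (0,0,2), (0,0,3),
  (0,0,4), (0,0,5), (0,0,6), (0,0,7), (0,0,8), (0,0,9),
  (0,0,10), (0,0,11), (0,0,2), (4,0,9), (0,0,1), (0,0,0),
  (1,0,0), (1,0,1), (2,0,0), (2,0,1), (2,0,2), (3,0,0),
  (2,0,3), (3,0,1), (3,0,2), (4,0,0), (0,0,4), (7,4,2),
  (0,0,2), (0,0,3), (10,0,1), (10,0,0), (10,0,2), (10,0,3),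
  (9,0,1), (10,0,4), (9,0,0), (10,0,5), (10,0,6), (10,0,7),
  (10,0,1), (6,4,4), (0,0,3), (0,0,2), (0,0,4), (0,0,5),
  (0,0,7), (0,0,9)]

def tableS1 : List (ℕ × ℕ × ℕ) := [
  (0,0,10), (0,0,11), (3,3,11), (10,2,10), (9,1,8), (10,2,5),
  (0,0,7), (2,1,6), (0,0,4), (0,0,5), (0,0,6), (0,0,8),
  (10,4,9), (10,4,7), (10,4,11), (10,4,10), (5,1,10), (3,2,11),
  (10,4,5), (6,3,8), (0,0,6), (6,2,3), (0,0,5), (0,0,4),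
  (0,0,7), (0,0,9), (0,0,11), (10,2,10), (9,1,8), (10,2,5),
  (9,1,6), (10,2,4), (10,2,7), (10,2,6), (10,4,9), (2,2,11),
  (0,0,6), (0,0,8), (0,0,3), (0,0,2), (10,0,1), (10,0,0),
  (0,0,0), (10,0,2), (0,0,1), (10,0,3), (9,0,1), (10,0,4),
  (0,0,11), (7,4,1)]

def tableS2 : List (ℕ × ℕ × ℕ) := [
  (0,0,7), (0,0,9), (0,0,10), (3,3,11), (8,4,8), (8,4,6),
  (3,3,9), (8,4,3), (3,3,7), (8,4,2), (8,4,4), (3,4,1),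
  (0,0,3), (3,0,10), (0,0,8), (0,0,6), (10,4,9), (10,4,7),
  (10,4,10), (3,2,11), (10,4,5), (6,3,8), (10,4,4), (6,3,6),
  (3,2,9), (6,3,3), (0,0,10), (8,3,8), (0,0,9), (0,0,7),
  (0,0,11), (10,2,10), (10,2,5), (10,2,4), (10,2,7), (10,2,6),
  (10,2,9), (10,2,8), (10,2,3), (6,1,9), (8,4,8), (5,3,7),
  (0,0,10), (3,3,11), (0,0,5), (0,0,4), (0,0,6), (0,0,8),
  (0,0,3), (10,4,9)]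

def tableS3 : List (ℕ × ℕ × ℕ) := [
  (0,0,2), (10,4,7), (10,4,11), (10,4,10), (10,2,5), (2,1,5),
  (0,0,11), (10,2,10), (9,1,8), (9,1,6), (9,1,3), (9,1,2),
  (9,1,4), (0,1,1), (9,1,5), (0,1,0), (9,1,0), (0,1,2)]

def tableS : List (ℕ × ℕ × ℕ) :=
  tableS0 ++ tableS1 ++ tableS2 ++ tableS3

def tableT0 : List (ℕ × ℕ × ℕ × ℕ) := [
  (0,0,0,1), (0,0,0,2), (0,0,0,3), (0,0,0,4), (0,0,0,5),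
  (0,0,0,6), (0,0,0,7), (4,1,8,3), (0,0,0,8), (0,0,0,9),
  (0,0,0,10), (0,0,0,11), (0,0,0,12), (0,0,0,13), (0,0,0,14),
  (0,0,0,15), (0,0,0,16), (0,0,0,17), (0,0,0,18), (0,0,0,19),
  (0,0,0,20), (0,0,0,21), (0,0,0,22), (0,0,0,23), (0,0,0,24),
  (0,0,0,25), (0,0,0,26), (0,0,0,27), (0,0,0,28), (0,0,0,29),
  (0,0,0,30), (0,0,0,31), (0,0,0,32), (0,0,0,33), (0,0,0,34),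
  (0,0,0,35), (0,0,0,36), (0,0,0,37), (0,0,0,38), (0,0,0,39),
  (0,0,0,40), (0,0,0,41), (0,0,0,42), (0,0,0,43), (0,0,0,44),
  (0,0,0,45), (7,4,7,35), (0,0,0,46), (0,0,0,47), (0,0,0,48)]

def tableT1 : List (ℕ × ℕ × ℕ × ℕ) := [
  (0,0,0,49), (0,0,0,50), (0,0,0,51), (4,2,10,36), (0,0,0,52),
  (0,0,0,0), (0,0,0,53), (0,0,0,54), (0,0,0,55), (6,2,6,7),
  (0,0,0,56), (10,3,7,53), (0,0,0,57), (5,0,11,14), (0,0,0,58),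
  (0,0,0,59), (0,0,0,60), (0,0,0,61), (0,0,0,62), (0,0,0,63),
  (0,0,0,64), (0,0,0,65), (0,0,0,66), (0,0,0,67), (0,0,0,68),
  (0,0,0,69), (0,0,0,70), (0,0,0,71), (0,0,0,72), (0,0,0,1),
  (0,0,0,73), (0,0,0,74), (0,0,0,75), (0,0,0,76), (2,4,3,6),
  (0,0,0,77), (0,0,0,78), (0,0,0,79), (0,0,0,80), (0,0,0,81),
  (2,3,3,23), (0,0,0,82), (0,0,0,83), (0,0,0,84), (0,0,0,85),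
  (0,0,0,86), (0,0,0,87), (9,3,1,26), (0,0,0,88), (0,0,0,89)]

def tableT2 : List (ℕ × ℕ × ℕ × ℕ) := [
  (0,0,0,90), (0,0,0,91), (0,0,0,92), (4,3,11,83), (0,0,0,93),
  (0,0,0,94), (0,0,0,0), (0,0,0,95), (0,0,0,96), (7,0,9,34),
  (0,0,0,97), (0,0,0,98), (0,0,0,99), (0,0,0,100), (0,0,0,101),
  (0,0,0,102), (0,0,0,103), (0,0,0,104), (7,3,0,39), (8,0,10,30),
  (0,0,0,105), (0,0,0,106), (0,0,0,107), (3,1,9,51), (0,0,0,108),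
  (0,0,0,109), (0,0,0,110), (0,0,0,111), (0,0,0,112), (0,0,0,113),
  (0,0,0,114), (10,1,11,99), (0,0,0,115), (0,0,0,116), (0,0,0,117),
  (1,3,9,24), (0,0,0,118), (0,0,0,119), (0,0,0,120), (0,0,0,121),
  (0,0,0,122), (5,2,0,66), (5,2,0,33), (0,0,0,123), (4,4,6,46),
  (4,2,10,20), (0,0,0,124), (2,4,3,80), (2,4,3,41), (0,0,0,125)]

def tableT3 : List (ℕ × ℕ × ℕ × ℕ) := [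
  (0,0,0,126), (0,0,0,127), (0,0,0,128), (0,0,0,129), (4,0,2,89),
  (0,0,0,130), (0,0,0,131), (8,3,8,18), (0,0,0,132), (0,0,0,133),
  (0,0,0,134), (0,0,0,135), (3,4,11,45), (0,0,0,136), (0,0,0,137),
  (2,0,6,128), (4,1,6,79), (4,1,8,16), (0,0,0,138), (0,0,0,5),
  (2,4,3,21), (0,0,0,139), (9,4,7,106), (0,0,0,140), (0,0,0,141),
  (3,2,6,107), (0,0,0,142), (0,0,0,143), (0,0,0,144), (4,4,8,87),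
  (8,4,10,48), (0,0,0,145), (0,0,0,146), (0,0,0,147), (0,0,0,148),
  (0,0,0,149), (9,3,3,65), (0,0,0,150), (9,3,3,31), (0,0,0,151),
  (4,1,8,94), (2,0,3,32), (0,0,0,152), (0,0,0,153), (0,0,0,154),
  (4,2,8,57), (0,0,1,4), (0,0,0,155), (0,0,0,156), (10,1,11,8)]

def tableT4 : List (ℕ × ℕ × ℕ × ℕ) := [
  (0,0,0,157), (1,3,10,156), (0,0,0,158), (1,3,2,73), (0,0,0,159),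
  (0,0,0,160), (0,0,1,98), (5,0,10,137), (0,0,0,161), (0,0,0,162),
  (0,0,0,163), (7,4,5,90), (0,0,0,164), (5,4,2,144), (0,3,11,77),
  (0,0,0,165), (0,0,0,166), (0,0,0,167), (3,3,9,63), (0,0,0,168),
  (0,0,0,169), (1,0,7,75), (0,0,0,170), (8,0,10,28), (0,0,0,171),
  (10,1,11,115), (0,0,0,172), (0,0,0,173), (0,0,0,174), (0,0,0,175),
  (0,0,0,176), (0,0,0,177), (0,0,0,178), (0,3,5,68), (0,0,0,179),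
  (0,0,0,180), (0,0,0,181), (0,0,0,182), (0,0,0,183), (4,3,2,70),
  (7,1,0,19), (0,0,0,184), (0,0,0,185), (0,3,11,78), (0,0,0,186),
  (0,0,0,187), (0,0,0,188), (0,0,0,189), (0,0,0,2), (0,0,0,190)]

def tableT5 : List (ℕ × ℕ × ℕ × ℕ) := [
  (0,0,0,191), (7,3,0,122), (4,4,3,168), (3,0,11,38), (4,1,3,182),
  (0,0,0,192), (0,0,0,193), (7,0,9,179), (0,0,0,194), (4,1,8,72),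
  (6,2,8,143), (0,0,0,195), (0,0,0,196), (0,0,0,197), (8,3,8,59),
  (4,2,8,158), (4,2,8,100), (0,0,0,10), (0,0,0,198), (0,0,0,199),
  (3,3,10,167), (0,0,0,200), (2,1,0,160), (0,4,10,108), (0,0,0,201),
  (0,0,0,202), (0,0,0,203), (0,0,0,204), (0,0,0,205), (0,0,0,206),
  (0,0,0,207), (1,2,5,134), (0,0,0,208), (0,0,0,209), (5,1,9,91),
  (0,0,0,210), (5,1,9,43), (5,3,10,166), (0,0,0,211), (0,0,0,212),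
  (0,0,0,213), (0,0,0,214), (1,3,3,212), (0,0,0,215), (8,0,3,162),
  (0,0,0,12), (0,4,0,206), (4,2,10,60), (7,0,5,82), (0,0,0,216)]

def tableT6 : List (ℕ × ℕ × ℕ × ℕ) := [
  (4,2,10,54), (9,4,0,185), (8,1,4,84), (0,0,0,217), (0,0,0,218),
  (0,0,0,219), (7,0,9,9), (0,0,0,220), (0,0,1,133), (6,4,8,138),
  (5,3,8,136), (2,0,2,132), (3,3,6,217), (10,1,11,124), (10,1,11,29),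
  (8,3,6,159), (10,1,11,204), (1,3,2,55), (5,0,11,150), (0,0,0,221),
  (0,0,0,222), (2,4,3,174), (10,1,11,113), (1,2,0,164), (8,1,7,189),
  (1,0,8,170), (3,0,6,221), (9,4,8,92), (7,4,5,210), (0,0,0,223),
  (10,4,5,145), (4,4,5,49), (0,0,0,224), (7,2,2,171), (7,2,2,109),
  (9,0,5,44), (1,3,5,180), (0,0,0,225), (2,3,9,199), (8,2,6,85),
  (1,0,7,190), (0,0,0,226), (8,2,6,81), (0,0,0,227), (3,4,4,121),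
  (8,1,2,146), (3,4,4,61), (0,0,0,228), (1,4,10,187), (10,1,11,97)]

def tableT7 : List (ℕ × ℕ × ℕ × ℕ) := [
  (10,0,10,226), (7,4,2,152), (8,0,10,153), (0,0,0,229), (9,4,0,119),
  (0,0,0,230), (0,0,0,231), (5,3,10,120), (0,0,0,232), (2,1,10,22),
  (0,0,0,233), (0,0,0,234), (2,1,10,76), (7,1,0,181), (7,1,0,116),
  (0,0,0,235), (9,0,5,234), (0,0,0,236), (8,1,11,197), (1,2,4,176),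
  (0,0,0,237), (0,0,0,238), (9,4,0,69), (5,2,0,62), (10,3,8,27),
  (5,2,0,40), (5,2,0,238), (2,1,10,141), (0,0,0,239), (2,1,10,126),
  (2,3,3,200), (2,4,3,56), (0,0,0,240), (9,3,10,194), (0,0,0,241),
  (0,0,0,242), (3,0,11,37), (1,4,8,240), (2,3,11,230), (0,0,0,243),
  (2,1,0,219), (5,2,8,232), (0,0,0,244), (5,1,1,172), (8,3,6,155),
  (0,0,6,161), (7,0,1,242), (4,4,3,64), (8,1,5,135), (7,0,8,47)]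

def tableT8 : List (ℕ × ℕ × ℕ × ℕ) := [
  (0,0,0,245), (9,0,11,101), (3,3,7,195), (0,0,0,246), (3,3,7,125),
  (0,0,0,247), (0,0,0,248), (0,0,0,154), (0,0,0,95), (0,0,0,249),
  (2,4,3,215), (0,1,0,205), (0,3,10,214), (0,0,0,250), (1,2,5,147),
  (8,0,1,233), (7,0,6,223), (8,2,0,207), (8,4,5,123), (10,3,9,142),
  (9,3,4,165), (2,1,1,188), (4,0,5,173), (2,4,5,211), (4,4,8,25),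
  (2,4,5,148), (4,0,2,86), (7,4,2,196), (6,1,4,13), (4,0,0,222),
  (3,2,7,209), (4,0,6,213), (0,0,0,251), (0,0,0,252), (1,2,6,249),
  (4,0,7,218), (4,4,10,102), (3,1,9,52), (0,0,0,253), (0,0,0,254),
  (0,0,0,255), (3,1,8,241), (4,4,4,227), (6,4,11,239), (1,3,2,243),
  (1,3,10,105), (5,4,2,50), (8,3,6,131), (2,3,9,250), (3,3,9,112)]

def tableT9 : List (ℕ × ℕ × ℕ × ℕ) := [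
  (2,4,10,220), (7,3,0,186), (10,1,5,151), (2,0,1,58), (1,4,10,71),
  (9,0,11,88), (6,4,7,140), (5,0,10,198), (3,2,10,202), (3,4,8,178),
  (0,0,0,256), (7,2,2,224), (0,0,0,257), (4,0,10,191), (10,2,9,192),
  (1,3,9,42), (2,1,10,74), (0,0,0,258), (0,0,0,259), (0,0,0,260),
  (6,0,2,246), (8,1,1,193), (4,2,2,127), (0,0,0,261), (8,3,0,104),
  (9,4,8,208), (9,4,8,139), (10,1,9,244), (1,1,0,228), (0,0,0,262),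
  (6,0,2,260), (7,3,0,118), (4,2,9,247), (0,0,0,263), (0,0,11,11),
  (9,0,3,110), (0,2,1,184), (6,2,9,253), (3,1,2,130), (0,4,1,93),
  (7,0,8,263), (3,4,0,103), (4,1,3,177), (0,0,0,264), (5,0,11,67),
  (4,3,3,245), (6,4,1,175), (4,2,10,248), (2,0,3,15), (4,1,6,203)]

def tableT10 : List (ℕ × ℕ × ℕ × ℕ) := [
  (3,3,10,17), (5,0,4,169), (10,2,1,225), (2,0,2,183), (9,2,11,254),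
  (9,4,7,163), (3,1,9,149), (4,1,8,231), (2,3,1,129), (6,4,1,114),
  (10,3,1,261), (2,0,6,255), (10,2,6,258), (4,4,1,201), (5,0,5,236),
  (8,4,1,256), (0,4,2,252), (5,2,5,237), (3,0,0,235), (5,0,1,117),
  (0,0,0,265), (10,2,6,259), (4,2,7,264), (10,4,2,265), (6,2,2,111),
  (5,2,2,157), (5,2,9,262), (3,1,8,96), (6,1,6,216), (10,2,2,257),
  (5,0,1,229), (3,0,2,251)]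

def tableT : List (ℕ × ℕ × ℕ × ℕ) :=
  tableT0 ++ tableT1 ++ tableT2 ++ tableT3 ++ tableT4 ++ tableT5 ++ tableT6 ++ tableT7 ++ tableT8 ++ tableT9 ++ tableT10

def wit6 : ℕ := 76

def wit7 : ℕ := 92

def wit10 : ℕ := 98

def wit11 : ℕ := 74

def wit15 : ℕ := 86

def wit19 : ℕ := 84

def gen7 : ℕ := 1

def norm7 : ℕ := 518

def exp7 : ℕ := 3

def fixVec7 : List ℕ := [1,1,1,1,1,1,1]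

def coVec7 : List ℕ := [0,0,0,0,0,0,1]

def leftInv7 : LMat := [[10,10,10,10,10,10,0],[0,10,10,10,10,10,0],[0,0,10,10,10,10,0],[0,0,0,10,10,10,0],[0,0,0,0,10,10,0],[0,0,0,0,0,10,0],[0,0,0,0,0,0,0]]

def conj70 : List ℕ := [
  0, 2, 7, 3, 4, 15, 272, 274, 276, 278, 280, 281, 283, 285,
  287, 289, 291, 293, 295, 296, 298, 299, 300, 301, 303, 305, 309, 314,
  316, 18, 319, 321, 323, 325, 328, 330, 31, 332, 333, 334, 336, 338,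
  341, 343, 346, 347, 350, 352, 354, 356]

def conj71 : List ℕ := [
  358, 361, 363, 365, 368, 371, 373, 375, 377, 379, 381, 382, 387, 388,
  391, 392, 395, 397, 401, 403, 407, 412, 414, 417, 419, 420, 425, 427,
  429, 432, 434, 436, 439, 441, 442, 444, 447, 449, 451, 452, 454, 458,
  461, 462, 464, 466, 467, 468, 469, 471]

def conj72 : List ℕ := [
  473, 475, 477, 478, 479, 480, 481, 482, 486, 487, 488, 490, 494, 495,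
  498, 499, 501, 502, 504, 506, 510, 512, 513, 514, 515, 516, 8, 10,
  12, 14, 16, 17, 19, 20, 22, 23, 24, 25, 26, 28, 29, 30,
  32, 33, 34, 35, 36, 38, 39, 40]

def conj73 : List ℕ := [
  42, 43, 44, 45, 46, 47, 48, 49, 50, 52, 53, 54, 55, 56,
  57, 58, 59, 60, 61, 62, 63, 64, 65, 67, 68, 70, 71, 72,
  73, 74, 76, 77, 78, 79, 80, 81, 82, 83, 84, 85, 86]

def conj7 : List ℕ :=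
  conj70 ++ conj71 ++ conj72 ++ conj73

def gen11 : ℕ := 155

def norm11 : ℕ := 519

def exp11 : ℕ := 6

def fixVec11 : List ℕ := [10,1,10,2,6,0,1]

def coVec11 : List ℕ := [0,0,0,0,0,0,1]

def leftInv11 : LMat := [[10,7,2,7,1,0,0],[5,10,1,6,3,0,0],[8,0,10,7,7,0,0],[6,3,6,3,2,4,0],[5,2,10,8,9,3,0],[0,0,0,7,8,5,0],[0,0,0,0,0,0,0]]

def conj110 : List ℕ := [
  0, 1, 2, 269, 7, 5, 3, 270, 11, 4, 271, 15, 9, 272,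
  273, 274, 275, 276, 277, 278, 279, 280, 21, 281, 282, 283, 284, 285,
  286, 287, 288, 289, 290, 291, 292, 293, 294, 295, 6, 296, 297, 298,
  13, 299, 27, 300, 301, 302, 303, 304]

def conj111 : List ℕ := [
  305, 306, 307, 308, 309, 310, 311, 312, 313, 314, 315, 316, 317, 18,
  318, 319, 320, 321, 322, 323, 324, 325, 327, 328, 329, 330, 31, 331,
  332, 37, 333, 334, 336, 337, 338, 339, 340, 341, 342, 343, 344, 345,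
  346, 347, 348, 349, 350, 351, 352, 353]

def conj112 : List ℕ := [
  354, 355, 356, 357, 358, 359, 360, 361, 362, 363, 364, 365, 366, 367,
  368, 369, 370, 371, 372, 373, 374, 375, 376, 377, 378, 379, 380, 381,
  382, 383, 384, 385, 386, 387]

def conj11 : List ℕ :=
  conj110 ++ conj111 ++ conj112

def gen19 : ℕ := 84

def norm19 : ℕ := 520

def exp19 : ℕ := 8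

def fixVec19 : List ℕ := [1,6,10,5,6,8,1]

def coVec19 : List ℕ := [0,0,0,0,0,0,1]

def leftInv19 : LMat := [[10,9,6,8,1,6,0],[7,9,9,0,4,4,0],[6,8,10,5,3,4,0],[9,3,0,9,3,0,0],[4,4,3,0,9,9,0],[8,3,4,4,9,6,0],[0,0,0,0,0,0,0]]

def conj190 : List ℕ := [
  0, 1, 2, 269, 7, 5, 3, 270, 11, 4, 271, 15, 9, 272,
  273, 274, 275, 276, 277, 278, 279, 280, 21, 281, 282, 283, 284, 285,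
  286, 287, 288, 289, 290, 291, 292, 293, 294, 295, 6, 296, 297, 298,
  13, 299, 27, 300, 301, 303, 304, 305]

def conj191 : List ℕ := [
  306, 307, 308, 309, 310, 311, 312, 313, 314, 315, 316, 317, 18, 318,
  319, 320, 321, 322, 323, 324, 325, 326, 327, 328, 329, 330, 31, 331]

def conj19 : List ℕ :=
  conj190 ++ conj191

def gen5 : ℕ := 2

def norm5 : ℕ := 521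

def exp5 : ℕ := 4

def fixVec5 : List ℕ := [5,0,5,5,1,0,0]

def coVec5 : List ℕ := [0,0,0,0,1,0,0]

def leftInv5 : LMat := [[9,10,4,4,0,5,9],[1,5,6,2,0,0,0],[4,5,9,4,0,9,10],[4,9,4,9,0,10,5],[0,0,0,0,0,0,0],[6,0,2,1,0,5,0],[2,0,1,6,0,0,5]]

def conj50 : List ℕ := [
  0, 1, 269, 5, 270, 11, 271, 9, 273, 275, 277, 279, 21, 282,
  284, 286, 288, 290, 292, 294, 6, 297, 13, 27, 302, 304, 306, 307,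
  308, 310, 311, 312, 313, 315, 317, 318, 320, 322, 324, 326, 327, 329,
  331, 37, 335, 337, 339, 340, 342, 344]

def conj51 : List ℕ := [
  345, 349, 353, 357, 359, 360, 362, 364, 366, 367, 369, 370, 372, 374,
  378, 380, 383, 384, 386, 389, 390, 393, 394, 396, 398, 400, 404, 406,
  408, 409, 410, 411, 413, 416, 418, 421, 422, 423, 424, 426, 428, 430,
  431, 433, 435, 437, 438, 440, 443, 445]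

def conj52 : List ℕ := [
  446, 448, 453, 457, 459, 463, 465, 474, 483, 485, 489, 491, 492, 493,
  496, 497, 503, 505, 507, 508, 511, 517, 10, 12, 14, 16, 17, 22,
  25, 26, 28, 29, 30, 32, 33, 35, 36, 38, 39, 40, 41, 42,
  43, 44, 46, 47, 48, 49, 50, 52]

def conj53 : List ℕ := [
  53, 54, 55, 56, 57, 58, 59, 60, 61, 62, 63, 64, 65, 66,
  67, 68, 69, 70, 71, 72, 73, 74, 75, 76, 77, 78, 79, 80,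
  81, 82, 84, 85, 86, 87, 88, 89, 90, 91, 92, 93, 94, 95,
  96, 97, 98, 99, 100, 101, 102, 103]

def conj54 : List ℕ := [
  104, 105, 106, 107, 108, 109, 110, 111, 112, 113, 115, 116, 117, 118,
  119, 120, 121, 122, 123, 124, 125, 127, 128, 129, 130, 131, 132, 133,
  134, 136, 137, 138, 139, 140, 141, 142, 143, 144, 145, 146, 147, 149,
  152, 153, 154, 155, 156, 157, 159, 160]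

def conj55 : List ℕ := [
  161, 162, 163, 164, 165, 166, 167, 168, 169, 170, 171, 172, 173, 174,
  175, 176, 177]

def conj5 : List ℕ :=
  conj50 ++ conj51 ++ conj52 ++ conj53 ++ conj54 ++ conj55

def altImg : List ℕ := [0,524,525,526,527,528,529,530,531,532,533,534,535,536,537,538,539,540,541,542,543,544,545,546,547,548,549,550,551,552,232,553,554,555,556,557,254,558,559,560,244,561,562,145,563,564,565,566,567,568,255,569,570,266,571,572,573,574,575,576]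

def altPerm0 : List (List ℕ) := [
  [0,1,2,3,4], [1,2,3,4,0], [1,2,0,3,4], [2,3,4,0,1], [2,3,1,4,0], [2,0,3,4,1],
  [2,0,1,3,4], [3,4,0,1,2], [3,4,2,0,1], [3,1,4,0,2], [3,1,2,4,0], [0,3,4,1,2],
  [0,3,2,4,1], [0,1,3,4,2], [4,0,1,2,3], [4,0,3,1,2], [4,2,0,1,3], [4,2,3,0,1],
  [1,4,0,2,3], [1,4,3,0,2], [1,2,4,0,3], [3,4,1,2,0], [3,2,4,1,0], [3,2,0,4,1],
  [1,3,4,2,0], [1,3,0,4,2], [0,1,4,2,3], [0,3,1,2,4], [2,0,4,1,3], [2,3,0,1,4],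
  [4,0,2,3,1], [4,3,0,2,1], [4,3,1,0,2], [2,4,0,3,1], [2,4,1,0,3], [4,1,2,0,3],
  [4,1,3,2,0], [2,4,3,1,0], [3,0,4,2,1], [3,0,1,4,2], [1,4,2,3,0], [3,1,0,2,4],
  [0,4,1,3,2], [0,4,2,1,3], [3,0,2,1,4], [0,2,3,1,4], [0,2,4,3,1], [4,1,0,3,2],
  [1,3,2,0,4], [4,3,2,1,0]]

def altPerm1 : List (List ℕ) := [
  [0,4,3,2,1], [4,2,1,3,0], [1,0,2,4,3], [1,0,3,2,4], [0,2,1,4,3], [1,0,4,3,2],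
  [3,2,1,0,4], [2,1,3,0,4], [2,1,4,3,0], [2,1,0,4,3]]

def altPerm : List (List ℕ) :=
  altPerm0 ++ altPerm1

def altPar0 : List (ℕ × ℕ) := [
  (0,0), (0,0), (0,1), (1,0), (1,1), (2,0), (2,1), (3,0),
  (3,1), (4,0), (4,1), (5,0), (5,1), (6,0), (7,0), (7,1),
  (8,0), (8,1), (9,0), (9,1), (10,0), (11,0), (12,0), (12,1),
  (13,0), (13,1), (14,1), (15,0), (16,1), (17,0), (18,0), (19,0),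
  (19,1), (20,0), (20,1), (21,0), (21,1), (22,1), (25,0), (25,1),
  (26,0), (27,1), (28,0), (28,1), (29,1), (30,0), (30,1), (34,0),
  (36,0), (37,1)]

def altPar1 : List (ℕ × ℕ) := [
  (38,1), (40,1), (41,0), (41,1), (44,0), (47,1), (48,1), (51,0),
  (51,1), (54,1)]

def altPar : List (ℕ × ℕ) :=
  altPar0 ++ altPar1

end Cfsg.Agent.Lib.Recog.Janko
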