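import Mathlib
import Cfsg.Prelude.Def_Spor_J1
import Cfsg.Agent.Lib.Recog.JankoData

/-! The smallest Janko group: membership certificates and the bound on the order. -/

set_option autoImplicit false
set_option maxRecDepth 100000
-- run the large kernel evaluations one after the other, so that their memory does not add up
set_option Elab.async false

namespace Cfsg.Agent.Lib.Recog.Janko

/-- matrices -/
abbrev Mat : Type := Matrix (Fin 7) (Fin 7) (ZMod 11)

def addL : List ℕ → List ℕ → List ℕ
  | [], l => l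
  | a :: l, [] => a :: l
  | a :: l, b :: l' => (a + b) :: addL l l'

def lin : ℕ → List ℕ → LMat → List ℕ
  | 0, _, _ => []
  | n + 1, r, B => addL ((B.getD 0 []).map (fun x => r.getD 0 0 * x)) (lin n r.tail B.tail)

def mulM (A B : LMat) : LMat := A.map fun r => (lin 7 r B).map (· % 11)

def oneM : LMat :=
  [[1,0,0,0,0,0,0],[0,1,0,0,0,0,0],[0,0,1,0,0,0,0],[0,0,0,1,0,0,0],[0,0,0,0,1,0,0],[0,0,0,0,0,1,0],[0,0,0,0,0,0,1]]

/-- the matrix of a list -/
def toM (A : LMat) : Mat := Matrix.of fun i j => (((A.getD i.val []).getD j.val 0 : ℕ) : ZMod 11)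

theorem getD_addL (a b : List ℕ) (j : ℕ) : (addL a b).getD j 0 = a.getD j 0 + b.getD j 0 := by
  induction a, b using addL.induct generalizing j with
  | case1 l => simp [addL]
  | case2 a l => simp [addL]
  | case3 a l b l' ih =>
    cases j with
    | zero => simp [addL]
    | succ j => simpa [addL] using ih j

theorem getD_tail {α : Type*} (l : List α) (i : ℕ) (d : α) : l.tail.getD i d = l.getD (i + 1) d := by
  cases l <;> simp

theorem getD_map_zero (l : List ℕ) (f : ℕ → ℕ) (hf : f 0 = 0) (j : ℕ) :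
    (l.map f).getD j 0 = f (l.getD j 0) := by
  rcases lt_or_ge j l.length with h | h
  · rw [List.getD_eq_getElem _ _ (by simpa using h), List.getD_eq_getElem _ _ h, List.getElem_map]
  · rw [List.getD_eq_default _ _ (by simpa using h), List.getD_eq_default _ _ h, hf]

theorem getD_lin (n : ℕ) (r : List ℕ) (B : LMat) (j : ℕ) :
    (lin n r B).getD j 0 = ∑ l ∈ Finset.range n, r.getD l 0 * (B.getD l []).getD j 0 := by
  induction n generalizing r B with
  | zero => simp [lin]
  | succ n ih =>
    rw [lin, getD_addL, getD_map_zero _ _ (mul_zero _), ih, Finset.sum_range_succ', add_comm]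
    simp only [getD_tail]

theorem getD_mulM (A B : LMat) (i : ℕ) :
    (mulM A B).getD i [] = if i < A.length then (lin 7 (A.getD i []) B).map (· % 11) else [] := by
  rw [mulM]
  split_ifs with h
  · rw [List.getD_eq_getElem _ _ (by simpa using h), List.getElem_map, List.getD_eq_getElem _ _ h]
  · rw [List.getD_eq_default _ _ (by simpa using not_lt.1 h)]

theorem toM_mulM (A B : LMat) : toM (mulM A B) = toM A * toM B := by
  ext i j
  simp only [toM, Matrix.mul_apply, Matrix.of_apply, getD_mulM]
  split_ifs with h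
  · rw [getD_map_zero _ (fun x => x % 11) (Nat.zero_mod _), ZMod.natCast_mod, getD_lin, Nat.cast_sum,
      ← Fin.sum_univ_eq_sum_range (fun l => (((A.getD i.val []).getD l 0 * (B.getD l []).getD j.val 0 : ℕ) : ZMod 11)) 7]
    exact Finset.sum_congr rfl fun l _ => by push_cast; rfl
  · rw [List.getD_eq_default _ _ (not_lt.1 h)]; simp

theorem toM_oneM : toM oneM = 1 := by
  ext i j
  fin_cases i <;> fin_cases j <;> rfl

/-- the element at an index -/
def el (i : ℕ) : LMat := elts.getD i []

/-- the matrix at an index -/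
def M (i : ℕ) : Mat := toM (el i)

theorem toM_X : toM (el 1) = jankoMatrixX := by
  decide +kernel

theorem toM_Y : toM (el 2) = jankoMatrixY := by
  decide +kernel

theorem el_zero : el 0 = oneM := by decide +kernel

/-- the straight line program check -/
def stepOK (k : ℕ) : Bool :=
  let s := steps.getD k (0, 0)
  decide (k < 3) || (decide (s.1 < k) && decide (s.2 < k) && (el k == mulM (el s.1) (el s.2)))

/-- a check over a range, assembled from the checks over consecutive pieces -/
theorem all_range_chunks (f : ℕ → Bool) {n : ℕ} (l : List (ℕ × ℕ))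
    (hl : List.range n = (l.map fun p => List.range' p.1 p.2).flatten)
    (h : ∀ p ∈ l, (List.range' p.1 p.2).all f = true) : (List.range n).all f = true := by
  rw [hl, List.all_eq_true]
  intro x hx
  obtain ⟨_, hy, hxy⟩ := List.mem_flatten.1 hx
  obtain ⟨p, hp, rfl⟩ := List.mem_map.1 hy
  exact List.all_eq_true.1 (h p hp) x hxy

theorem steps_ok_part0 : (List.range' 0 80).all stepOK = true := by decide +kernel
theorem steps_ok_part1 : (List.range' 80 80).all stepOK = true := by decide +kernel
theorem steps_ok_part2 : (List.range' 160 80).all stepOK = true := by decide +kernel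
theorem steps_ok_part3 : (List.range' 240 80).all stepOK = true := by decide +kernel
theorem steps_ok_part4 : (List.range' 320 80).all stepOK = true := by decide +kernel
theorem steps_ok_part5 : (List.range' 400 80).all stepOK = true := by decide +kernel
theorem steps_ok_part6 : (List.range' 480 80).all stepOK = true := by decide +kernel
theorem steps_ok_part7 : (List.range' 560 17).all stepOK = true := by decide +kernel

theorem steps_ok : (List.range 577).all stepOK = true :=
  all_range_chunks stepOK [(0, 80), (80, 80), (160, 80), (240, 80), (320, 80), (400, 80), (480, 80), (560, 17)] rfl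
    (by simp only [List.forall_mem_cons, List.not_mem_nil, false_imp_iff, implies_true, and_true]
        exact ⟨steps_ok_part0, steps_ok_part1, steps_ok_part2, steps_ok_part3, steps_ok_part4, steps_ok_part5, steps_ok_part6, steps_ok_part7⟩)

theorem M_mem {i : ℕ} (hi : i < 577) : ∃ g ∈ Spor.J1, (g : Mat) = M i := by
  induction i using Nat.strong_induction_on with
  | _ i ih =>
    rcases lt_or_ge i 3 with h | h
    · interval_cases i
      · exact ⟨1, one_mem _, by rw [M, el_zero, toM_oneM]; rfl⟩
      · exact ⟨Spor.jankoX, Subgroup.subset_closure (Or.inl rfl), by rw [M, toM_X]; rfl⟩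
      · exact ⟨Spor.jankoY, Subgroup.subset_closure (Or.inr rfl), by rw [M, toM_Y]; rfl⟩
    have hk := List.all_eq_true.1 steps_ok i (List.mem_range.2 hi)
    simp only [stepOK, Bool.or_eq_true, Bool.and_eq_true, decide_eq_true_eq, beq_iff_eq,
      not_lt.2 h, false_or] at hk
    obtain ⟨⟨h1, h2⟩, h3⟩ := hk
    obtain ⟨g, hg, hge⟩ := ih _ h1 (h1.trans hi)
    obtain ⟨g', hg', hge'⟩ := ih _ h2 (h2.trans hi)
    exact ⟨g * g', mul_mem hg hg', by rw [Units.val_mul, hge, hge', M, M, M, h3, toM_mulM]⟩

/-- powers in the list encoding -/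
def powM (A : LMat) : ℕ → LMat
  | 0 => oneM
  | n + 1 => mulM (powM A n) A

theorem toM_powM (A : LMat) (n : ℕ) : toM (powM A n) = toM A ^ n := by
  induction n with
  | zero => rw [powM, toM_oneM, pow_zero]
  | succ n ih => rw [powM, toM_mulM, ih, pow_succ]

theorem pow_eq_one_of_check {i n : ℕ} (h : powM (el i) n = oneM) : M i ^ n = 1 := by
  rw [M, ← toM_powM, h, toM_oneM]

/-- `some entry differs from the identity` -/
def notOne (A : LMat) : Bool :=
  (List.range 7).any fun i => (List.range 7).any fun j =>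
    (A.getD i []).getD j 0 % 11 != (if i = j then 1 else 0)

theorem ne_one_of_notOne {A : LMat} (h : notOne A = true) : toM A ≠ 1 := by
  intro e
  simp only [notOne, List.any_eq_true, List.mem_range, bne_iff_ne, ne_eq] at h
  obtain ⟨i, hi, j, hj, hne⟩ := h
  have := congrFun (congrFun e ⟨i, hi⟩) ⟨j, hj⟩
  simp only [toM, Matrix.of_apply, Matrix.one_apply, Fin.mk.injEq] at this
  apply hne
  split_ifs at this ⊢
  · rw [← ZMod.val_natCast, this]; rfl
  · rw [← ZMod.val_natCast, this]; rfl

/-- the set of products of powers of the elements `c`, `d` and a representative -/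
def tblSOK (n : ℕ) : Bool :=
  let i := n / 14
  let k := n % 14
  let t := tableS.getD n (0, 0, 0)
  let g := if k = 0 then el ixC else if k = 1 then el ixD else el (sRep.getD (k - 2) 0)
  decide (t.1 < 11) && decide (t.2.1 < 5) && decide (t.2.2 < 12) &&
    (mulM (el (sRep.getD i 0)) g ==
      mulM (mulM (el (cPow.getD t.1 0)) (el (dPow.getD t.2.1 0))) (el (sRep.getD t.2.2 0)))

theorem tblS_ok_part0 : (List.range' 0 42).all tblSOK = true := by decide +kernel
theorem tblS_ok_part1 : (List.range' 42 42).all tblSOK = true := by decide +kernel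
theorem tblS_ok_part2 : (List.range' 84 42).all tblSOK = true := by decide +kernel
theorem tblS_ok_part3 : (List.range' 126 42).all tblSOK = true := by decide +kernel

theorem tblS_ok : (List.range 168).all tblSOK = true :=
  all_range_chunks tblSOK [(0, 42), (42, 42), (84, 42), (126, 42)] rfl
    (by simp only [List.forall_mem_cons, List.not_mem_nil, false_imp_iff, implies_true, and_true]
        exact ⟨tblS_ok_part0, tblS_ok_part1, tblS_ok_part2, tblS_ok_part3⟩)

def tblTOK (n : ℕ) : Bool :=
  let i := n / 2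
  let g := if n % 2 = 0 then el 1 else el 2
  let t := tableT.getD n (0, 0, 0, 0)
  decide (t.1 < 11) && decide (t.2.1 < 5) && decide (t.2.2.1 < 12) && decide (t.2.2.2 < 266) &&
    (mulM (el (tRep.getD i 0)) g ==
      mulM (mulM (mulM (el (cPow.getD t.1 0)) (el (dPow.getD t.2.1 0))) (el (sRep.getD t.2.2.1 0)))
        (el (tRep.getD t.2.2.2 0)))

theorem tblT_ok_part0 : (List.range' 0 48).all tblTOK = true := by decide +kernel
theorem tblT_ok_part1 : (List.range' 48 48).all tblTOK = true := by decide +kernel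
theorem tblT_ok_part2 : (List.range' 96 48).all tblTOK = true := by decide +kernel
theorem tblT_ok_part3 : (List.range' 144 48).all tblTOK = true := by decide +kernel
theorem tblT_ok_part4 : (List.range' 192 48).all tblTOK = true := by decide +kernel
theorem tblT_ok_part5 : (List.range' 240 48).all tblTOK = true := by decide +kernel
theorem tblT_ok_part6 : (List.range' 288 48).all tblTOK = true := by decide +kernel
theorem tblT_ok_part7 : (List.range' 336 48).all tblTOK = true := by decide +kernel
theorem tblT_ok_part8 : (List.range' 384 48).all tblTOK = true := by decide +kernel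
theorem tblT_ok_part9 : (List.range' 432 48).all tblTOK = true := by decide +kernel
theorem tblT_ok_part10 : (List.range' 480 48).all tblTOK = true := by decide +kernel
theorem tblT_ok_part11 : (List.range' 528 4).all tblTOK = true := by decide +kernel

theorem tblT_ok : (List.range 532).all tblTOK = true :=
  all_range_chunks tblTOK [(0, 48), (48, 48), (96, 48), (144, 48), (192, 48), (240, 48), (288, 48), (336, 48), (384, 48), (432, 48), (480, 48), (528, 4)] rfl
    (by simp only [List.forall_mem_cons, List.not_mem_nil, false_imp_iff, implies_true, and_true]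
        exact ⟨tblT_ok_part0, tblT_ok_part1, tblT_ok_part2, tblT_ok_part3, tblT_ok_part4, tblT_ok_part5, tblT_ok_part6, tblT_ok_part7, tblT_ok_part8, tblT_ok_part9, tblT_ok_part10, tblT_ok_part11⟩)

theorem cPow_ok : (List.range 11).all (fun i => el (cPow.getD i 0) == powM (el ixC) i) = true := by
  decide +kernel

theorem dPow_ok : (List.range 5).all (fun i => el (dPow.getD i 0) == powM (el ixD) i) = true := by
  decide +kernel

theorem base_ok : (powM (el ixC) 11 == oneM && powM (el ixD) 5 == oneM &&
    (mulM (el ixD) (el ixC) == mulM (powM (el ixC) ixR) (el ixD)) && el (sRep.getD 0 0) == oneM &&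
    el (tRep.getD 0 0) == oneM && powM (el 1) 7 == oneM && powM (el 2) 5 == oneM) = true := by
  decide +kernel

/-- the middle level -/
def KS : Set Mat :=
  {m | ∃ i j, ∃ s < 12, m = M ixC ^ i * M ixD ^ j * M (sRep.getD s 0)}

theorem kk {i j i' j' : ℕ} :
    ∃ i'' j'', M ixC ^ i * M ixD ^ j * (M ixC ^ i' * M ixD ^ j') = M ixC ^ i'' * M ixD ^ j'' := by
  have hb := base_ok
  simp only [Bool.and_eq_true, beq_iff_eq] at hb
  have hdc : M ixD * M ixC = M ixC ^ ixR * M ixD := by
    have := congrArg toM hb.1.1.1.1.2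
    rwa [toM_mulM, toM_mulM, toM_powM] at this
  have h1 : ∀ n, M ixD * M ixC ^ n = M ixC ^ (ixR * n) * M ixD := by
    intro n
    induction n with
    | zero => simp
    | succ n ih => rw [pow_succ, ← mul_assoc, ih, mul_assoc, hdc, ← mul_assoc, ← pow_add]; ring_nf
  have h2 : ∀ m n, M ixD ^ m * M ixC ^ n = M ixC ^ (ixR ^ m * n) * M ixD ^ m := by
    intro m
    induction m with
    | zero => simp
    | succ m ih =>
      intro n
      rw [pow_succ, mul_assoc, h1, ← mul_assoc, ih, mul_assoc]
      ring_nf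
  exact ⟨i + ixR ^ j * i', j + j', by
    rw [mul_assoc, ← mul_assoc (M ixD ^ j), h2, mul_assoc, ← pow_add, ← mul_assoc, ← pow_add]⟩

theorem KS_left {m : Mat} (hm : m ∈ KS) (i j : ℕ) : M ixC ^ i * M ixD ^ j * m ∈ KS := by
  obtain ⟨i', j', s, hs, rfl⟩ := hm
  obtain ⟨a, b, hab⟩ := kk (i := i) (j := j) (i' := i') (j' := j')
  exact ⟨a, b, s, hs, by rw [← mul_assoc, hab]⟩

theorem cPow_eq {i : ℕ} (hi : i < 11) : M (cPow.getD i 0) = M ixC ^ i := by
  have := List.all_eq_true.1 cPow_ok i (List.mem_range.2 hi)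
  rw [beq_iff_eq] at this
  rw [M, this, toM_powM]; rfl

theorem dPow_eq {i : ℕ} (hi : i < 5) : M (dPow.getD i 0) = M ixD ^ i := by
  have := List.all_eq_true.1 dPow_ok i (List.mem_range.2 hi)
  rw [beq_iff_eq] at this
  rw [M, this, toM_powM]; rfl

theorem sRep_mul {s k : ℕ} (hs : s < 12) (hk : k < 14) :
    M (sRep.getD s 0) * (if k = 0 then M ixC else if k = 1 then M ixD else M (sRep.getD (k - 2) 0)) ∈ KS := by
  have h := List.all_eq_true.1 tblS_ok (14 * s + k) (List.mem_range.2 (by omega))
  have e1 : (14 * s + k) / 14 = s := by omega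
  have e2 : (14 * s + k) % 14 = k := by omega
  simp only [tblSOK, e1, e2, Bool.and_eq_true, decide_eq_true_eq, beq_iff_eq] at h
  obtain ⟨⟨⟨h1, h2⟩, h3⟩, h4⟩ := h
  have h5 := congrArg toM h4
  simp only [toM_mulM] at h5
  refine ⟨(tableS.getD (14 * s + k) (0, 0, 0)).1, (tableS.getD (14 * s + k) (0, 0, 0)).2.1, _, h3, ?_⟩
  rw [← cPow_eq h1, ← dPow_eq h2]
  refine Eq.trans ?_ h5
  unfold M
  split_ifs <;> rfl

theorem KS_mul_c {m : Mat} (hm : m ∈ KS) : m * M ixC ∈ KS := by
  obtain ⟨i, j, s, hs, rfl⟩ := hm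
  rw [mul_assoc]
  exact KS_left (by simpa using sRep_mul (k := 0) hs (by norm_num)) i j

theorem KS_mul_d {m : Mat} (hm : m ∈ KS) : m * M ixD ∈ KS := by
  obtain ⟨i, j, s, hs, rfl⟩ := hm
  rw [mul_assoc]
  exact KS_left (by simpa using sRep_mul (k := 1) hs (by norm_num)) i j

theorem KS_mul_s {m : Mat} (hm : m ∈ KS) {s' : ℕ} (hs' : s' < 12) : m * M (sRep.getD s' 0) ∈ KS := by
  obtain ⟨i, j, s, hs, rfl⟩ := hm
  rw [mul_assoc]
  exact KS_left (by simpa using sRep_mul (k := s' + 2) hs (by omega)) i j

theorem KS_mul {m n : Mat} (hm : m ∈ KS) (hn : n ∈ KS) : m * n ∈ KS := by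
  obtain ⟨i, j, s, hs, rfl⟩ := hn
  have h1 : ∀ i, m * M ixC ^ i ∈ KS := by
    intro i
    induction i with
    | zero => simpa using hm
    | succ i ih => rw [pow_succ, ← mul_assoc]; exact KS_mul_c ih
  have h2 : ∀ j, m * M ixC ^ i * M ixD ^ j ∈ KS := by
    intro j
    induction j with
    | zero => simpa using h1 i
    | succ j ih => rw [pow_succ, ← mul_assoc]; exact KS_mul_d ih
  rw [← mul_assoc, ← mul_assoc]
  exact KS_mul_s (h2 j) hs

/-- the top level -/
def P : Set Mat := {m | ∃ k ∈ KS, ∃ t < 266, m = k * M (tRep.getD t 0)}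

theorem one_mem_P : (1 : Mat) ∈ P := by
  have hb := base_ok
  simp only [Bool.and_eq_true, beq_iff_eq] at hb
  refine ⟨1, ⟨0, 0, 0, by norm_num, ?_⟩, 0, by norm_num, ?_⟩
  · rw [pow_zero, pow_zero, one_mul, one_mul, M, hb.1.1.1.2, toM_oneM]
  · rw [one_mul, M, hb.1.1.2, toM_oneM]

theorem P_mul_gen {m : Mat} (hm : m ∈ P) {g : ℕ} (hg : g = 1 ∨ g = 2) : m * M g ∈ P := by
  obtain ⟨k, hk, t, ht, rfl⟩ := hm
  have h := List.all_eq_true.1 tblT_ok (2 * t + (g - 1)) (List.mem_range.2 (by omega))
  have e1 : (2 * t + (g - 1)) / 2 = t := by omega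
  have e2 : (2 * t + (g - 1)) % 2 = g - 1 := by omega
  simp only [tblTOK, e1, e2, Bool.and_eq_true, decide_eq_true_eq, beq_iff_eq] at h
  obtain ⟨⟨⟨⟨h1, h2⟩, h3⟩, h4⟩, h5⟩ := h
  have h6 := congrArg toM h5
  simp only [toM_mulM] at h6
  have hg' : (if g - 1 = 0 then el 1 else el 2) = el g := by rcases hg with rfl | rfl <;> rfl
  rw [hg'] at h6
  refine ⟨_, KS_mul hk ⟨(tableT.getD (2 * t + (g - 1)) (0, 0, 0, 0)).1, (tableT.getD (2 * t + (g - 1)) (0, 0, 0, 0)).2.1,
    _, h3, rfl⟩, _, h4, ?_⟩
  rw [← cPow_eq h1, ← dPow_eq h2, mul_assoc, mul_assoc k]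
  exact congrArg (k * ·) h6

theorem val_mem_P {g : GL (Fin 7) (ZMod 11)} (hg : g ∈ Spor.J1) : (g : Mat) ∈ P := by
  have hb := base_ok
  simp only [Bool.and_eq_true, beq_iff_eq] at hb
  have hX : M 1 ^ 7 = 1 := pow_eq_one_of_check hb.1.2
  have hY : M 2 ^ 5 = 1 := pow_eq_one_of_check hb.2
  have hX' : Spor.jankoX ^ 7 = 1 := Units.ext (by
    rw [Units.val_pow_eq_pow_val]; rw [M, toM_X] at hX; exact hX)
  have hY' : Spor.jankoY ^ 5 = 1 := Units.ext (by
    rw [Units.val_pow_eq_pow_val]; rw [M, toM_Y] at hY; exact hY)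
  have hpow : ∀ {m : Mat}, m ∈ P → ∀ {g : ℕ}, (g = 1 ∨ g = 2) → ∀ n, m * M g ^ n ∈ P := by
    intro m hm g hg n
    induction n with
    | zero => simpa using hm
    | succ n ih => rw [pow_succ, ← mul_assoc]; exact P_mul_gen ih hg
  induction hg using Subgroup.closure_induction_right with
  | one => exact one_mem_P
  | mul_right x y _ hy ih =>
    rw [Units.val_mul]
    rcases hy with rfl | rfl
    · have := P_mul_gen ih (g := 1) (Or.inl rfl); rwa [M, toM_X] at this
    · have := P_mul_gen ih (g := 2) (Or.inr rfl); rwa [M, toM_Y] at this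
  | mul_inv_cancel x y _ hy ih =>
    rw [Units.val_mul]
    rcases hy with rfl | rfl
    · rw [inv_eq_of_mul_eq_one_right (b := Spor.jankoX ^ 6) (by rw [← pow_succ']; exact hX'), Units.val_pow_eq_pow_val]
      have := hpow ih (g := 1) (Or.inl rfl) 6; rwa [M, toM_X] at this
    · rw [inv_eq_of_mul_eq_one_right (b := Spor.jankoY ^ 4) (by rw [← pow_succ']; exact hY'), Units.val_pow_eq_pow_val]
      have := hpow ih (g := 2) (Or.inr rfl) 4; rwa [M, toM_Y] at this

theorem card_le : Nat.card Spor.J1 ≤ 175560 := by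
  have hb := base_ok
  simp only [Bool.and_eq_true, beq_iff_eq] at hb
  have hc : M ixC ^ 11 = 1 := pow_eq_one_of_check hb.1.1.1.1.1.1
  have hd : M ixD ^ 5 = 1 := pow_eq_one_of_check hb.1.1.1.1.1.2
  let f : ((Fin 11 × Fin 5) × Fin 12) × Fin 266 → Mat := fun p =>
    M ixC ^ p.1.1.1.val * M ixD ^ p.1.1.2.val * M (sRep.getD p.1.2.val 0) * M (tRep.getD p.2.val 0)
  have hmem : ∀ g : Spor.J1, ∃ p, f p = ((g : GL (Fin 7) (ZMod 11)) : Mat) := by
    intro g
    obtain ⟨k, ⟨i, j, s, hs, rfl⟩, t, ht, he⟩ := val_mem_P g.2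
    refine ⟨(((⟨i % 11, Nat.mod_lt _ (by norm_num)⟩, ⟨j % 5, Nat.mod_lt _ (by norm_num)⟩), ⟨s, hs⟩), ⟨t, ht⟩), ?_⟩
    simp only [f]
    rw [← pow_eq_pow_mod i hc, ← pow_eq_pow_mod j hd, he]
  choose φ hφ using hmem
  have hinj : Function.Injective φ := fun a b h => Subtype.ext (Units.ext (by rw [← hφ a, ← hφ b, h]))
  have := Nat.card_le_card_of_injective φ hinj
  simpa [Nat.card_eq_fintype_card] using this

end Cfsg.Agent.Lib.Recog.Janko
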