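import Mathlib

/-! Images of fixed vectors under the conjugating elements. -/

set_option autoImplicit false
set_option maxRecDepth 100000

namespace Cfsg.Agent.Lib.Recog.Janko

def vecs7_0 : List (List (List ℕ)) := [
  [[1,0,0,0,0,0,0],[1,0,0,0,0,0,0],[1,0,0,0,0,0,0],[1,0,0,0,0,0,0],[1,0,0,0,0,0,0],[1,0,0,0,0,0,0],[1,0,0,0,0,0,0]],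
  [[1,0,0,0,0,0,0],[10,0,0,0,0,0,0],[1,0,0,0,0,0,0],[1,0,0,0,0,0,0],[1,0,0,0,0,0,0],[10,0,0,0,0,0,0],[10,0,0,0,0,0,0]],
  [[10,0,0,0,0,0,0],[1,0,0,0,0,0,0],[1,0,0,0,0,0,0],[1,0,0,0,0,0,0],[10,0,0,0,0,0,0],[10,0,0,0,0,0,0],[1,0,0,0,0,0,0]],
  [[5,0,0,0,0,0,0],[7,0,0,0,0,0,0],[5,0,0,0,0,0,0],[5,0,0,0,0,0,0],[7,0,0,0,0,0,0],[7,0,0,0,0,0,0],[7,0,0,0,0,0,0]],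
  [[7,0,0,0,0,0,0],[5,0,0,0,0,0,0],[5,0,0,0,0,0,0],[7,0,0,0,0,0,0],[7,0,0,0,0,0,0],[7,0,0,0,0,0,0],[5,0,0,0,0,0,0]],
  [[4,0,0,0,0,0,0],[6,0,0,0,0,0,0],[4,0,0,0,0,0,0],[5,0,0,0,0,0,0],[5,0,0,0,0,0,0],[4,0,0,0,0,0,0],[7,0,0,0,0,0,0]],
  [[6,0,0,0,0,0,0],[0,0,0,0,0,0,0],[6,0,0,0,0,0,0],[6,0,0,0,0,0,0],[3,0,0,0,0,0,0],[0,0,0,0,0,0,0],[0,0,0,0,0,0,0]],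
  [[1,0,0,0,0,0,0],[1,0,0,0,0,0,0],[10,0,0,0,0,0,0],[10,0,0,0,0,0,0],[1,0,0,0,0,0,0],[10,0,0,0,0,0,0],[1,0,0,0,0,0,0]],
  [[6,0,0,0,0,0,0],[4,0,0,0,0,0,0],[5,0,0,0,0,0,0],[5,0,0,0,0,0,0],[4,0,0,0,0,0,0],[7,0,0,0,0,0,0],[4,0,0,0,0,0,0]],
  [[0,0,0,0,0,0,0],[6,0,0,0,0,0,0],[6,0,0,0,0,0,0],[3,0,0,0,0,0,0],[0,0,0,0,0,0,0],[0,0,0,0,0,0,0],[6,0,0,0,0,0,0]],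
  [[4,0,0,0,0,0,0],[7,0,0,0,0,0,0],[5,0,0,0,0,0,0],[4,0,0,0,0,0,0],[5,0,0,0,0,0,0],[6,0,0,0,0,0,0],[4,0,0,0,0,0,0]],
  [[0,0,0,0,0,0,0],[5,0,0,0,0,0,0],[0,0,0,0,0,0,0],[6,0,0,0,0,0,0],[6,0,0,0,0,0,0],[8,0,0,0,0,0,0],[0,0,0,0,0,0,0]],
  [[6,0,0,0,0,0,0],[0,0,0,0,0,0,0],[4,0,0,0,0,0,0],[0,0,0,0,0,0,0],[9,0,0,0,0,0,0],[10,0,0,0,0,0,0],[7,0,0,0,0,0,0]],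
  [[5,0,0,0,0,0,0],[4,0,0,0,0,0,0],[5,0,0,0,0,0,0],[5,0,0,0,0,0,0],[7,0,0,0,0,0,0],[4,0,0,0,0,0,0],[4,0,0,0,0,0,0]],
  [[1,0,0,0,0,0,0],[10,0,0,0,0,0,0],[10,0,0,0,0,0,0],[1,0,0,0,0,0,0],[10,0,0,0,0,0,0],[1,0,0,0,0,0,0],[1,0,0,0,0,0,0]],
  [[5,0,0,0,0,0,0],[7,0,0,0,0,0,0],[7,0,0,0,0,0,0],[7,0,0,0,0,0,0],[5,0,0,0,0,0,0],[7,0,0,0,0,0,0],[5,0,0,0,0,0,0]],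
  [[7,0,0,0,0,0,0],[5,0,0,0,0,0,0],[4,0,0,0,0,0,0],[5,0,0,0,0,0,0],[6,0,0,0,0,0,0],[4,0,0,0,0,0,0],[4,0,0,0,0,0,0]],
  [[5,0,0,0,0,0,0],[0,0,0,0,0,0,0],[6,0,0,0,0,0,0],[6,0,0,0,0,0,0],[8,0,0,0,0,0,0],[0,0,0,0,0,0,0],[0,0,0,0,0,0,0]],
  [[0,0,0,0,0,0,0],[4,0,0,0,0,0,0],[0,0,0,0,0,0,0],[9,0,0,0,0,0,0],[10,0,0,0,0,0,0],[7,0,0,0,0,0,0],[6,0,0,0,0,0,0]],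
  [[4,0,0,0,0,0,0],[5,0,0,0,0,0,0],[5,0,0,0,0,0,0],[7,0,0,0,0,0,0],[4,0,0,0,0,0,0],[4,0,0,0,0,0,0],[5,0,0,0,0,0,0]],
  [[7,0,0,0,0,0,0],[7,0,0,0,0,0,0],[4,0,0,0,0,0,0],[5,0,0,0,0,0,0],[4,0,0,0,0,0,0],[6,0,0,0,0,0,0],[6,0,0,0,0,0,0]],
  [[0,0,0,0,0,0,0],[0,0,0,0,0,0,0],[6,0,0,0,0,0,0],[0,0,0,0,0,0,0],[6,0,0,0,0,0,0],[5,0,0,0,0,0,0],[8,0,0,0,0,0,0]],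
  [[4,0,0,0,0,0,0],[5,0,0,0,0,0,0],[0,0,0,0,0,0,0],[4,0,0,0,0,0,0],[0,0,0,0,0,0,0],[2,0,0,0,0,0,0],[10,0,0,0,0,0,0]],
  [[7,0,0,0,0,0,0],[6,0,0,0,0,0,0],[7,0,0,0,0,0,0],[5,0,0,0,0,0,0],[5,0,0,0,0,0,0],[4,0,0,0,0,0,0],[4,0,0,0,0,0,0]],
  [[4,0,0,0,0,0,0],[7,0,0,0,0,0,0],[0,0,0,0,0,0,0],[6,0,0,0,0,0,0],[9,0,0,0,0,0,0],[0,0,0,0,0,0,0],[10,0,0,0,0,0,0]],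
  [[0,0,0,0,0,0,0],[9,0,0,0,0,0,0],[2,0,0,0,0,0,0],[9,0,0,0,0,0,0],[3,0,0,0,0,0,0],[6,0,0,0,0,0,0],[7,0,0,0,0,0,0]],
  [[10,0,0,0,0,0,0],[10,0,0,0,0,0,0],[1,0,0,0,0,0,0],[10,0,0,0,0,0,0],[1,0,0,0,0,0,0],[1,0,0,0,0,0,0],[1,0,0,0,0,0,0]],
  [[7,0,0,0,0,0,0],[4,0,0,0,0,0,0],[5,0,0,0,0,0,0],[4,0,0,0,0,0,0],[6,0,0,0,0,0,0],[6,0,0,0,0,0,0],[7,0,0,0,0,0,0]],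
  [[0,0,0,0,0,0,0],[6,0,0,0,0,0,0],[0,0,0,0,0,0,0],[6,0,0,0,0,0,0],[5,0,0,0,0,0,0],[8,0,0,0,0,0,0],[0,0,0,0,0,0,0]],
  [[5,0,0,0,0,0,0],[0,0,0,0,0,0,0],[4,0,0,0,0,0,0],[0,0,0,0,0,0,0],[2,0,0,0,0,0,0],[10,0,0,0,0,0,0],[4,0,0,0,0,0,0]],
  [[6,0,0,0,0,0,0],[7,0,0,0,0,0,0],[5,0,0,0,0,0,0],[5,0,0,0,0,0,0],[4,0,0,0,0,0,0],[4,0,0,0,0,0,0],[7,0,0,0,0,0,0]],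
  [[7,0,0,0,0,0,0],[0,0,0,0,0,0,0],[6,0,0,0,0,0,0],[9,0,0,0,0,0,0],[0,0,0,0,0,0,0],[10,0,0,0,0,0,0],[4,0,0,0,0,0,0]],
  [[9,0,0,0,0,0,0],[2,0,0,0,0,0,0],[9,0,0,0,0,0,0],[3,0,0,0,0,0,0],[6,0,0,0,0,0,0],[7,0,0,0,0,0,0],[0,0,0,0,0,0,0]],
  [[8,0,0,0,0,0,0],[5,0,0,0,0,0,0],[9,0,0,0,0,0,0],[4,0,0,0,0,0,0],[3,0,0,0,0,0,0],[1,0,0,0,0,0,0],[8,0,0,0,0,0,0]],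
  [[5,0,0,0,0,0,0],[4,0,0,0,0,0,0],[4,0,0,0,0,0,0],[4,0,0,0,0,0,0],[5,0,0,0,0,0,0],[7,0,0,0,0,0,0],[6,0,0,0,0,0,0]],
  [[3,0,0,0,0,0,0],[0,0,0,0,0,0,0],[0,0,0,0,0,0,0],[6,0,0,0,0,0,0],[0,0,0,0,0,0,0],[5,0,0,0,0,0,0],[5,0,0,0,0,0,0]],
  [[1,0,0,0,0,0,0],[7,0,0,0,0,0,0],[6,0,0,0,0,0,0],[0,0,0,0,0,0,0],[4,0,0,0,0,0,0],[0,0,0,0,0,0,0],[2,0,0,0,0,0,0]],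
  [[7,0,0,0,0,0,0],[4,0,0,0,0,0,0],[5,0,0,0,0,0,0],[7,0,0,0,0,0,0],[5,0,0,0,0,0,0],[6,0,0,0,0,0,0],[4,0,0,0,0,0,0]],
  [[1,0,0,0,0,0,0],[7,0,0,0,0,0,0],[4,0,0,0,0,0,0],[0,0,0,0,0,0,0],[6,0,0,0,0,0,0],[2,0,0,0,0,0,0],[0,0,0,0,0,0,0]],
  [[4,0,0,0,0,0,0],[0,0,0,0,0,0,0],[2,0,0,0,0,0,0],[2,0,0,0,0,0,0],[9,0,0,0,0,0,0],[8,0,0,0,0,0,0],[6,0,0,0,0,0,0]],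
  [[10,0,0,0,0,0,0],[10,0,0,0,0,0,0],[10,0,0,0,0,0,0],[1,0,0,0,0,0,0],[1,0,0,0,0,0,0],[10,0,0,0,0,0,0],[1,0,0,0,0,0,0]],
  [[3,0,0,0,0,0,0],[8,0,0,0,0,0,0],[6,0,0,0,0,0,0],[2,0,0,0,0,0,0],[7,0,0,0,0,0,0],[3,0,0,0,0,0,0],[1,0,0,0,0,0,0]],
  [[6,0,0,0,0,0,0],[1,0,0,0,0,0,0],[1,0,0,0,0,0,0],[7,0,0,0,0,0,0],[3,0,0,0,0,0,0],[10,0,0,0,0,0,0],[3,0,0,0,0,0,0]],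
  [[3,0,0,0,0,0,0],[10,0,0,0,0,0,0],[8,0,0,0,0,0,0],[8,0,0,0,0,0,0],[5,0,0,0,0,0,0],[2,0,0,0,0,0,0],[7,0,0,0,0,0,0]],
  [[4,0,0,0,0,0,0],[7,0,0,0,0,0,0],[7,0,0,0,0,0,0],[6,0,0,0,0,0,0],[7,0,0,0,0,0,0],[6,0,0,0,0,0,0],[6,0,0,0,0,0,0]],
  [[10,0,0,0,0,0,0],[1,0,0,0,0,0,0],[10,0,0,0,0,0,0],[1,0,0,0,0,0,0],[1,0,0,0,0,0,0],[1,0,0,0,0,0,0],[10,0,0,0,0,0,0]],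
  [[5,0,0,0,0,0,0],[4,0,0,0,0,0,0],[7,0,0,0,0,0,0],[4,0,0,0,0,0,0],[6,0,0,0,0,0,0],[4,0,0,0,0,0,0],[5,0,0,0,0,0,0]],
  [[4,0,0,0,0,0,0],[5,0,0,0,0,0,0],[6,0,0,0,0,0,0],[4,0,0,0,0,0,0],[4,0,0,0,0,0,0],[7,0,0,0,0,0,0],[5,0,0,0,0,0,0]],
  [[0,0,0,0,0,0,0],[9,0,0,0,0,0,0],[10,0,0,0,0,0,0],[7,0,0,0,0,0,0],[6,0,0,0,0,0,0],[0,0,0,0,0,0,0],[4,0,0,0,0,0,0]],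
  [[4,0,0,0,0,0,0],[4,0,0,0,0,0,0],[4,0,0,0,0,0,0],[5,0,0,0,0,0,0],[7,0,0,0,0,0,0],[6,0,0,0,0,0,0],[5,0,0,0,0,0,0]]]

def vecs7_1 : List (List (List ℕ)) := [
  [[7,0,0,0,0,0,0],[6,0,0,0,0,0,0],[0,0,0,0,0,0,0],[4,0,0,0,0,0,0],[0,0,0,0,0,0,0],[2,0,0,0,0,0,0],[1,0,0,0,0,0,0]],
  [[7,0,0,0,0,0,0],[4,0,0,0,0,0,0],[0,0,0,0,0,0,0],[6,0,0,0,0,0,0],[2,0,0,0,0,0,0],[0,0,0,0,0,0,0],[1,0,0,0,0,0,0]],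
  [[0,0,0,0,0,0,0],[2,0,0,0,0,0,0],[2,0,0,0,0,0,0],[9,0,0,0,0,0,0],[8,0,0,0,0,0,0],[6,0,0,0,0,0,0],[4,0,0,0,0,0,0]],
  [[3,0,0,0,0,0,0],[3,0,0,0,0,0,0],[5,0,0,0,0,0,0],[9,0,0,0,0,0,0],[7,0,0,0,0,0,0],[3,0,0,0,0,0,0],[10,0,0,0,0,0,0]],
  [[8,0,0,0,0,0,0],[6,0,0,0,0,0,0],[2,0,0,0,0,0,0],[7,0,0,0,0,0,0],[3,0,0,0,0,0,0],[1,0,0,0,0,0,0],[3,0,0,0,0,0,0]],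
  [[1,0,0,0,0,0,0],[1,0,0,0,0,0,0],[7,0,0,0,0,0,0],[3,0,0,0,0,0,0],[10,0,0,0,0,0,0],[3,0,0,0,0,0,0],[6,0,0,0,0,0,0]],
  [[10,0,0,0,0,0,0],[8,0,0,0,0,0,0],[8,0,0,0,0,0,0],[5,0,0,0,0,0,0],[2,0,0,0,0,0,0],[7,0,0,0,0,0,0],[3,0,0,0,0,0,0]],
  [[3,0,0,0,0,0,0],[7,0,0,0,0,0,0],[6,0,0,0,0,0,0],[6,0,0,0,0,0,0],[1,0,0,0,0,0,0],[5,0,0,0,0,0,0],[4,0,0,0,0,0,0]],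
  [[6,0,0,0,0,0,0],[8,0,0,0,0,0,0],[0,0,0,0,0,0,0],[0,0,0,0,0,0,0],[6,0,0,0,0,0,0],[0,0,0,0,0,0,0],[5,0,0,0,0,0,0]],
  [[9,0,0,0,0,0,0],[10,0,0,0,0,0,0],[4,0,0,0,0,0,0],[6,0,0,0,0,0,0],[0,0,0,0,0,0,0],[7,0,0,0,0,0,0],[0,0,0,0,0,0,0]],
  [[7,0,0,0,0,0,0],[4,0,0,0,0,0,0],[7,0,0,0,0,0,0],[5,0,0,0,0,0,0],[7,0,0,0,0,0,0],[6,0,0,0,0,0,0],[6,0,0,0,0,0,0]],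
  [[5,0,0,0,0,0,0],[7,0,0,0,0,0,0],[0,0,0,0,0,0,0],[2,0,0,0,0,0,0],[2,0,0,0,0,0,0],[2,0,0,0,0,0,0],[8,0,0,0,0,0,0]],
  [[10,0,0,0,0,0,0],[8,0,0,0,0,0,0],[3,0,0,0,0,0,0],[6,0,0,0,0,0,0],[2,0,0,0,0,0,0],[4,0,0,0,0,0,0],[3,0,0,0,0,0,0]],
  [[5,0,0,0,0,0,0],[9,0,0,0,0,0,0],[4,0,0,0,0,0,0],[9,0,0,0,0,0,0],[0,0,0,0,0,0,0],[8,0,0,0,0,0,0],[9,0,0,0,0,0,0]],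
  [[0,0,0,0,0,0,0],[10,0,0,0,0,0,0],[6,0,0,0,0,0,0],[4,0,0,0,0,0,0],[9,0,0,0,0,0,0],[7,0,0,0,0,0,0],[0,0,0,0,0,0,0]],
  [[9,0,0,0,0,0,0],[9,0,0,0,0,0,0],[8,0,0,0,0,0,0],[6,0,0,0,0,0,0],[7,0,0,0,0,0,0],[0,0,0,0,0,0,0],[2,0,0,0,0,0,0]],
  [[9,0,0,0,0,0,0],[10,0,0,0,0,0,0],[0,0,0,0,0,0,0],[4,0,0,0,0,0,0],[10,0,0,0,0,0,0],[9,0,0,0,0,0,0],[6,0,0,0,0,0,0]],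
  [[2,0,0,0,0,0,0],[7,0,0,0,0,0,0],[8,0,0,0,0,0,0],[2,0,0,0,0,0,0],[6,0,0,0,0,0,0],[10,0,0,0,0,0,0],[5,0,0,0,0,0,0]],
  [[5,0,0,0,0,0,0],[0,0,0,0,0,0,0],[7,0,0,0,0,0,0],[0,0,0,0,0,0,0],[2,0,0,0,0,0,0],[10,0,0,0,0,0,0],[7,0,0,0,0,0,0]],
  [[2,0,0,0,0,0,0],[0,0,0,0,0,0,0],[10,0,0,0,0,0,0],[7,0,0,0,0,0,0],[7,0,0,0,0,0,0],[0,0,0,0,0,0,0],[5,0,0,0,0,0,0]],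
  [[6,0,0,0,0,0,0],[8,0,0,0,0,0,0],[0,0,0,0,0,0,0],[0,0,0,0,0,0,0],[5,0,0,0,0,0,0],[0,0,0,0,0,0,0],[6,0,0,0,0,0,0]],
  [[9,0,0,0,0,0,0],[3,0,0,0,0,0,0],[6,0,0,0,0,0,0],[7,0,0,0,0,0,0],[0,0,0,0,0,0,0],[9,0,0,0,0,0,0],[2,0,0,0,0,0,0]],
  [[8,0,0,0,0,0,0],[0,0,0,0,0,0,0],[0,0,0,0,0,0,0],[6,0,0,0,0,0,0],[0,0,0,0,0,0,0],[5,0,0,0,0,0,0],[6,0,0,0,0,0,0]],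
  [[1,0,0,0,0,0,0],[8,0,0,0,0,0,0],[3,0,0,0,0,0,0],[5,0,0,0,0,0,0],[2,0,0,0,0,0,0],[7,0,0,0,0,0,0],[8,0,0,0,0,0,0]],
  [[8,0,0,0,0,0,0],[3,0,0,0,0,0,0],[6,0,0,0,0,0,0],[2,0,0,0,0,0,0],[4,0,0,0,0,0,0],[3,0,0,0,0,0,0],[10,0,0,0,0,0,0]],
  [[9,0,0,0,0,0,0],[4,0,0,0,0,0,0],[9,0,0,0,0,0,0],[0,0,0,0,0,0,0],[8,0,0,0,0,0,0],[9,0,0,0,0,0,0],[5,0,0,0,0,0,0]],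
  [[7,0,0,0,0,0,0],[8,0,0,0,0,0,0],[7,0,0,0,0,0,0],[6,0,0,0,0,0,0],[5,0,0,0,0,0,0],[1,0,0,0,0,0,0],[6,0,0,0,0,0,0]],
  [[7,0,0,0,0,0,0],[4,0,0,0,0,0,0],[7,0,0,0,0,0,0],[6,0,0,0,0,0,0],[4,0,0,0,0,0,0],[6,0,0,0,0,0,0],[5,0,0,0,0,0,0]],
  [[10,0,0,0,0,0,0],[6,0,0,0,0,0,0],[4,0,0,0,0,0,0],[9,0,0,0,0,0,0],[7,0,0,0,0,0,0],[0,0,0,0,0,0,0],[0,0,0,0,0,0,0]],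
  [[10,0,0,0,0,0,0],[10,0,0,0,0,0,0],[2,0,0,0,0,0,0],[0,0,0,0,0,0,0],[6,0,0,0,0,0,0],[7,0,0,0,0,0,0],[9,0,0,0,0,0,0]],
  [[10,0,0,0,0,0,0],[0,0,0,0,0,0,0],[4,0,0,0,0,0,0],[10,0,0,0,0,0,0],[9,0,0,0,0,0,0],[6,0,0,0,0,0,0],[9,0,0,0,0,0,0]],
  [[7,0,0,0,0,0,0],[8,0,0,0,0,0,0],[2,0,0,0,0,0,0],[6,0,0,0,0,0,0],[10,0,0,0,0,0,0],[5,0,0,0,0,0,0],[2,0,0,0,0,0,0]],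
  [[0,0,0,0,0,0,0],[7,0,0,0,0,0,0],[0,0,0,0,0,0,0],[2,0,0,0,0,0,0],[10,0,0,0,0,0,0],[7,0,0,0,0,0,0],[5,0,0,0,0,0,0]],
  [[2,0,0,0,0,0,0],[3,0,0,0,0,0,0],[5,0,0,0,0,0,0],[0,0,0,0,0,0,0],[3,0,0,0,0,0,0],[5,0,0,0,0,0,0],[1,0,0,0,0,0,0]],
  [[4,0,0,0,0,0,0],[6,0,0,0,0,0,0],[5,0,0,0,0,0,0],[7,0,0,0,0,0,0],[4,0,0,0,0,0,0],[7,0,0,0,0,0,0],[6,0,0,0,0,0,0]],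
  [[3,0,0,0,0,0,0],[6,0,0,0,0,0,0],[4,0,0,0,0,0,0],[0,0,0,0,0,0,0],[2,0,0,0,0,0,0],[9,0,0,0,0,0,0],[2,0,0,0,0,0,0]],
  [[9,0,0,0,0,0,0],[7,0,0,0,0,0,0],[3,0,0,0,0,0,0],[1,0,0,0,0,0,0],[8,0,0,0,0,0,0],[3,0,0,0,0,0,0],[6,0,0,0,0,0,0]],
  [[3,0,0,0,0,0,0],[3,0,0,0,0,0,0],[5,0,0,0,0,0,0],[10,0,0,0,0,0,0],[9,0,0,0,0,0,0],[3,0,0,0,0,0,0],[7,0,0,0,0,0,0]],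
  [[0,0,0,0,0,0,0],[0,0,0,0,0,0,0],[1,0,0,0,0,0,0],[6,0,0,0,0,0,0],[4,0,0,0,0,0,0],[2,0,0,0,0,0,0],[7,0,0,0,0,0,0]],
  [[9,0,0,0,0,0,0],[2,0,0,0,0,0,0],[2,0,0,0,0,0,0],[8,0,0,0,0,0,0],[6,0,0,0,0,0,0],[4,0,0,0,0,0,0],[0,0,0,0,0,0,0]],
  [[6,0,0,0,0,0,0],[9,0,0,0,0,0,0],[4,0,0,0,0,0,0],[8,0,0,0,0,0,0],[2,0,0,0,0,0,0],[5,0,0,0,0,0,0],[10,0,0,0,0,0,0]],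
  [[9,0,0,0,0,0,0],[6,0,0,0,0,0,0],[0,0,0,0,0,0,0],[2,0,0,0,0,0,0],[3,0,0,0,0,0,0],[7,0,0,0,0,0,0],[9,0,0,0,0,0,0]],
  [[1,0,0,0,0,0,0],[3,0,0,0,0,0,0],[7,0,0,0,0,0,0],[6,0,0,0,0,0,0],[3,0,0,0,0,0,0],[1,0,0,0,0,0,0],[10,0,0,0,0,0,0]],
  [[2,0,0,0,0,0,0],[10,0,0,0,0,0,0],[10,0,0,0,0,0,0],[10,0,0,0,0,0,0],[9,0,0,0,0,0,0],[2,0,0,0,0,0,0],[5,0,0,0,0,0,0]],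
  [[4,0,0,0,0,0,0],[8,0,0,0,0,0,0],[8,0,0,0,0,0,0],[4,0,0,0,0,0,0],[0,0,0,0,0,0,0],[8,0,0,0,0,0,0],[6,0,0,0,0,0,0]],
  [[10,0,0,0,0,0,0],[4,0,0,0,0,0,0],[2,0,0,0,0,0,0],[1,0,0,0,0,0,0],[2,0,0,0,0,0,0],[7,0,0,0,0,0,0],[8,0,0,0,0,0,0]],
  [[3,0,0,0,0,0,0],[3,0,0,0,0,0,0],[6,0,0,0,0,0,0],[10,0,0,0,0,0,0],[2,0,0,0,0,0,0],[8,0,0,0,0,0,0],[4,0,0,0,0,0,0]],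
  [[5,0,0,0,0,0,0],[8,0,0,0,0,0,0],[1,0,0,0,0,0,0],[3,0,0,0,0,0,0],[0,0,0,0,0,0,0],[6,0,0,0,0,0,0],[9,0,0,0,0,0,0]],
  [[8,0,0,0,0,0,0],[9,0,0,0,0,0,0],[6,0,0,0,0,0,0],[9,0,0,0,0,0,0],[7,0,0,0,0,0,0],[2,0,0,0,0,0,0],[0,0,0,0,0,0,0]],
  [[6,0,0,0,0,0,0],[4,0,0,0,0,0,0],[4,0,0,0,0,0,0],[7,0,0,0,0,0,0],[5,0,0,0,0,0,0],[4,0,0,0,0,0,0],[5,0,0,0,0,0,0]]]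

def vecs7_2 : List (List (List ℕ)) := [
  [[7,0,0,0,0,0,0],[3,0,0,0,0,0,0],[10,0,0,0,0,0,0],[3,0,0,0,0,0,0],[6,0,0,0,0,0,0],[1,0,0,0,0,0,0],[1,0,0,0,0,0,0]],
  [[3,0,0,0,0,0,0],[6,0,0,0,0,0,0],[10,0,0,0,0,0,0],[1,0,0,0,0,0,0],[4,0,0,0,0,0,0],[8,0,0,0,0,0,0],[1,0,0,0,0,0,0]],
  [[3,0,0,0,0,0,0],[4,0,0,0,0,0,0],[8,0,0,0,0,0,0],[3,0,0,0,0,0,0],[6,0,0,0,0,0,0],[10,0,0,0,0,0,0],[9,0,0,0,0,0,0]],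
  [[9,0,0,0,0,0,0],[4,0,0,0,0,0,0],[8,0,0,0,0,0,0],[2,0,0,0,0,0,0],[5,0,0,0,0,0,0],[10,0,0,0,0,0,0],[6,0,0,0,0,0,0]],
  [[6,0,0,0,0,0,0],[0,0,0,0,0,0,0],[7,0,0,0,0,0,0],[0,0,0,0,0,0,0],[9,0,0,0,0,0,0],[10,0,0,0,0,0,0],[4,0,0,0,0,0,0]],
  [[10,0,0,0,0,0,0],[9,0,0,0,0,0,0],[3,0,0,0,0,0,0],[5,0,0,0,0,0,0],[0,0,0,0,0,0,0],[3,0,0,0,0,0,0],[6,0,0,0,0,0,0]],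
  [[3,0,0,0,0,0,0],[3,0,0,0,0,0,0],[6,0,0,0,0,0,0],[7,0,0,0,0,0,0],[1,0,0,0,0,0,0],[8,0,0,0,0,0,0],[2,0,0,0,0,0,0]],
  [[6,0,0,0,0,0,0],[0,0,0,0,0,0,0],[2,0,0,0,0,0,0],[3,0,0,0,0,0,0],[7,0,0,0,0,0,0],[9,0,0,0,0,0,0],[9,0,0,0,0,0,0]],
  [[2,0,0,0,0,0,0],[1,0,0,0,0,0,0],[2,0,0,0,0,0,0],[10,0,0,0,0,0,0],[6,0,0,0,0,0,0],[10,0,0,0,0,0,0],[9,0,0,0,0,0,0]],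
  [[4,0,0,0,0,0,0],[3,0,0,0,0,0,0],[10,0,0,0,0,0,0],[8,0,0,0,0,0,0],[6,0,0,0,0,0,0],[10,0,0,0,0,0,0],[10,0,0,0,0,0,0]],
  [[8,0,0,0,0,0,0],[8,0,0,0,0,0,0],[4,0,0,0,0,0,0],[0,0,0,0,0,0,0],[8,0,0,0,0,0,0],[6,0,0,0,0,0,0],[4,0,0,0,0,0,0]],
  [[3,0,0,0,0,0,0],[6,0,0,0,0,0,0],[10,0,0,0,0,0,0],[2,0,0,0,0,0,0],[8,0,0,0,0,0,0],[4,0,0,0,0,0,0],[3,0,0,0,0,0,0]],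
  [[5,0,0,0,0,0,0],[2,0,0,0,0,0,0],[4,0,0,0,0,0,0],[3,0,0,0,0,0,0],[1,0,0,0,0,0,0],[3,0,0,0,0,0,0],[3,0,0,0,0,0,0]],
  [[7,0,0,0,0,0,0],[6,0,0,0,0,0,0],[5,0,0,0,0,0,0],[4,0,0,0,0,0,0],[4,0,0,0,0,0,0],[4,0,0,0,0,0,0],[5,0,0,0,0,0,0]],
  [[9,0,0,0,0,0,0],[9,0,0,0,0,0,0],[8,0,0,0,0,0,0],[6,0,0,0,0,0,0],[7,0,0,0,0,0,0],[9,0,0,0,0,0,0],[0,0,0,0,0,0,0]],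
  [[3,0,0,0,0,0,0],[1,0,0,0,0,0,0],[7,0,0,0,0,0,0],[2,0,0,0,0,0,0],[1,0,0,0,0,0,0],[9,0,0,0,0,0,0],[7,0,0,0,0,0,0]],
  [[6,0,0,0,0,0,0],[4,0,0,0,0,0,0],[6,0,0,0,0,0,0],[5,0,0,0,0,0,0],[7,0,0,0,0,0,0],[4,0,0,0,0,0,0],[7,0,0,0,0,0,0]],
  [[8,0,0,0,0,0,0],[2,0,0,0,0,0,0],[3,0,0,0,0,0,0],[8,0,0,0,0,0,0],[5,0,0,0,0,0,0],[7,0,0,0,0,0,0],[10,0,0,0,0,0,0]],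
  [[6,0,0,0,0,0,0],[10,0,0,0,0,0,0],[4,0,0,0,0,0,0],[7,0,0,0,0,0,0],[6,0,0,0,0,0,0],[6,0,0,0,0,0,0],[8,0,0,0,0,0,0]],
  [[5,0,0,0,0,0,0],[8,0,0,0,0,0,0],[0,0,0,0,0,0,0],[0,0,0,0,0,0,0],[6,0,0,0,0,0,0],[0,0,0,0,0,0,0],[6,0,0,0,0,0,0]],
  [[8,0,0,0,0,0,0],[2,0,0,0,0,0,0],[6,0,0,0,0,0,0],[2,0,0,0,0,0,0],[4,0,0,0,0,0,0],[9,0,0,0,0,0,0],[0,0,0,0,0,0,0]],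
  [[8,0,0,0,0,0,0],[8,0,0,0,0,0,0],[6,0,0,0,0,0,0],[5,0,0,0,0,0,0],[0,0,0,0,0,0,0],[0,0,0,0,0,0,0],[4,0,0,0,0,0,0]],
  [[7,0,0,0,0,0,0],[7,0,0,0,0,0,0],[0,0,0,0,0,0,0],[1,0,0,0,0,0,0],[1,0,0,0,0,0,0],[7,0,0,0,0,0,0],[1,0,0,0,0,0,0]],
  [[5,0,0,0,0,0,0],[10,0,0,0,0,0,0],[2,0,0,0,0,0,0],[9,0,0,0,0,0,0],[10,0,0,0,0,0,0],[2,0,0,0,0,0,0],[10,0,0,0,0,0,0]],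
  [[6,0,0,0,0,0,0],[10,0,0,0,0,0,0],[6,0,0,0,0,0,0],[2,0,0,0,0,0,0],[4,0,0,0,0,0,0],[3,0,0,0,0,0,0],[9,0,0,0,0,0,0]],
  [[8,0,0,0,0,0,0],[5,0,0,0,0,0,0],[8,0,0,0,0,0,0],[7,0,0,0,0,0,0],[4,0,0,0,0,0,0],[4,0,0,0,0,0,0],[2,0,0,0,0,0,0]],
  [[1,0,0,0,0,0,0],[9,0,0,0,0,0,0],[8,0,0,0,0,0,0],[4,0,0,0,0,0,0],[8,0,0,0,0,0,0],[3,0,0,0,0,0,0],[5,0,0,0,0,0,0]],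
  [[5,0,0,0,0,0,0],[5,0,0,0,0,0,0],[1,0,0,0,0,0,0],[0,0,0,0,0,0,0],[2,0,0,0,0,0,0],[3,0,0,0,0,0,0],[3,0,0,0,0,0,0]],
  [[2,0,0,0,0,0,0],[2,0,0,0,0,0,0],[10,0,0,0,0,0,0],[9,0,0,0,0,0,0],[5,0,0,0,0,0,0],[10,0,0,0,0,0,0],[10,0,0,0,0,0,0]],
  [[10,0,0,0,0,0,0],[3,0,0,0,0,0,0],[7,0,0,0,0,0,0],[1,0,0,0,0,0,0],[4,0,0,0,0,0,0],[6,0,0,0,0,0,0],[7,0,0,0,0,0,0]],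
  [[0,0,0,0,0,0,0],[9,0,0,0,0,0,0],[3,0,0,0,0,0,0],[8,0,0,0,0,0,0],[6,0,0,0,0,0,0],[6,0,0,0,0,0,0],[1,0,0,0,0,0,0]],
  [[6,0,0,0,0,0,0],[0,0,0,0,0,0,0],[0,0,0,0,0,0,0],[4,0,0,0,0,0,0],[8,0,0,0,0,0,0],[8,0,0,0,0,0,0],[5,0,0,0,0,0,0]],
  [[7,0,0,0,0,0,0],[8,0,0,0,0,0,0],[4,0,0,0,0,0,0],[5,0,0,0,0,0,0],[5,0,0,0,0,0,0],[10,0,0,0,0,0,0],[6,0,0,0,0,0,0]],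
  [[5,0,0,0,0,0,0],[10,0,0,0,0,0,0],[2,0,0,0,0,0,0],[10,0,0,0,0,0,0],[1,0,0,0,0,0,0],[2,0,0,0,0,0,0],[2,0,0,0,0,0,0]],
  [[9,0,0,0,0,0,0],[3,0,0,0,0,0,0],[9,0,0,0,0,0,0],[2,0,0,0,0,0,0],[3,0,0,0,0,0,0],[8,0,0,0,0,0,0],[1,0,0,0,0,0,0]],
  [[5,0,0,0,0,0,0],[10,0,0,0,0,0,0],[1,0,0,0,0,0,0],[7,0,0,0,0,0,0],[8,0,0,0,0,0,0],[10,0,0,0,0,0,0],[8,0,0,0,0,0,0]],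
  [[1,0,0,0,0,0,0],[10,0,0,0,0,0,0],[2,0,0,0,0,0,0],[2,0,0,0,0,0,0],[5,0,0,0,0,0,0],[2,0,0,0,0,0,0],[1,0,0,0,0,0,0]],
  [[9,0,0,0,0,0,0],[9,0,0,0,0,0,0],[8,0,0,0,0,0,0],[0,0,0,0,0,0,0],[6,0,0,0,0,0,0],[9,0,0,0,0,0,0],[7,0,0,0,0,0,0]],
  [[8,0,0,0,0,0,0],[4,0,0,0,0,0,0],[8,0,0,0,0,0,0],[8,0,0,0,0,0,0],[6,0,0,0,0,0,0],[1,0,0,0,0,0,0],[2,0,0,0,0,0,0]],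
  [[6,0,0,0,0,0,0],[6,0,0,0,0,0,0],[4,0,0,0,0,0,0],[9,0,0,0,0,0,0],[10,0,0,0,0,0,0],[2,0,0,0,0,0,0],[3,0,0,0,0,0,0]],
  [[1,0,0,0,0,0,0],[9,0,0,0,0,0,0],[4,0,0,0,0,0,0],[4,0,0,0,0,0,0],[2,0,0,0,0,0,0],[8,0,0,0,0,0,0],[1,0,0,0,0,0,0]],
  [[5,0,0,0,0,0,0],[8,0,0,0,0,0,0],[7,0,0,0,0,0,0],[4,0,0,0,0,0,0],[5,0,0,0,0,0,0],[10,0,0,0,0,0,0],[5,0,0,0,0,0,0]],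
  [[7,0,0,0,0,0,0],[6,0,0,0,0,0,0],[10,0,0,0,0,0,0],[6,0,0,0,0,0,0],[5,0,0,0,0,0,0],[8,0,0,0,0,0,0],[7,0,0,0,0,0,0]],
  [[5,0,0,0,0,0,0],[7,0,0,0,0,0,0],[3,0,0,0,0,0,0],[8,0,0,0,0,0,0],[4,0,0,0,0,0,0],[0,0,0,0,0,0,0],[8,0,0,0,0,0,0]],
  [[2,0,0,0,0,0,0],[9,0,0,0,0,0,0],[3,0,0,0,0,0,0],[10,0,0,0,0,0,0],[3,0,0,0,0,0,0],[9,0,0,0,0,0,0],[3,0,0,0,0,0,0]],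
  [[7,0,0,0,0,0,0],[8,0,0,0,0,0,0],[8,0,0,0,0,0,0],[4,0,0,0,0,0,0],[0,0,0,0,0,0,0],[3,0,0,0,0,0,0],[6,0,0,0,0,0,0]],
  [[4,0,0,0,0,0,0],[8,0,0,0,0,0,0],[7,0,0,0,0,0,0],[2,0,0,0,0,0,0],[5,0,0,0,0,0,0],[7,0,0,0,0,0,0],[8,0,0,0,0,0,0]],
  [[9,0,0,0,0,0,0],[8,0,0,0,0,0,0],[0,0,0,0,0,0,0],[5,0,0,0,0,0,0],[9,0,0,0,0,0,0],[4,0,0,0,0,0,0],[9,0,0,0,0,0,0]],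
  [[8,0,0,0,0,0,0],[8,0,0,0,0,0,0],[7,0,0,0,0,0,0],[0,0,0,0,0,0,0],[3,0,0,0,0,0,0],[5,0,0,0,0,0,0],[7,0,0,0,0,0,0]],
  [[4,0,0,0,0,0,0],[5,0,0,0,0,0,0],[8,0,0,0,0,0,0],[10,0,0,0,0,0,0],[1,0,0,0,0,0,0],[10,0,0,0,0,0,0],[8,0,0,0,0,0,0]]]

def vecs7_3 : List (List (List ℕ)) := [
  [[10,0,0,0,0,0,0],[5,0,0,0,0,0,0],[7,0,0,0,0,0,0],[2,0,0,0,0,0,0],[7,0,0,0,0,0,0],[0,0,0,0,0,0,0],[0,0,0,0,0,0,0]],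
  [[1,0,0,0,0,0,0],[3,0,0,0,0,0,0],[2,0,0,0,0,0,0],[3,0,0,0,0,0,0],[9,0,0,0,0,0,0],[10,0,0,0,0,0,0],[1,0,0,0,0,0,0]],
  [[2,0,0,0,0,0,0],[1,0,0,0,0,0,0],[0,0,0,0,0,0,0],[4,0,0,0,0,0,0],[1,0,0,0,0,0,0],[9,0,0,0,0,0,0],[5,0,0,0,0,0,0]],
  [[0,0,0,0,0,0,0],[6,0,0,0,0,0,0],[3,0,0,0,0,0,0],[7,0,0,0,0,0,0],[3,0,0,0,0,0,0],[4,0,0,0,0,0,0],[8,0,0,0,0,0,0]],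
  [[5,0,0,0,0,0,0],[4,0,0,0,0,0,0],[2,0,0,0,0,0,0],[10,0,0,0,0,0,0],[2,0,0,0,0,0,0],[3,0,0,0,0,0,0],[5,0,0,0,0,0,0]],
  [[2,0,0,0,0,0,0],[5,0,0,0,0,0,0],[4,0,0,0,0,0,0],[5,0,0,0,0,0,0],[2,0,0,0,0,0,0],[3,0,0,0,0,0,0],[1,0,0,0,0,0,0]],
  [[1,0,0,0,0,0,0],[1,0,0,0,0,0,0],[9,0,0,0,0,0,0],[7,0,0,0,0,0,0],[7,0,0,0,0,0,0],[2,0,0,0,0,0,0],[3,0,0,0,0,0,0]],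
  [[0,0,0,0,0,0,0],[4,0,0,0,0,0,0],[4,0,0,0,0,0,0],[4,0,0,0,0,0,0],[0,0,0,0,0,0,0],[0,0,0,0,0,0,0],[6,0,0,0,0,0,0]],
  [[9,0,0,0,0,0,0],[8,0,0,0,0,0,0],[5,0,0,0,0,0,0],[8,0,0,0,0,0,0],[4,0,0,0,0,0,0],[7,0,0,0,0,0,0],[4,0,0,0,0,0,0]],
  [[2,0,0,0,0,0,0],[8,0,0,0,0,0,0],[8,0,0,0,0,0,0],[10,0,0,0,0,0,0],[2,0,0,0,0,0,0],[8,0,0,0,0,0,0],[9,0,0,0,0,0,0]],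
  [[6,0,0,0,0,0,0],[5,0,0,0,0,0,0],[3,0,0,0,0,0,0],[9,0,0,0,0,0,0],[4,0,0,0,0,0,0],[9,0,0,0,0,0,0],[10,0,0,0,0,0,0]],
  [[7,0,0,0,0,0,0],[5,0,0,0,0,0,0],[8,0,0,0,0,0,0],[1,0,0,0,0,0,0],[7,0,0,0,0,0,0],[6,0,0,0,0,0,0],[6,0,0,0,0,0,0]],
  [[10,0,0,0,0,0,0],[9,0,0,0,0,0,0],[2,0,0,0,0,0,0],[3,0,0,0,0,0,0],[3,0,0,0,0,0,0],[3,0,0,0,0,0,0],[9,0,0,0,0,0,0]],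
  [[10,0,0,0,0,0,0],[6,0,0,0,0,0,0],[9,0,0,0,0,0,0],[2,0,0,0,0,0,0],[5,0,0,0,0,0,0],[8,0,0,0,0,0,0],[4,0,0,0,0,0,0]],
  [[0,0,0,0,0,0,0],[8,0,0,0,0,0,0],[9,0,0,0,0,0,0],[6,0,0,0,0,0,0],[2,0,0,0,0,0,0],[4,0,0,0,0,0,0],[2,0,0,0,0,0,0]],
  [[7,0,0,0,0,0,0],[0,0,0,0,0,0,0],[1,0,0,0,0,0,0],[1,0,0,0,0,0,0],[7,0,0,0,0,0,0],[1,0,0,0,0,0,0],[7,0,0,0,0,0,0]],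
  [[4,0,0,0,0,0,0],[6,0,0,0,0,0,0],[10,0,0,0,0,0,0],[5,0,0,0,0,0,0],[5,0,0,0,0,0,0],[3,0,0,0,0,0,0],[4,0,0,0,0,0,0]],
  [[5,0,0,0,0,0,0],[9,0,0,0,0,0,0],[4,0,0,0,0,0,0],[2,0,0,0,0,0,0],[3,0,0,0,0,0,0],[0,0,0,0,0,0,0],[9,0,0,0,0,0,0]],
  [[8,0,0,0,0,0,0],[10,0,0,0,0,0,0],[3,0,0,0,0,0,0],[6,0,0,0,0,0,0],[10,0,0,0,0,0,0],[10,0,0,0,0,0,0],[7,0,0,0,0,0,0]],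
  [[2,0,0,0,0,0,0],[8,0,0,0,0,0,0],[7,0,0,0,0,0,0],[0,0,0,0,0,0,0],[2,0,0,0,0,0,0],[5,0,0,0,0,0,0],[9,0,0,0,0,0,0]],
  [[9,0,0,0,0,0,0],[5,0,0,0,0,0,0],[4,0,0,0,0,0,0],[1,0,0,0,0,0,0],[3,0,0,0,0,0,0],[6,0,0,0,0,0,0],[9,0,0,0,0,0,0]],
  [[5,0,0,0,0,0,0],[7,0,0,0,0,0,0],[4,0,0,0,0,0,0],[0,0,0,0,0,0,0],[0,0,0,0,0,0,0],[4,0,0,0,0,0,0],[0,0,0,0,0,0,0]],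
  [[9,0,0,0,0,0,0],[10,0,0,0,0,0,0],[2,0,0,0,0,0,0],[2,0,0,0,0,0,0],[8,0,0,0,0,0,0],[8,0,0,0,0,0,0],[8,0,0,0,0,0,0]],
  [[4,0,0,0,0,0,0],[0,0,0,0,0,0,0],[2,0,0,0,0,0,0],[10,0,0,0,0,0,0],[4,0,0,0,0,0,0],[6,0,0,0,0,0,0],[0,0,0,0,0,0,0]],
  [[4,0,0,0,0,0,0],[6,0,0,0,0,0,0],[2,0,0,0,0,0,0],[8,0,0,0,0,0,0],[10,0,0,0,0,0,0],[9,0,0,0,0,0,0],[5,0,0,0,0,0,0]],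
  [[5,0,0,0,0,0,0],[9,0,0,0,0,0,0],[4,0,0,0,0,0,0],[2,0,0,0,0,0,0],[2,0,0,0,0,0,0],[8,0,0,0,0,0,0],[0,0,0,0,0,0,0]],
  [[7,0,0,0,0,0,0],[1,0,0,0,0,0,0],[5,0,0,0,0,0,0],[1,0,0,0,0,0,0],[8,0,0,0,0,0,0],[3,0,0,0,0,0,0],[1,0,0,0,0,0,0]],
  [[5,0,0,0,0,0,0],[7,0,0,0,0,0,0],[4,0,0,0,0,0,0],[1,0,0,0,0,0,0],[10,0,0,0,0,0,0],[4,0,0,0,0,0,0],[8,0,0,0,0,0,0]],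
  [[8,0,0,0,0,0,0],[3,0,0,0,0,0,0],[6,0,0,0,0,0,0],[4,0,0,0,0,0,0],[1,0,0,0,0,0,0],[3,0,0,0,0,0,0],[9,0,0,0,0,0,0]],
  [[3,0,0,0,0,0,0],[8,0,0,0,0,0,0],[5,0,0,0,0,0,0],[7,0,0,0,0,0,0],[7,0,0,0,0,0,0],[0,0,0,0,0,0,0],[8,0,0,0,0,0,0]],
  [[4,0,0,0,0,0,0],[8,0,0,0,0,0,0],[4,0,0,0,0,0,0],[2,0,0,0,0,0,0],[6,0,0,0,0,0,0],[4,0,0,0,0,0,0],[3,0,0,0,0,0,0]],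
  [[7,0,0,0,0,0,0],[4,0,0,0,0,0,0],[5,0,0,0,0,0,0],[6,0,0,0,0,0,0],[8,0,0,0,0,0,0],[5,0,0,0,0,0,0],[10,0,0,0,0,0,0]],
  [[9,0,0,0,0,0,0],[3,0,0,0,0,0,0],[5,0,0,0,0,0,0],[6,0,0,0,0,0,0],[4,0,0,0,0,0,0],[9,0,0,0,0,0,0],[1,0,0,0,0,0,0]],
  [[3,0,0,0,0,0,0],[1,0,0,0,0,0,0],[2,0,0,0,0,0,0],[3,0,0,0,0,0,0],[9,0,0,0,0,0,0],[2,0,0,0,0,0,0],[8,0,0,0,0,0,0]],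
  [[9,0,0,0,0,0,0],[6,0,0,0,0,0,0],[1,0,0,0,0,0,0],[2,0,0,0,0,0,0],[10,0,0,0,0,0,0],[10,0,0,0,0,0,0],[2,0,0,0,0,0,0]],
  [[3,0,0,0,0,0,0],[8,0,0,0,0,0,0],[9,0,0,0,0,0,0],[10,0,0,0,0,0,0],[9,0,0,0,0,0,0],[9,0,0,0,0,0,0],[8,0,0,0,0,0,0]],
  [[0,0,0,0,0,0,0],[7,0,0,0,0,0,0],[1,0,0,0,0,0,0],[9,0,0,0,0,0,0],[5,0,0,0,0,0,0],[9,0,0,0,0,0,0],[10,0,0,0,0,0,0]],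
  [[9,0,0,0,0,0,0],[1,0,0,0,0,0,0],[1,0,0,0,0,0,0],[9,0,0,0,0,0,0],[6,0,0,0,0,0,0],[9,0,0,0,0,0,0],[10,0,0,0,0,0,0]],
  [[10,0,0,0,0,0,0],[3,0,0,0,0,0,0],[10,0,0,0,0,0,0],[2,0,0,0,0,0,0],[8,0,0,0,0,0,0],[10,0,0,0,0,0,0],[2,0,0,0,0,0,0]],
  [[9,0,0,0,0,0,0],[4,0,0,0,0,0,0],[2,0,0,0,0,0,0],[0,0,0,0,0,0,0],[3,0,0,0,0,0,0],[2,0,0,0,0,0,0],[6,0,0,0,0,0,0]],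
  [[9,0,0,0,0,0,0],[2,0,0,0,0,0,0],[8,0,0,0,0,0,0],[3,0,0,0,0,0,0],[8,0,0,0,0,0,0],[2,0,0,0,0,0,0],[1,0,0,0,0,0,0]]]

def vecs7 : List (List (List ℕ)) :=
  vecs7_0 ++ vecs7_1 ++ vecs7_2 ++ vecs7_3

def vecs11_0 : List (List (List ℕ)) := [
  [[10,0,0,0,0,0,0],[1,0,0,0,0,0,0],[10,0,0,0,0,0,0],[2,0,0,0,0,0,0],[6,0,0,0,0,0,0],[0,0,0,0,0,0,0],[1,0,0,0,0,0,0]],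
  [[1,0,0,0,0,0,0],[10,0,0,0,0,0,0],[2,0,0,0,0,0,0],[6,0,0,0,0,0,0],[0,0,0,0,0,0,0],[1,0,0,0,0,0,0],[10,0,0,0,0,0,0]],
  [[5,0,0,0,0,0,0],[6,0,0,0,0,0,0],[7,0,0,0,0,0,0],[7,0,0,0,0,0,0],[10,0,0,0,0,0,0],[4,0,0,0,0,0,0],[0,0,0,0,0,0,0]],
  [[10,0,0,0,0,0,0],[2,0,0,0,0,0,0],[6,0,0,0,0,0,0],[0,0,0,0,0,0,0],[1,0,0,0,0,0,0],[10,0,0,0,0,0,0],[1,0,0,0,0,0,0]],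
  [[6,0,0,0,0,0,0],[7,0,0,0,0,0,0],[7,0,0,0,0,0,0],[10,0,0,0,0,0,0],[4,0,0,0,0,0,0],[0,0,0,0,0,0,0],[5,0,0,0,0,0,0]],
  [[0,0,0,0,0,0,0],[6,0,0,0,0,0,0],[5,0,0,0,0,0,0],[7,0,0,0,0,0,0],[7,0,0,0,0,0,0],[1,0,0,0,0,0,0],[4,0,0,0,0,0,0]],
  [[4,0,0,0,0,0,0],[2,0,0,0,0,0,0],[7,0,0,0,0,0,0],[4,0,0,0,0,0,0],[8,0,0,0,0,0,0],[0,0,0,0,0,0,0],[4,0,0,0,0,0,0]],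
  [[2,0,0,0,0,0,0],[6,0,0,0,0,0,0],[0,0,0,0,0,0,0],[1,0,0,0,0,0,0],[10,0,0,0,0,0,0],[1,0,0,0,0,0,0],[10,0,0,0,0,0,0]],
  [[6,0,0,0,0,0,0],[5,0,0,0,0,0,0],[7,0,0,0,0,0,0],[7,0,0,0,0,0,0],[1,0,0,0,0,0,0],[4,0,0,0,0,0,0],[0,0,0,0,0,0,0]],
  [[2,0,0,0,0,0,0],[7,0,0,0,0,0,0],[4,0,0,0,0,0,0],[8,0,0,0,0,0,0],[0,0,0,0,0,0,0],[4,0,0,0,0,0,0],[4,0,0,0,0,0,0]],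
  [[7,0,0,0,0,0,0],[0,0,0,0,0,0,0],[5,0,0,0,0,0,0],[5,0,0,0,0,0,0],[7,0,0,0,0,0,0],[4,0,0,0,0,0,0],[1,0,0,0,0,0,0]],
  [[7,0,0,0,0,0,0],[7,0,0,0,0,0,0],[9,0,0,0,0,0,0],[7,0,0,0,0,0,0],[4,0,0,0,0,0,0],[3,0,0,0,0,0,0],[0,0,0,0,0,0,0]],
  [[10,0,0,0,0,0,0],[10,0,0,0,0,0,0],[0,0,0,0,0,0,0],[10,0,0,0,0,0,0],[0,0,0,0,0,0,0],[6,0,0,0,0,0,0],[7,0,0,0,0,0,0]],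
  [[0,0,0,0,0,0,0],[0,0,0,0,0,0,0],[8,0,0,0,0,0,0],[9,0,0,0,0,0,0],[9,0,0,0,0,0,0],[10,0,0,0,0,0,0],[9,0,0,0,0,0,0]],
  [[6,0,0,0,0,0,0],[0,0,0,0,0,0,0],[1,0,0,0,0,0,0],[10,0,0,0,0,0,0],[1,0,0,0,0,0,0],[10,0,0,0,0,0,0],[2,0,0,0,0,0,0]],
  [[7,0,0,0,0,0,0],[10,0,0,0,0,0,0],[4,0,0,0,0,0,0],[0,0,0,0,0,0,0],[5,0,0,0,0,0,0],[6,0,0,0,0,0,0],[7,0,0,0,0,0,0]],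
  [[0,0,0,0,0,0,0],[5,0,0,0,0,0,0],[5,0,0,0,0,0,0],[7,0,0,0,0,0,0],[4,0,0,0,0,0,0],[1,0,0,0,0,0,0],[7,0,0,0,0,0,0]],
  [[7,0,0,0,0,0,0],[9,0,0,0,0,0,0],[7,0,0,0,0,0,0],[4,0,0,0,0,0,0],[3,0,0,0,0,0,0],[0,0,0,0,0,0,0],[7,0,0,0,0,0,0]],
  [[10,0,0,0,0,0,0],[0,0,0,0,0,0,0],[10,0,0,0,0,0,0],[0,0,0,0,0,0,0],[6,0,0,0,0,0,0],[7,0,0,0,0,0,0],[10,0,0,0,0,0,0]],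
  [[0,0,0,0,0,0,0],[8,0,0,0,0,0,0],[9,0,0,0,0,0,0],[9,0,0,0,0,0,0],[10,0,0,0,0,0,0],[9,0,0,0,0,0,0],[0,0,0,0,0,0,0]],
  [[10,0,0,0,0,0,0],[4,0,0,0,0,0,0],[0,0,0,0,0,0,0],[5,0,0,0,0,0,0],[5,0,0,0,0,0,0],[4,0,0,0,0,0,0],[4,0,0,0,0,0,0]],
  [[0,0,0,0,0,0,0],[4,0,0,0,0,0,0],[4,0,0,0,0,0,0],[9,0,0,0,0,0,0],[7,0,0,0,0,0,0],[7,0,0,0,0,0,0],[3,0,0,0,0,0,0]],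
  [[4,0,0,0,0,0,0],[1,0,0,0,0,0,0],[1,0,0,0,0,0,0],[0,0,0,0,0,0,0],[10,0,0,0,0,0,0],[0,0,0,0,0,0,0],[6,0,0,0,0,0,0]],
  [[2,0,0,0,0,0,0],[0,0,0,0,0,0,0],[0,0,0,0,0,0,0],[8,0,0,0,0,0,0],[9,0,0,0,0,0,0],[2,0,0,0,0,0,0],[10,0,0,0,0,0,0]],
  [[7,0,0,0,0,0,0],[6,0,0,0,0,0,0],[8,0,0,0,0,0,0],[3,0,0,0,0,0,0],[2,0,0,0,0,0,0],[4,0,0,0,0,0,0],[3,0,0,0,0,0,0]],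
  [[6,0,0,0,0,0,0],[3,0,0,0,0,0,0],[8,0,0,0,0,0,0],[2,0,0,0,0,0,0],[6,0,0,0,0,0,0],[4,0,0,0,0,0,0],[0,0,0,0,0,0,0]],
  [[8,0,0,0,0,0,0],[4,0,0,0,0,0,0],[10,0,0,0,0,0,0],[1,0,0,0,0,0,0],[5,0,0,0,0,0,0],[3,0,0,0,0,0,0],[7,0,0,0,0,0,0]],
  [[7,0,0,0,0,0,0],[2,0,0,0,0,0,0],[5,0,0,0,0,0,0],[4,0,0,0,0,0,0],[3,0,0,0,0,0,0],[8,0,0,0,0,0,0],[8,0,0,0,0,0,0]],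
  [[0,0,0,0,0,0,0],[1,0,0,0,0,0,0],[10,0,0,0,0,0,0],[1,0,0,0,0,0,0],[10,0,0,0,0,0,0],[2,0,0,0,0,0,0],[6,0,0,0,0,0,0]],
  [[10,0,0,0,0,0,0],[4,0,0,0,0,0,0],[0,0,0,0,0,0,0],[5,0,0,0,0,0,0],[6,0,0,0,0,0,0],[7,0,0,0,0,0,0],[7,0,0,0,0,0,0]],
  [[7,0,0,0,0,0,0],[7,0,0,0,0,0,0],[1,0,0,0,0,0,0],[4,0,0,0,0,0,0],[0,0,0,0,0,0,0],[6,0,0,0,0,0,0],[5,0,0,0,0,0,0]],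
  [[4,0,0,0,0,0,0],[8,0,0,0,0,0,0],[0,0,0,0,0,0,0],[4,0,0,0,0,0,0],[4,0,0,0,0,0,0],[2,0,0,0,0,0,0],[7,0,0,0,0,0,0]],
  [[4,0,0,0,0,0,0],[0,0,0,0,0,0,0],[5,0,0,0,0,0,0],[5,0,0,0,0,0,0],[4,0,0,0,0,0,0],[4,0,0,0,0,0,0],[10,0,0,0,0,0,0]],
  [[4,0,0,0,0,0,0],[4,0,0,0,0,0,0],[9,0,0,0,0,0,0],[7,0,0,0,0,0,0],[7,0,0,0,0,0,0],[3,0,0,0,0,0,0],[0,0,0,0,0,0,0]],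
  [[1,0,0,0,0,0,0],[1,0,0,0,0,0,0],[0,0,0,0,0,0,0],[10,0,0,0,0,0,0],[0,0,0,0,0,0,0],[6,0,0,0,0,0,0],[4,0,0,0,0,0,0]],
  [[0,0,0,0,0,0,0],[0,0,0,0,0,0,0],[8,0,0,0,0,0,0],[9,0,0,0,0,0,0],[2,0,0,0,0,0,0],[10,0,0,0,0,0,0],[2,0,0,0,0,0,0]],
  [[6,0,0,0,0,0,0],[8,0,0,0,0,0,0],[3,0,0,0,0,0,0],[2,0,0,0,0,0,0],[4,0,0,0,0,0,0],[3,0,0,0,0,0,0],[7,0,0,0,0,0,0]],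
  [[3,0,0,0,0,0,0],[8,0,0,0,0,0,0],[2,0,0,0,0,0,0],[6,0,0,0,0,0,0],[4,0,0,0,0,0,0],[0,0,0,0,0,0,0],[6,0,0,0,0,0,0]],
  [[4,0,0,0,0,0,0],[10,0,0,0,0,0,0],[1,0,0,0,0,0,0],[5,0,0,0,0,0,0],[3,0,0,0,0,0,0],[7,0,0,0,0,0,0],[8,0,0,0,0,0,0]],
  [[2,0,0,0,0,0,0],[5,0,0,0,0,0,0],[4,0,0,0,0,0,0],[3,0,0,0,0,0,0],[8,0,0,0,0,0,0],[8,0,0,0,0,0,0],[7,0,0,0,0,0,0]],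
  [[7,0,0,0,0,0,0],[1,0,0,0,0,0,0],[7,0,0,0,0,0,0],[0,0,0,0,0,0,0],[5,0,0,0,0,0,0],[6,0,0,0,0,0,0],[4,0,0,0,0,0,0]],
  [[8,0,0,0,0,0,0],[0,0,0,0,0,0,0],[7,0,0,0,0,0,0],[4,0,0,0,0,0,0],[9,0,0,0,0,0,0],[4,0,0,0,0,0,0],[7,0,0,0,0,0,0]],
  [[5,0,0,0,0,0,0],[7,0,0,0,0,0,0],[10,0,0,0,0,0,0],[1,0,0,0,0,0,0],[0,0,0,0,0,0,0],[1,0,0,0,0,0,0],[0,0,0,0,0,0,0]],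
  [[1,0,0,0,0,0,0],[9,0,0,0,0,0,0],[0,0,0,0,0,0,0],[0,0,0,0,0,0,0],[8,0,0,0,0,0,0],[2,0,0,0,0,0,0],[2,0,0,0,0,0,0]],
  [[8,0,0,0,0,0,0],[4,0,0,0,0,0,0],[5,0,0,0,0,0,0],[8,0,0,0,0,0,0],[3,0,0,0,0,0,0],[9,0,0,0,0,0,0],[4,0,0,0,0,0,0]],
  [[0,0,0,0,0,0,0],[5,0,0,0,0,0,0],[8,0,0,0,0,0,0],[8,0,0,0,0,0,0],[2,0,0,0,0,0,0],[5,0,0,0,0,0,0],[4,0,0,0,0,0,0]],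
  [[3,0,0,0,0,0,0],[4,0,0,0,0,0,0],[9,0,0,0,0,0,0],[5,0,0,0,0,0,0],[4,0,0,0,0,0,0],[8,0,0,0,0,0,0],[8,0,0,0,0,0,0]],
  [[8,0,0,0,0,0,0],[6,0,0,0,0,0,0],[6,0,0,0,0,0,0],[7,0,0,0,0,0,0],[8,0,0,0,0,0,0],[0,0,0,0,0,0,0],[2,0,0,0,0,0,0]],
  [[2,0,0,0,0,0,0],[6,0,0,0,0,0,0],[5,0,0,0,0,0,0],[2,0,0,0,0,0,0],[5,0,0,0,0,0,0],[7,0,0,0,0,0,0],[0,0,0,0,0,0,0]],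
  [[7,0,0,0,0,0,0],[0,0,0,0,0,0,0],[7,0,0,0,0,0,0],[0,0,0,0,0,0,0],[9,0,0,0,0,0,0],[5,0,0,0,0,0,0],[7,0,0,0,0,0,0]]]

def vecs11_1 : List (List (List ℕ)) := [
  [[4,0,0,0,0,0,0],[10,0,0,0,0,0,0],[10,0,0,0,0,0,0],[7,0,0,0,0,0,0],[9,0,0,0,0,0,0],[5,0,0,0,0,0,0],[6,0,0,0,0,0,0]],
  [[5,0,0,0,0,0,0],[10,0,0,0,0,0,0],[3,0,0,0,0,0,0],[1,0,0,0,0,0,0],[3,0,0,0,0,0,0],[3,0,0,0,0,0,0],[10,0,0,0,0,0,0]],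
  [[0,0,0,0,0,0,0],[3,0,0,0,0,0,0],[2,0,0,0,0,0,0],[6,0,0,0,0,0,0],[5,0,0,0,0,0,0],[0,0,0,0,0,0,0],[5,0,0,0,0,0,0]],
  [[1,0,0,0,0,0,0],[10,0,0,0,0,0,0],[1,0,0,0,0,0,0],[10,0,0,0,0,0,0],[2,0,0,0,0,0,0],[6,0,0,0,0,0,0],[0,0,0,0,0,0,0]],
  [[4,0,0,0,0,0,0],[0,0,0,0,0,0,0],[5,0,0,0,0,0,0],[6,0,0,0,0,0,0],[7,0,0,0,0,0,0],[7,0,0,0,0,0,0],[10,0,0,0,0,0,0]],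
  [[7,0,0,0,0,0,0],[1,0,0,0,0,0,0],[4,0,0,0,0,0,0],[0,0,0,0,0,0,0],[6,0,0,0,0,0,0],[5,0,0,0,0,0,0],[7,0,0,0,0,0,0]],
  [[5,0,0,0,0,0,0],[7,0,0,0,0,0,0],[4,0,0,0,0,0,0],[1,0,0,0,0,0,0],[7,0,0,0,0,0,0],[0,0,0,0,0,0,0],[5,0,0,0,0,0,0]],
  [[10,0,0,0,0,0,0],[0,0,0,0,0,0,0],[6,0,0,0,0,0,0],[7,0,0,0,0,0,0],[10,0,0,0,0,0,0],[10,0,0,0,0,0,0],[0,0,0,0,0,0,0]],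
  [[1,0,0,0,0,0,0],[7,0,0,0,0,0,0],[0,0,0,0,0,0,0],[5,0,0,0,0,0,0],[6,0,0,0,0,0,0],[4,0,0,0,0,0,0],[7,0,0,0,0,0,0]],
  [[0,0,0,0,0,0,0],[7,0,0,0,0,0,0],[4,0,0,0,0,0,0],[9,0,0,0,0,0,0],[4,0,0,0,0,0,0],[7,0,0,0,0,0,0],[8,0,0,0,0,0,0]],
  [[7,0,0,0,0,0,0],[10,0,0,0,0,0,0],[1,0,0,0,0,0,0],[0,0,0,0,0,0,0],[1,0,0,0,0,0,0],[0,0,0,0,0,0,0],[5,0,0,0,0,0,0]],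
  [[9,0,0,0,0,0,0],[0,0,0,0,0,0,0],[0,0,0,0,0,0,0],[8,0,0,0,0,0,0],[2,0,0,0,0,0,0],[2,0,0,0,0,0,0],[1,0,0,0,0,0,0]],
  [[4,0,0,0,0,0,0],[5,0,0,0,0,0,0],[8,0,0,0,0,0,0],[3,0,0,0,0,0,0],[9,0,0,0,0,0,0],[4,0,0,0,0,0,0],[8,0,0,0,0,0,0]],
  [[5,0,0,0,0,0,0],[8,0,0,0,0,0,0],[8,0,0,0,0,0,0],[2,0,0,0,0,0,0],[5,0,0,0,0,0,0],[4,0,0,0,0,0,0],[0,0,0,0,0,0,0]],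
  [[3,0,0,0,0,0,0],[7,0,0,0,0,0,0],[10,0,0,0,0,0,0],[1,0,0,0,0,0,0],[6,0,0,0,0,0,0],[3,0,0,0,0,0,0],[4,0,0,0,0,0,0]],
  [[4,0,0,0,0,0,0],[9,0,0,0,0,0,0],[5,0,0,0,0,0,0],[4,0,0,0,0,0,0],[8,0,0,0,0,0,0],[8,0,0,0,0,0,0],[3,0,0,0,0,0,0]],
  [[6,0,0,0,0,0,0],[6,0,0,0,0,0,0],[7,0,0,0,0,0,0],[8,0,0,0,0,0,0],[0,0,0,0,0,0,0],[2,0,0,0,0,0,0],[8,0,0,0,0,0,0]],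
  [[6,0,0,0,0,0,0],[5,0,0,0,0,0,0],[2,0,0,0,0,0,0],[5,0,0,0,0,0,0],[7,0,0,0,0,0,0],[0,0,0,0,0,0,0],[2,0,0,0,0,0,0]],
  [[0,0,0,0,0,0,0],[7,0,0,0,0,0,0],[0,0,0,0,0,0,0],[9,0,0,0,0,0,0],[5,0,0,0,0,0,0],[7,0,0,0,0,0,0],[7,0,0,0,0,0,0]],
  [[10,0,0,0,0,0,0],[10,0,0,0,0,0,0],[7,0,0,0,0,0,0],[9,0,0,0,0,0,0],[5,0,0,0,0,0,0],[6,0,0,0,0,0,0],[4,0,0,0,0,0,0]],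
  [[10,0,0,0,0,0,0],[3,0,0,0,0,0,0],[1,0,0,0,0,0,0],[3,0,0,0,0,0,0],[3,0,0,0,0,0,0],[10,0,0,0,0,0,0],[5,0,0,0,0,0,0]],
  [[1,0,0,0,0,0,0],[1,0,0,0,0,0,0],[5,0,0,0,0,0,0],[1,0,0,0,0,0,0],[1,0,0,0,0,0,0],[9,0,0,0,0,0,0],[0,0,0,0,0,0,0]],
  [[7,0,0,0,0,0,0],[4,0,0,0,0,0,0],[10,0,0,0,0,0,0],[7,0,0,0,0,0,0],[0,0,0,0,0,0,0],[6,0,0,0,0,0,0],[6,0,0,0,0,0,0]],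
  [[4,0,0,0,0,0,0],[3,0,0,0,0,0,0],[0,0,0,0,0,0,0],[7,0,0,0,0,0,0],[4,0,0,0,0,0,0],[2,0,0,0,0,0,0],[4,0,0,0,0,0,0]],
  [[0,0,0,0,0,0,0],[6,0,0,0,0,0,0],[4,0,0,0,0,0,0],[10,0,0,0,0,0,0],[1,0,0,0,0,0,0],[0,0,0,0,0,0,0],[1,0,0,0,0,0,0]],
  [[9,0,0,0,0,0,0],[10,0,0,0,0,0,0],[2,0,0,0,0,0,0],[0,0,0,0,0,0,0],[0,0,0,0,0,0,0],[3,0,0,0,0,0,0],[2,0,0,0,0,0,0]],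
  [[7,0,0,0,0,0,0],[0,0,0,0,0,0,0],[6,0,0,0,0,0,0],[8,0,0,0,0,0,0],[8,0,0,0,0,0,0],[9,0,0,0,0,0,0],[5,0,0,0,0,0,0]],
  [[8,0,0,0,0,0,0],[7,0,0,0,0,0,0],[8,0,0,0,0,0,0],[7,0,0,0,0,0,0],[10,0,0,0,0,0,0],[10,0,0,0,0,0,0],[6,0,0,0,0,0,0]],
  [[3,0,0,0,0,0,0],[8,0,0,0,0,0,0],[7,0,0,0,0,0,0],[9,0,0,0,0,0,0],[5,0,0,0,0,0,0],[7,0,0,0,0,0,0],[8,0,0,0,0,0,0]],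
  [[9,0,0,0,0,0,0],[3,0,0,0,0,0,0],[5,0,0,0,0,0,0],[6,0,0,0,0,0,0],[7,0,0,0,0,0,0],[3,0,0,0,0,0,0],[0,0,0,0,0,0,0]],
  [[0,0,0,0,0,0,0],[9,0,0,0,0,0,0],[5,0,0,0,0,0,0],[5,0,0,0,0,0,0],[2,0,0,0,0,0,0],[6,0,0,0,0,0,0],[7,0,0,0,0,0,0]],
  [[5,0,0,0,0,0,0],[7,0,0,0,0,0,0],[1,0,0,0,0,0,0],[10,0,0,0,0,0,0],[7,0,0,0,0,0,0],[2,0,0,0,0,0,0],[5,0,0,0,0,0,0]],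
  [[10,0,0,0,0,0,0],[1,0,0,0,0,0,0],[10,0,0,0,0,0,0],[10,0,0,0,0,0,0],[2,0,0,0,0,0,0],[5,0,0,0,0,0,0],[0,0,0,0,0,0,0]],
  [[7,0,0,0,0,0,0],[7,0,0,0,0,0,0],[1,0,0,0,0,0,0],[9,0,0,0,0,0,0],[1,0,0,0,0,0,0],[10,0,0,0,0,0,0],[4,0,0,0,0,0,0]],
  [[1,0,0,0,0,0,0],[1,0,0,0,0,0,0],[8,0,0,0,0,0,0],[2,0,0,0,0,0,0],[5,0,0,0,0,0,0],[0,0,0,0,0,0,0],[9,0,0,0,0,0,0]],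
  [[9,0,0,0,0,0,0],[2,0,0,0,0,0,0],[9,0,0,0,0,0,0],[7,0,0,0,0,0,0],[10,0,0,0,0,0,0],[0,0,0,0,0,0,0],[9,0,0,0,0,0,0]],
  [[7,0,0,0,0,0,0],[4,0,0,0,0,0,0],[3,0,0,0,0,0,0],[0,0,0,0,0,0,0],[3,0,0,0,0,0,0],[10,0,0,0,0,0,0],[2,0,0,0,0,0,0]],
  [[4,0,0,0,0,0,0],[0,0,0,0,0,0,0],[5,0,0,0,0,0,0],[8,0,0,0,0,0,0],[8,0,0,0,0,0,0],[9,0,0,0,0,0,0],[6,0,0,0,0,0,0]],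
  [[3,0,0,0,0,0,0],[5,0,0,0,0,0,0],[2,0,0,0,0,0,0],[0,0,0,0,0,0,0],[4,0,0,0,0,0,0],[8,0,0,0,0,0,0],[6,0,0,0,0,0,0]],
  [[7,0,0,0,0,0,0],[8,0,0,0,0,0,0],[7,0,0,0,0,0,0],[1,0,0,0,0,0,0],[3,0,0,0,0,0,0],[2,0,0,0,0,0,0],[0,0,0,0,0,0,0]],
  [[0,0,0,0,0,0,0],[9,0,0,0,0,0,0],[7,0,0,0,0,0,0],[9,0,0,0,0,0,0],[0,0,0,0,0,0,0],[0,0,0,0,0,0,0],[3,0,0,0,0,0,0]],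
  [[3,0,0,0,0,0,0],[4,0,0,0,0,0,0],[10,0,0,0,0,0,0],[1,0,0,0,0,0,0],[0,0,0,0,0,0,0],[1,0,0,0,0,0,0],[7,0,0,0,0,0,0]],
  [[9,0,0,0,0,0,0],[4,0,0,0,0,0,0],[3,0,0,0,0,0,0],[4,0,0,0,0,0,0],[6,0,0,0,0,0,0],[3,0,0,0,0,0,0],[8,0,0,0,0,0,0]],
  [[0,0,0,0,0,0,0],[5,0,0,0,0,0,0],[6,0,0,0,0,0,0],[7,0,0,0,0,0,0],[7,0,0,0,0,0,0],[10,0,0,0,0,0,0],[4,0,0,0,0,0,0]],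
  [[1,0,0,0,0,0,0],[4,0,0,0,0,0,0],[0,0,0,0,0,0,0],[6,0,0,0,0,0,0],[5,0,0,0,0,0,0],[7,0,0,0,0,0,0],[7,0,0,0,0,0,0]],
  [[7,0,0,0,0,0,0],[4,0,0,0,0,0,0],[1,0,0,0,0,0,0],[7,0,0,0,0,0,0],[0,0,0,0,0,0,0],[5,0,0,0,0,0,0],[5,0,0,0,0,0,0]],
  [[4,0,0,0,0,0,0],[3,0,0,0,0,0,0],[0,0,0,0,0,0,0],[7,0,0,0,0,0,0],[7,0,0,0,0,0,0],[9,0,0,0,0,0,0],[7,0,0,0,0,0,0]],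
  [[5,0,0,0,0,0,0],[5,0,0,0,0,0,0],[4,0,0,0,0,0,0],[4,0,0,0,0,0,0],[10,0,0,0,0,0,0],[4,0,0,0,0,0,0],[0,0,0,0,0,0,0]],
  [[9,0,0,0,0,0,0],[7,0,0,0,0,0,0],[7,0,0,0,0,0,0],[3,0,0,0,0,0,0],[0,0,0,0,0,0,0],[4,0,0,0,0,0,0],[4,0,0,0,0,0,0]],
  [[3,0,0,0,0,0,0],[2,0,0,0,0,0,0],[4,0,0,0,0,0,0],[3,0,0,0,0,0,0],[7,0,0,0,0,0,0],[6,0,0,0,0,0,0],[8,0,0,0,0,0,0]]]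

def vecs11_2 : List (List (List ℕ)) := [
  [[2,0,0,0,0,0,0],[6,0,0,0,0,0,0],[4,0,0,0,0,0,0],[0,0,0,0,0,0,0],[6,0,0,0,0,0,0],[3,0,0,0,0,0,0],[8,0,0,0,0,0,0]],
  [[4,0,0,0,0,0,0],[10,0,0,0,0,0,0],[7,0,0,0,0,0,0],[0,0,0,0,0,0,0],[6,0,0,0,0,0,0],[6,0,0,0,0,0,0],[7,0,0,0,0,0,0]],
  [[3,0,0,0,0,0,0],[0,0,0,0,0,0,0],[7,0,0,0,0,0,0],[4,0,0,0,0,0,0],[2,0,0,0,0,0,0],[4,0,0,0,0,0,0],[4,0,0,0,0,0,0]],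
  [[3,0,0,0,0,0,0],[7,0,0,0,0,0,0],[5,0,0,0,0,0,0],[8,0,0,0,0,0,0],[8,0,0,0,0,0,0],[9,0,0,0,0,0,0],[7,0,0,0,0,0,0]],
  [[0,0,0,0,0,0,0],[6,0,0,0,0,0,0],[8,0,0,0,0,0,0],[8,0,0,0,0,0,0],[9,0,0,0,0,0,0],[5,0,0,0,0,0,0],[7,0,0,0,0,0,0]],
  [[7,0,0,0,0,0,0],[8,0,0,0,0,0,0],[7,0,0,0,0,0,0],[10,0,0,0,0,0,0],[10,0,0,0,0,0,0],[6,0,0,0,0,0,0],[8,0,0,0,0,0,0]],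
  [[3,0,0,0,0,0,0],[5,0,0,0,0,0,0],[6,0,0,0,0,0,0],[7,0,0,0,0,0,0],[3,0,0,0,0,0,0],[0,0,0,0,0,0,0],[9,0,0,0,0,0,0]],
  [[9,0,0,0,0,0,0],[5,0,0,0,0,0,0],[5,0,0,0,0,0,0],[2,0,0,0,0,0,0],[6,0,0,0,0,0,0],[7,0,0,0,0,0,0],[0,0,0,0,0,0,0]],
  [[4,0,0,0,0,0,0],[0,0,0,0,0,0,0],[7,0,0,0,0,0,0],[0,0,0,0,0,0,0],[2,0,0,0,0,0,0],[5,0,0,0,0,0,0],[4,0,0,0,0,0,0]],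
  [[7,0,0,0,0,0,0],[1,0,0,0,0,0,0],[10,0,0,0,0,0,0],[7,0,0,0,0,0,0],[2,0,0,0,0,0,0],[5,0,0,0,0,0,0],[5,0,0,0,0,0,0]],
  [[6,0,0,0,0,0,0],[1,0,0,0,0,0,0],[3,0,0,0,0,0,0],[1,0,0,0,0,0,0],[8,0,0,0,0,0,0],[3,0,0,0,0,0,0],[1,0,0,0,0,0,0]],
  [[0,0,0,0,0,0,0],[10,0,0,0,0,0,0],[1,0,0,0,0,0,0],[5,0,0,0,0,0,0],[10,0,0,0,0,0,0],[1,0,0,0,0,0,0],[2,0,0,0,0,0,0]],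
  [[0,0,0,0,0,0,0],[8,0,0,0,0,0,0],[2,0,0,0,0,0,0],[6,0,0,0,0,0,0],[6,0,0,0,0,0,0],[0,0,0,0,0,0,0],[6,0,0,0,0,0,0]],
  [[7,0,0,0,0,0,0],[1,0,0,0,0,0,0],[9,0,0,0,0,0,0],[1,0,0,0,0,0,0],[10,0,0,0,0,0,0],[4,0,0,0,0,0,0],[7,0,0,0,0,0,0]],
  [[1,0,0,0,0,0,0],[8,0,0,0,0,0,0],[2,0,0,0,0,0,0],[5,0,0,0,0,0,0],[0,0,0,0,0,0,0],[9,0,0,0,0,0,0],[1,0,0,0,0,0,0]],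
  [[2,0,0,0,0,0,0],[9,0,0,0,0,0,0],[7,0,0,0,0,0,0],[10,0,0,0,0,0,0],[0,0,0,0,0,0,0],[9,0,0,0,0,0,0],[9,0,0,0,0,0,0]],
  [[4,0,0,0,0,0,0],[3,0,0,0,0,0,0],[0,0,0,0,0,0,0],[3,0,0,0,0,0,0],[10,0,0,0,0,0,0],[2,0,0,0,0,0,0],[7,0,0,0,0,0,0]],
  [[0,0,0,0,0,0,0],[5,0,0,0,0,0,0],[8,0,0,0,0,0,0],[8,0,0,0,0,0,0],[9,0,0,0,0,0,0],[6,0,0,0,0,0,0],[4,0,0,0,0,0,0]],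
  [[5,0,0,0,0,0,0],[2,0,0,0,0,0,0],[0,0,0,0,0,0,0],[4,0,0,0,0,0,0],[8,0,0,0,0,0,0],[6,0,0,0,0,0,0],[3,0,0,0,0,0,0]],
  [[8,0,0,0,0,0,0],[7,0,0,0,0,0,0],[1,0,0,0,0,0,0],[3,0,0,0,0,0,0],[2,0,0,0,0,0,0],[0,0,0,0,0,0,0],[7,0,0,0,0,0,0]],
  [[9,0,0,0,0,0,0],[7,0,0,0,0,0,0],[9,0,0,0,0,0,0],[0,0,0,0,0,0,0],[0,0,0,0,0,0,0],[3,0,0,0,0,0,0],[0,0,0,0,0,0,0]],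
  [[9,0,0,0,0,0,0],[7,0,0,0,0,0,0],[0,0,0,0,0,0,0],[0,0,0,0,0,0,0],[5,0,0,0,0,0,0],[4,0,0,0,0,0,0],[7,0,0,0,0,0,0]],
  [[5,0,0,0,0,0,0],[4,0,0,0,0,0,0],[7,0,0,0,0,0,0],[10,0,0,0,0,0,0],[7,0,0,0,0,0,0],[0,0,0,0,0,0,0],[6,0,0,0,0,0,0]],
  [[9,0,0,0,0,0,0],[2,0,0,0,0,0,0],[1,0,0,0,0,0,0],[2,0,0,0,0,0,0],[0,0,0,0,0,0,0],[0,0,0,0,0,0,0],[3,0,0,0,0,0,0]],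
  [[2,0,0,0,0,0,0],[4,0,0,0,0,0,0],[8,0,0,0,0,0,0],[7,0,0,0,0,0,0],[5,0,0,0,0,0,0],[3,0,0,0,0,0,0],[8,0,0,0,0,0,0]],
  [[6,0,0,0,0,0,0],[4,0,0,0,0,0,0],[0,0,0,0,0,0,0],[6,0,0,0,0,0,0],[8,0,0,0,0,0,0],[3,0,0,0,0,0,0],[9,0,0,0,0,0,0]],
  [[5,0,0,0,0,0,0],[3,0,0,0,0,0,0],[4,0,0,0,0,0,0],[8,0,0,0,0,0,0],[7,0,0,0,0,0,0],[1,0,0,0,0,0,0],[10,0,0,0,0,0,0]],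
  [[3,0,0,0,0,0,0],[8,0,0,0,0,0,0],[3,0,0,0,0,0,0],[7,0,0,0,0,0,0],[9,0,0,0,0,0,0],[6,0,0,0,0,0,0],[7,0,0,0,0,0,0]],
  [[6,0,0,0,0,0,0],[6,0,0,0,0,0,0],[4,0,0,0,0,0,0],[1,0,0,0,0,0,0],[10,0,0,0,0,0,0],[4,0,0,0,0,0,0],[2,0,0,0,0,0,0]],
  [[8,0,0,0,0,0,0],[10,0,0,0,0,0,0],[5,0,0,0,0,0,0],[1,0,0,0,0,0,0],[3,0,0,0,0,0,0],[10,0,0,0,0,0,0],[8,0,0,0,0,0,0]],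
  [[0,0,0,0,0,0,0],[5,0,0,0,0,0,0],[0,0,0,0,0,0,0],[8,0,0,0,0,0,0],[2,0,0,0,0,0,0],[5,0,0,0,0,0,0],[6,0,0,0,0,0,0]],
  [[0,0,0,0,0,0,0],[1,0,0,0,0,0,0],[10,0,0,0,0,0,0],[10,0,0,0,0,0,0],[10,0,0,0,0,0,0],[9,0,0,0,0,0,0],[5,0,0,0,0,0,0]],
  [[7,0,0,0,0,0,0],[4,0,0,0,0,0,0],[4,0,0,0,0,0,0],[1,0,0,0,0,0,0],[9,0,0,0,0,0,0],[10,0,0,0,0,0,0],[10,0,0,0,0,0,0]],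
  [[2,0,0,0,0,0,0],[10,0,0,0,0,0,0],[10,0,0,0,0,0,0],[8,0,0,0,0,0,0],[2,0,0,0,0,0,0],[6,0,0,0,0,0,0],[0,0,0,0,0,0,0]]]

def vecs11 : List (List (List ℕ)) :=
  vecs11_0 ++ vecs11_1 ++ vecs11_2

def vecs19_0 : List (List (List ℕ)) := [
  [[1,0,0,0,0,0,0],[6,0,0,0,0,0,0],[10,0,0,0,0,0,0],[5,0,0,0,0,0,0],[6,0,0,0,0,0,0],[8,0,0,0,0,0,0],[1,0,0,0,0,0,0]],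
  [[6,0,0,0,0,0,0],[10,0,0,0,0,0,0],[5,0,0,0,0,0,0],[6,0,0,0,0,0,0],[8,0,0,0,0,0,0],[1,0,0,0,0,0,0],[1,0,0,0,0,0,0]],
  [[9,0,0,0,0,0,0],[7,0,0,0,0,0,0],[6,0,0,0,0,0,0],[8,0,0,0,0,0,0],[4,0,0,0,0,0,0],[1,0,0,0,0,0,0],[4,0,0,0,0,0,0]],
  [[10,0,0,0,0,0,0],[5,0,0,0,0,0,0],[6,0,0,0,0,0,0],[8,0,0,0,0,0,0],[1,0,0,0,0,0,0],[1,0,0,0,0,0,0],[6,0,0,0,0,0,0]],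
  [[7,0,0,0,0,0,0],[6,0,0,0,0,0,0],[8,0,0,0,0,0,0],[4,0,0,0,0,0,0],[1,0,0,0,0,0,0],[4,0,0,0,0,0,0],[9,0,0,0,0,0,0]],
  [[7,0,0,0,0,0,0],[2,0,0,0,0,0,0],[4,0,0,0,0,0,0],[6,0,0,0,0,0,0],[8,0,0,0,0,0,0],[7,0,0,0,0,0,0],[1,0,0,0,0,0,0]],
  [[3,0,0,0,0,0,0],[5,0,0,0,0,0,0],[6,0,0,0,0,0,0],[3,0,0,0,0,0,0],[4,0,0,0,0,0,0],[5,0,0,0,0,0,0],[0,0,0,0,0,0,0]],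
  [[5,0,0,0,0,0,0],[6,0,0,0,0,0,0],[8,0,0,0,0,0,0],[1,0,0,0,0,0,0],[1,0,0,0,0,0,0],[6,0,0,0,0,0,0],[10,0,0,0,0,0,0]],
  [[2,0,0,0,0,0,0],[4,0,0,0,0,0,0],[6,0,0,0,0,0,0],[8,0,0,0,0,0,0],[7,0,0,0,0,0,0],[1,0,0,0,0,0,0],[7,0,0,0,0,0,0]],
  [[5,0,0,0,0,0,0],[6,0,0,0,0,0,0],[3,0,0,0,0,0,0],[4,0,0,0,0,0,0],[5,0,0,0,0,0,0],[0,0,0,0,0,0,0],[3,0,0,0,0,0,0]],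
  [[10,0,0,0,0,0,0],[4,0,0,0,0,0,0],[9,0,0,0,0,0,0],[4,0,0,0,0,0,0],[6,0,0,0,0,0,0],[3,0,0,0,0,0,0],[7,0,0,0,0,0,0]],
  [[0,0,0,0,0,0,0],[8,0,0,0,0,0,0],[6,0,0,0,0,0,0],[6,0,0,0,0,0,0],[3,0,0,0,0,0,0],[7,0,0,0,0,0,0],[5,0,0,0,0,0,0]],
  [[5,0,0,0,0,0,0],[9,0,0,0,0,0,0],[7,0,0,0,0,0,0],[9,0,0,0,0,0,0],[10,0,0,0,0,0,0],[9,0,0,0,0,0,0],[0,0,0,0,0,0,0]],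
  [[8,0,0,0,0,0,0],[0,0,0,0,0,0,0],[10,0,0,0,0,0,0],[9,0,0,0,0,0,0],[6,0,0,0,0,0,0],[6,0,0,0,0,0,0],[1,0,0,0,0,0,0]],
  [[6,0,0,0,0,0,0],[8,0,0,0,0,0,0],[1,0,0,0,0,0,0],[1,0,0,0,0,0,0],[6,0,0,0,0,0,0],[10,0,0,0,0,0,0],[5,0,0,0,0,0,0]],
  [[8,0,0,0,0,0,0],[4,0,0,0,0,0,0],[1,0,0,0,0,0,0],[4,0,0,0,0,0,0],[9,0,0,0,0,0,0],[7,0,0,0,0,0,0],[6,0,0,0,0,0,0]],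
  [[4,0,0,0,0,0,0],[9,0,0,0,0,0,0],[4,0,0,0,0,0,0],[6,0,0,0,0,0,0],[3,0,0,0,0,0,0],[7,0,0,0,0,0,0],[10,0,0,0,0,0,0]],
  [[8,0,0,0,0,0,0],[6,0,0,0,0,0,0],[6,0,0,0,0,0,0],[3,0,0,0,0,0,0],[7,0,0,0,0,0,0],[5,0,0,0,0,0,0],[0,0,0,0,0,0,0]],
  [[9,0,0,0,0,0,0],[7,0,0,0,0,0,0],[9,0,0,0,0,0,0],[10,0,0,0,0,0,0],[9,0,0,0,0,0,0],[0,0,0,0,0,0,0],[5,0,0,0,0,0,0]],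
  [[0,0,0,0,0,0,0],[10,0,0,0,0,0,0],[9,0,0,0,0,0,0],[6,0,0,0,0,0,0],[6,0,0,0,0,0,0],[1,0,0,0,0,0,0],[8,0,0,0,0,0,0]],
  [[4,0,0,0,0,0,0],[1,0,0,0,0,0,0],[7,0,0,0,0,0,0],[9,0,0,0,0,0,0],[4,0,0,0,0,0,0],[5,0,0,0,0,0,0],[3,0,0,0,0,0,0]],
  [[6,0,0,0,0,0,0],[0,0,0,0,0,0,0],[3,0,0,0,0,0,0],[6,0,0,0,0,0,0],[6,0,0,0,0,0,0],[8,0,0,0,0,0,0],[7,0,0,0,0,0,0]],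
  [[0,0,0,0,0,0,0],[6,0,0,0,0,0,0],[2,0,0,0,0,0,0],[7,0,0,0,0,0,0],[9,0,0,0,0,0,0],[1,0,0,0,0,0,0],[9,0,0,0,0,0,0]],
  [[10,0,0,0,0,0,0],[3,0,0,0,0,0,0],[0,0,0,0,0,0,0],[10,0,0,0,0,0,0],[9,0,0,0,0,0,0],[5,0,0,0,0,0,0],[6,0,0,0,0,0,0]],
  [[0,0,0,0,0,0,0],[8,0,0,0,0,0,0],[8,0,0,0,0,0,0],[4,0,0,0,0,0,0],[6,0,0,0,0,0,0],[5,0,0,0,0,0,0],[6,0,0,0,0,0,0]],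
  [[6,0,0,0,0,0,0],[5,0,0,0,0,0,0],[3,0,0,0,0,0,0],[7,0,0,0,0,0,0],[5,0,0,0,0,0,0],[0,0,0,0,0,0,0],[3,0,0,0,0,0,0]],
  [[3,0,0,0,0,0,0],[4,0,0,0,0,0,0],[9,0,0,0,0,0,0],[10,0,0,0,0,0,0],[5,0,0,0,0,0,0],[10,0,0,0,0,0,0],[8,0,0,0,0,0,0]],
  [[7,0,0,0,0,0,0],[4,0,0,0,0,0,0],[7,0,0,0,0,0,0],[3,0,0,0,0,0,0],[1,0,0,0,0,0,0],[2,0,0,0,0,0,0],[5,0,0,0,0,0,0]],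
  [[8,0,0,0,0,0,0],[1,0,0,0,0,0,0],[1,0,0,0,0,0,0],[6,0,0,0,0,0,0],[10,0,0,0,0,0,0],[5,0,0,0,0,0,0],[6,0,0,0,0,0,0]],
  [[4,0,0,0,0,0,0],[1,0,0,0,0,0,0],[4,0,0,0,0,0,0],[9,0,0,0,0,0,0],[7,0,0,0,0,0,0],[6,0,0,0,0,0,0],[8,0,0,0,0,0,0]],
  [[6,0,0,0,0,0,0],[8,0,0,0,0,0,0],[7,0,0,0,0,0,0],[1,0,0,0,0,0,0],[7,0,0,0,0,0,0],[2,0,0,0,0,0,0],[4,0,0,0,0,0,0]],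
  [[3,0,0,0,0,0,0],[4,0,0,0,0,0,0],[5,0,0,0,0,0,0],[0,0,0,0,0,0,0],[3,0,0,0,0,0,0],[5,0,0,0,0,0,0],[6,0,0,0,0,0,0]],
  [[1,0,0,0,0,0,0],[7,0,0,0,0,0,0],[9,0,0,0,0,0,0],[4,0,0,0,0,0,0],[5,0,0,0,0,0,0],[3,0,0,0,0,0,0],[4,0,0,0,0,0,0]],
  [[0,0,0,0,0,0,0],[3,0,0,0,0,0,0],[6,0,0,0,0,0,0],[6,0,0,0,0,0,0],[8,0,0,0,0,0,0],[7,0,0,0,0,0,0],[6,0,0,0,0,0,0]],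
  [[6,0,0,0,0,0,0],[2,0,0,0,0,0,0],[7,0,0,0,0,0,0],[9,0,0,0,0,0,0],[1,0,0,0,0,0,0],[9,0,0,0,0,0,0],[0,0,0,0,0,0,0]],
  [[3,0,0,0,0,0,0],[0,0,0,0,0,0,0],[10,0,0,0,0,0,0],[9,0,0,0,0,0,0],[5,0,0,0,0,0,0],[6,0,0,0,0,0,0],[10,0,0,0,0,0,0]],
  [[8,0,0,0,0,0,0],[8,0,0,0,0,0,0],[4,0,0,0,0,0,0],[6,0,0,0,0,0,0],[5,0,0,0,0,0,0],[6,0,0,0,0,0,0],[0,0,0,0,0,0,0]],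
  [[5,0,0,0,0,0,0],[3,0,0,0,0,0,0],[7,0,0,0,0,0,0],[5,0,0,0,0,0,0],[0,0,0,0,0,0,0],[3,0,0,0,0,0,0],[6,0,0,0,0,0,0]],
  [[4,0,0,0,0,0,0],[9,0,0,0,0,0,0],[10,0,0,0,0,0,0],[5,0,0,0,0,0,0],[10,0,0,0,0,0,0],[8,0,0,0,0,0,0],[3,0,0,0,0,0,0]],
  [[4,0,0,0,0,0,0],[7,0,0,0,0,0,0],[3,0,0,0,0,0,0],[1,0,0,0,0,0,0],[2,0,0,0,0,0,0],[5,0,0,0,0,0,0],[7,0,0,0,0,0,0]],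
  [[8,0,0,0,0,0,0],[7,0,0,0,0,0,0],[10,0,0,0,0,0,0],[7,0,0,0,0,0,0],[9,0,0,0,0,0,0],[7,0,0,0,0,0,0],[5,0,0,0,0,0,0]],
  [[4,0,0,0,0,0,0],[5,0,0,0,0,0,0],[0,0,0,0,0,0,0],[3,0,0,0,0,0,0],[6,0,0,0,0,0,0],[5,0,0,0,0,0,0],[8,0,0,0,0,0,0]],
  [[2,0,0,0,0,0,0],[0,0,0,0,0,0,0],[5,0,0,0,0,0,0],[2,0,0,0,0,0,0],[7,0,0,0,0,0,0],[2,0,0,0,0,0,0],[1,0,0,0,0,0,0]],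
  [[5,0,0,0,0,0,0],[1,0,0,0,0,0,0],[8,0,0,0,0,0,0],[0,0,0,0,0,0,0],[10,0,0,0,0,0,0],[2,0,0,0,0,0,0],[5,0,0,0,0,0,0]],
  [[5,0,0,0,0,0,0],[0,0,0,0,0,0,0],[3,0,0,0,0,0,0],[8,0,0,0,0,0,0],[4,0,0,0,0,0,0],[5,0,0,0,0,0,0],[5,0,0,0,0,0,0]],
  [[8,0,0,0,0,0,0],[5,0,0,0,0,0,0],[6,0,0,0,0,0,0],[3,0,0,0,0,0,0],[7,0,0,0,0,0,0],[6,0,0,0,0,0,0],[0,0,0,0,0,0,0]],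
  [[6,0,0,0,0,0,0],[4,0,0,0,0,0,0],[7,0,0,0,0,0,0],[7,0,0,0,0,0,0],[3,0,0,0,0,0,0],[10,0,0,0,0,0,0],[2,0,0,0,0,0,0]],
  [[3,0,0,0,0,0,0],[5,0,0,0,0,0,0],[6,0,0,0,0,0,0],[8,0,0,0,0,0,0],[7,0,0,0,0,0,0],[5,0,0,0,0,0,0],[0,0,0,0,0,0,0]],
  [[3,0,0,0,0,0,0],[2,0,0,0,0,0,0],[2,0,0,0,0,0,0],[2,0,0,0,0,0,0],[8,0,0,0,0,0,0],[3,0,0,0,0,0,0],[9,0,0,0,0,0,0]],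
  [[4,0,0,0,0,0,0],[0,0,0,0,0,0,0],[2,0,0,0,0,0,0],[5,0,0,0,0,0,0],[10,0,0,0,0,0,0],[9,0,0,0,0,0,0],[2,0,0,0,0,0,0]]]

def vecs19_1 : List (List (List ℕ)) := [
  [[7,0,0,0,0,0,0],[1,0,0,0,0,0,0],[9,0,0,0,0,0,0],[8,0,0,0,0,0,0],[1,0,0,0,0,0,0],[3,0,0,0,0,0,0],[6,0,0,0,0,0,0]],
  [[8,0,0,0,0,0,0],[8,0,0,0,0,0,0],[4,0,0,0,0,0,0],[9,0,0,0,0,0,0],[10,0,0,0,0,0,0],[6,0,0,0,0,0,0],[1,0,0,0,0,0,0]],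
  [[1,0,0,0,0,0,0],[1,0,0,0,0,0,0],[6,0,0,0,0,0,0],[10,0,0,0,0,0,0],[5,0,0,0,0,0,0],[6,0,0,0,0,0,0],[8,0,0,0,0,0,0]],
  [[1,0,0,0,0,0,0],[4,0,0,0,0,0,0],[9,0,0,0,0,0,0],[7,0,0,0,0,0,0],[6,0,0,0,0,0,0],[8,0,0,0,0,0,0],[4,0,0,0,0,0,0]],
  [[8,0,0,0,0,0,0],[7,0,0,0,0,0,0],[1,0,0,0,0,0,0],[7,0,0,0,0,0,0],[2,0,0,0,0,0,0],[4,0,0,0,0,0,0],[6,0,0,0,0,0,0]],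
  [[4,0,0,0,0,0,0],[6,0,0,0,0,0,0],[3,0,0,0,0,0,0],[7,0,0,0,0,0,0],[10,0,0,0,0,0,0],[4,0,0,0,0,0,0],[9,0,0,0,0,0,0]],
  [[9,0,0,0,0,0,0],[10,0,0,0,0,0,0],[9,0,0,0,0,0,0],[0,0,0,0,0,0,0],[5,0,0,0,0,0,0],[9,0,0,0,0,0,0],[7,0,0,0,0,0,0]],
  [[7,0,0,0,0,0,0],[10,0,0,0,0,0,0],[7,0,0,0,0,0,0],[9,0,0,0,0,0,0],[7,0,0,0,0,0,0],[5,0,0,0,0,0,0],[8,0,0,0,0,0,0]],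
  [[5,0,0,0,0,0,0],[0,0,0,0,0,0,0],[3,0,0,0,0,0,0],[6,0,0,0,0,0,0],[5,0,0,0,0,0,0],[8,0,0,0,0,0,0],[4,0,0,0,0,0,0]],
  [[0,0,0,0,0,0,0],[5,0,0,0,0,0,0],[2,0,0,0,0,0,0],[7,0,0,0,0,0,0],[2,0,0,0,0,0,0],[1,0,0,0,0,0,0],[2,0,0,0,0,0,0]],
  [[1,0,0,0,0,0,0],[8,0,0,0,0,0,0],[0,0,0,0,0,0,0],[10,0,0,0,0,0,0],[2,0,0,0,0,0,0],[5,0,0,0,0,0,0],[5,0,0,0,0,0,0]],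
  [[0,0,0,0,0,0,0],[3,0,0,0,0,0,0],[8,0,0,0,0,0,0],[4,0,0,0,0,0,0],[5,0,0,0,0,0,0],[5,0,0,0,0,0,0],[5,0,0,0,0,0,0]],
  [[5,0,0,0,0,0,0],[6,0,0,0,0,0,0],[3,0,0,0,0,0,0],[7,0,0,0,0,0,0],[6,0,0,0,0,0,0],[0,0,0,0,0,0,0],[8,0,0,0,0,0,0]],
  [[8,0,0,0,0,0,0],[7,0,0,0,0,0,0],[9,0,0,0,0,0,0],[10,0,0,0,0,0,0],[6,0,0,0,0,0,0],[10,0,0,0,0,0,0],[3,0,0,0,0,0,0]],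
  [[4,0,0,0,0,0,0],[7,0,0,0,0,0,0],[7,0,0,0,0,0,0],[3,0,0,0,0,0,0],[10,0,0,0,0,0,0],[2,0,0,0,0,0,0],[6,0,0,0,0,0,0]],
  [[0,0,0,0,0,0,0],[10,0,0,0,0,0,0],[9,0,0,0,0,0,0],[5,0,0,0,0,0,0],[6,0,0,0,0,0,0],[10,0,0,0,0,0,0],[3,0,0,0,0,0,0]],
  [[5,0,0,0,0,0,0],[6,0,0,0,0,0,0],[8,0,0,0,0,0,0],[7,0,0,0,0,0,0],[5,0,0,0,0,0,0],[0,0,0,0,0,0,0],[3,0,0,0,0,0,0]],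
  [[2,0,0,0,0,0,0],[2,0,0,0,0,0,0],[2,0,0,0,0,0,0],[8,0,0,0,0,0,0],[3,0,0,0,0,0,0],[9,0,0,0,0,0,0],[3,0,0,0,0,0,0]],
  [[0,0,0,0,0,0,0],[2,0,0,0,0,0,0],[5,0,0,0,0,0,0],[10,0,0,0,0,0,0],[9,0,0,0,0,0,0],[2,0,0,0,0,0,0],[4,0,0,0,0,0,0]],
  [[1,0,0,0,0,0,0],[9,0,0,0,0,0,0],[8,0,0,0,0,0,0],[1,0,0,0,0,0,0],[3,0,0,0,0,0,0],[6,0,0,0,0,0,0],[7,0,0,0,0,0,0]],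
  [[9,0,0,0,0,0,0],[8,0,0,0,0,0,0],[3,0,0,0,0,0,0],[9,0,0,0,0,0,0],[8,0,0,0,0,0,0],[9,0,0,0,0,0,0],[2,0,0,0,0,0,0]],
  [[8,0,0,0,0,0,0],[4,0,0,0,0,0,0],[9,0,0,0,0,0,0],[10,0,0,0,0,0,0],[6,0,0,0,0,0,0],[1,0,0,0,0,0,0],[8,0,0,0,0,0,0]],
  [[6,0,0,0,0,0,0],[3,0,0,0,0,0,0],[4,0,0,0,0,0,0],[10,0,0,0,0,0,0],[7,0,0,0,0,0,0],[2,0,0,0,0,0,0],[7,0,0,0,0,0,0]],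
  [[3,0,0,0,0,0,0],[7,0,0,0,0,0,0],[6,0,0,0,0,0,0],[0,0,0,0,0,0,0],[3,0,0,0,0,0,0],[5,0,0,0,0,0,0],[5,0,0,0,0,0,0]],
  [[10,0,0,0,0,0,0],[9,0,0,0,0,0,0],[0,0,0,0,0,0,0],[5,0,0,0,0,0,0],[2,0,0,0,0,0,0],[4,0,0,0,0,0,0],[2,0,0,0,0,0,0]],
  [[6,0,0,0,0,0,0],[6,0,0,0,0,0,0],[10,0,0,0,0,0,0],[8,0,0,0,0,0,0],[0,0,0,0,0,0,0],[1,0,0,0,0,0,0],[2,0,0,0,0,0,0]],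
  [[0,0,0,0,0,0,0],[3,0,0,0,0,0,0],[6,0,0,0,0,0,0],[6,0,0,0,0,0,0],[3,0,0,0,0,0,0],[4,0,0,0,0,0,0],[6,0,0,0,0,0,0]],
  [[1,0,0,0,0,0,0],[8,0,0,0,0,0,0],[3,0,0,0,0,0,0],[7,0,0,0,0,0,0],[9,0,0,0,0,0,0],[1,0,0,0,0,0,0],[6,0,0,0,0,0,0]]]

def vecs19 : List (List (List ℕ)) :=
  vecs19_0 ++ vecs19_1

def vecs5_0 : List (List (List ℕ)) := [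
  [[5,0,0,0,0,0,0],[0,0,0,0,0,0,0],[5,0,0,0,0,0,0],[5,0,0,0,0,0,0],[1,0,0,0,0,0,0],[0,0,0,0,0,0,0],[0,0,0,0,0,0,0]],
  [[0,0,0,0,0,0,0],[5,0,0,0,0,0,0],[5,0,0,0,0,0,0],[1,0,0,0,0,0,0],[0,0,0,0,0,0,0],[0,0,0,0,0,0,0],[5,0,0,0,0,0,0]],
  [[5,0,0,0,0,0,0],[5,0,0,0,0,0,0],[1,0,0,0,0,0,0],[0,0,0,0,0,0,0],[0,0,0,0,0,0,0],[5,0,0,0,0,0,0],[0,0,0,0,0,0,0]],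
  [[0,0,0,0,0,0,0],[6,0,0,0,0,0,0],[0,0,0,0,0,0,0],[5,0,0,0,0,0,0],[5,0,0,0,0,0,0],[10,0,0,0,0,0,0],[0,0,0,0,0,0,0]],
  [[5,0,0,0,0,0,0],[1,0,0,0,0,0,0],[0,0,0,0,0,0,0],[0,0,0,0,0,0,0],[5,0,0,0,0,0,0],[0,0,0,0,0,0,0],[5,0,0,0,0,0,0]],
  [[6,0,0,0,0,0,0],[0,0,0,0,0,0,0],[5,0,0,0,0,0,0],[5,0,0,0,0,0,0],[10,0,0,0,0,0,0],[0,0,0,0,0,0,0],[0,0,0,0,0,0,0]],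
  [[0,0,0,0,0,0,0],[0,0,0,0,0,0,0],[5,0,0,0,0,0,0],[0,0,0,0,0,0,0],[5,0,0,0,0,0,0],[6,0,0,0,0,0,0],[10,0,0,0,0,0,0]],
  [[4,0,0,0,0,0,0],[1,0,0,0,0,0,0],[10,0,0,0,0,0,0],[5,0,0,0,0,0,0],[1,0,0,0,0,0,0],[1,0,0,0,0,0,0],[3,0,0,0,0,0,0]],
  [[1,0,0,0,0,0,0],[0,0,0,0,0,0,0],[0,0,0,0,0,0,0],[5,0,0,0,0,0,0],[0,0,0,0,0,0,0],[5,0,0,0,0,0,0],[5,0,0,0,0,0,0]],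
  [[0,0,0,0,0,0,0],[5,0,0,0,0,0,0],[0,0,0,0,0,0,0],[5,0,0,0,0,0,0],[6,0,0,0,0,0,0],[10,0,0,0,0,0,0],[0,0,0,0,0,0,0]],
  [[1,0,0,0,0,0,0],[10,0,0,0,0,0,0],[5,0,0,0,0,0,0],[1,0,0,0,0,0,0],[1,0,0,0,0,0,0],[3,0,0,0,0,0,0],[4,0,0,0,0,0,0]],
  [[1,0,0,0,0,0,0],[0,0,0,0,0,0,0],[0,0,0,0,0,0,0],[5,0,0,0,0,0,0],[0,0,0,0,0,0,0],[6,0,0,0,0,0,0],[6,0,0,0,0,0,0]],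
  [[8,0,0,0,0,0,0],[7,0,0,0,0,0,0],[10,0,0,0,0,0,0],[10,0,0,0,0,0,0],[5,0,0,0,0,0,0],[10,0,0,0,0,0,0],[1,0,0,0,0,0,0]],
  [[10,0,0,0,0,0,0],[3,0,0,0,0,0,0],[5,0,0,0,0,0,0],[4,0,0,0,0,0,0],[1,0,0,0,0,0,0],[1,0,0,0,0,0,0],[1,0,0,0,0,0,0]],
  [[6,0,0,0,0,0,0],[9,0,0,0,0,0,0],[4,0,0,0,0,0,0],[8,0,0,0,0,0,0],[6,0,0,0,0,0,0],[5,0,0,0,0,0,0],[7,0,0,0,0,0,0]],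
  [[0,0,0,0,0,0,0],[0,0,0,0,0,0,0],[5,0,0,0,0,0,0],[0,0,0,0,0,0,0],[5,0,0,0,0,0,0],[5,0,0,0,0,0,0],[1,0,0,0,0,0,0]],
  [[5,0,0,0,0,0,0],[5,0,0,0,0,0,0],[10,0,0,0,0,0,0],[0,0,0,0,0,0,0],[0,0,0,0,0,0,0],[6,0,0,0,0,0,0],[0,0,0,0,0,0,0]],
  [[0,0,0,0,0,0,0],[0,0,0,0,0,0,0],[5,0,0,0,0,0,0],[0,0,0,0,0,0,0],[6,0,0,0,0,0,0],[6,0,0,0,0,0,0],[1,0,0,0,0,0,0]],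
  [[7,0,0,0,0,0,0],[10,0,0,0,0,0,0],[10,0,0,0,0,0,0],[5,0,0,0,0,0,0],[10,0,0,0,0,0,0],[1,0,0,0,0,0,0],[8,0,0,0,0,0,0]],
  [[3,0,0,0,0,0,0],[5,0,0,0,0,0,0],[4,0,0,0,0,0,0],[1,0,0,0,0,0,0],[1,0,0,0,0,0,0],[1,0,0,0,0,0,0],[10,0,0,0,0,0,0]],
  [[9,0,0,0,0,0,0],[4,0,0,0,0,0,0],[8,0,0,0,0,0,0],[6,0,0,0,0,0,0],[5,0,0,0,0,0,0],[7,0,0,0,0,0,0],[6,0,0,0,0,0,0]],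
  [[5,0,0,0,0,0,0],[10,0,0,0,0,0,0],[0,0,0,0,0,0,0],[0,0,0,0,0,0,0],[5,0,0,0,0,0,0],[0,0,0,0,0,0,0],[6,0,0,0,0,0,0]],
  [[10,0,0,0,0,0,0],[3,0,0,0,0,0,0],[4,0,0,0,0,0,0],[10,0,0,0,0,0,0],[10,0,0,0,0,0,0],[6,0,0,0,0,0,0],[10,0,0,0,0,0,0]],
  [[10,0,0,0,0,0,0],[1,0,0,0,0,0,0],[8,0,0,0,0,0,0],[5,0,0,0,0,0,0],[4,0,0,0,0,0,0],[10,0,0,0,0,0,0],[1,0,0,0,0,0,0]],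
  [[1,0,0,0,0,0,0],[5,0,0,0,0,0,0],[10,0,0,0,0,0,0],[1,0,0,0,0,0,0],[3,0,0,0,0,0,0],[4,0,0,0,0,0,0],[10,0,0,0,0,0,0]],
  [[8,0,0,0,0,0,0],[3,0,0,0,0,0,0],[1,0,0,0,0,0,0],[1,0,0,0,0,0,0],[7,0,0,0,0,0,0],[2,0,0,0,0,0,0],[5,0,0,0,0,0,0]],
  [[4,0,0,0,0,0,0],[7,0,0,0,0,0,0],[8,0,0,0,0,0,0],[6,0,0,0,0,0,0],[6,0,0,0,0,0,0],[9,0,0,0,0,0,0],[5,0,0,0,0,0,0]],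
  [[10,0,0,0,0,0,0],[1,0,0,0,0,0,0],[1,0,0,0,0,0,0],[1,0,0,0,0,0,0],[3,0,0,0,0,0,0],[6,0,0,0,0,0,0],[7,0,0,0,0,0,0]],
  [[0,0,0,0,0,0,0],[5,0,0,0,0,0,0],[0,0,0,0,0,0,0],[5,0,0,0,0,0,0],[5,0,0,0,0,0,0],[1,0,0,0,0,0,0],[0,0,0,0,0,0,0]],
  [[5,0,0,0,0,0,0],[10,0,0,0,0,0,0],[0,0,0,0,0,0,0],[0,0,0,0,0,0,0],[6,0,0,0,0,0,0],[0,0,0,0,0,0,0],[5,0,0,0,0,0,0]],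
  [[0,0,0,0,0,0,0],[5,0,0,0,0,0,0],[6,0,0,0,0,0,0],[10,0,0,0,0,0,0],[0,0,0,0,0,0,0],[0,0,0,0,0,0,0],[5,0,0,0,0,0,0]],
  [[5,0,0,0,0,0,0],[1,0,0,0,0,0,0],[1,0,0,0,0,0,0],[3,0,0,0,0,0,0],[4,0,0,0,0,0,0],[1,0,0,0,0,0,0],[10,0,0,0,0,0,0]],
  [[10,0,0,0,0,0,0],[0,0,0,0,0,0,0],[0,0,0,0,0,0,0],[5,0,0,0,0,0,0],[0,0,0,0,0,0,0],[6,0,0,0,0,0,0],[5,0,0,0,0,0,0]],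
  [[3,0,0,0,0,0,0],[4,0,0,0,0,0,0],[10,0,0,0,0,0,0],[10,0,0,0,0,0,0],[6,0,0,0,0,0,0],[10,0,0,0,0,0,0],[10,0,0,0,0,0,0]],
  [[1,0,0,0,0,0,0],[8,0,0,0,0,0,0],[5,0,0,0,0,0,0],[4,0,0,0,0,0,0],[10,0,0,0,0,0,0],[1,0,0,0,0,0,0],[10,0,0,0,0,0,0]],
  [[5,0,0,0,0,0,0],[2,0,0,0,0,0,0],[4,0,0,0,0,0,0],[8,0,0,0,0,0,0],[5,0,0,0,0,0,0],[5,0,0,0,0,0,0],[4,0,0,0,0,0,0]],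
  [[5,0,0,0,0,0,0],[10,0,0,0,0,0,0],[1,0,0,0,0,0,0],[3,0,0,0,0,0,0],[4,0,0,0,0,0,0],[10,0,0,0,0,0,0],[1,0,0,0,0,0,0]],
  [[3,0,0,0,0,0,0],[1,0,0,0,0,0,0],[1,0,0,0,0,0,0],[7,0,0,0,0,0,0],[2,0,0,0,0,0,0],[5,0,0,0,0,0,0],[8,0,0,0,0,0,0]],
  [[7,0,0,0,0,0,0],[8,0,0,0,0,0,0],[6,0,0,0,0,0,0],[6,0,0,0,0,0,0],[9,0,0,0,0,0,0],[5,0,0,0,0,0,0],[4,0,0,0,0,0,0]],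
  [[1,0,0,0,0,0,0],[1,0,0,0,0,0,0],[1,0,0,0,0,0,0],[3,0,0,0,0,0,0],[6,0,0,0,0,0,0],[7,0,0,0,0,0,0],[10,0,0,0,0,0,0]],
  [[5,0,0,0,0,0,0],[6,0,0,0,0,0,0],[1,0,0,0,0,0,0],[0,0,0,0,0,0,0],[0,0,0,0,0,0,0],[6,0,0,0,0,0,0],[0,0,0,0,0,0,0]],
  [[1,0,0,0,0,0,0],[1,0,0,0,0,0,0],[8,0,0,0,0,0,0],[4,0,0,0,0,0,0],[10,0,0,0,0,0,0],[1,0,0,0,0,0,0],[6,0,0,0,0,0,0]],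
  [[6,0,0,0,0,0,0],[7,0,0,0,0,0,0],[6,0,0,0,0,0,0],[2,0,0,0,0,0,0],[4,0,0,0,0,0,0],[3,0,0,0,0,0,0],[5,0,0,0,0,0,0]],
  [[1,0,0,0,0,0,0],[10,0,0,0,0,0,0],[6,0,0,0,0,0,0],[10,0,0,0,0,0,0],[1,0,0,0,0,0,0],[8,0,0,0,0,0,0],[4,0,0,0,0,0,0]],
  [[4,0,0,0,0,0,0],[1,0,0,0,0,0,0],[10,0,0,0,0,0,0],[1,0,0,0,0,0,0],[1,0,0,0,0,0,0],[8,0,0,0,0,0,0],[6,0,0,0,0,0,0]],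
  [[5,0,0,0,0,0,0],[1,0,0,0,0,0,0],[4,0,0,0,0,0,0],[10,0,0,0,0,0,0],[1,0,0,0,0,0,0],[3,0,0,0,0,0,0],[1,0,0,0,0,0,0]],
  [[6,0,0,0,0,0,0],[9,0,0,0,0,0,0],[3,0,0,0,0,0,0],[7,0,0,0,0,0,0],[6,0,0,0,0,0,0],[2,0,0,0,0,0,0],[2,0,0,0,0,0,0]],
  [[0,0,0,0,0,0,0],[8,0,0,0,0,0,0],[8,0,0,0,0,0,0],[4,0,0,0,0,0,0],[4,0,0,0,0,0,0],[0,0,0,0,0,0,0],[2,0,0,0,0,0,0]],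
  [[3,0,0,0,0,0,0],[5,0,0,0,0,0,0],[7,0,0,0,0,0,0],[3,0,0,0,0,0,0],[4,0,0,0,0,0,0],[1,0,0,0,0,0,0],[0,0,0,0,0,0,0]],
  [[8,0,0,0,0,0,0],[6,0,0,0,0,0,0],[6,0,0,0,0,0,0],[4,0,0,0,0,0,0],[6,0,0,0,0,0,0],[4,0,0,0,0,0,0],[2,0,0,0,0,0,0]]]

def vecs5_1 : List (List (List ℕ)) := [
  [[1,0,0,0,0,0,0],[7,0,0,0,0,0,0],[1,0,0,0,0,0,0],[10,0,0,0,0,0,0],[3,0,0,0,0,0,0],[1,0,0,0,0,0,0],[6,0,0,0,0,0,0]],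
  [[5,0,0,0,0,0,0],[6,0,0,0,0,0,0],[10,0,0,0,0,0,0],[0,0,0,0,0,0,0],[0,0,0,0,0,0,0],[5,0,0,0,0,0,0],[0,0,0,0,0,0,0]],
  [[4,0,0,0,0,0,0],[1,0,0,0,0,0,0],[1,0,0,0,0,0,0],[1,0,0,0,0,0,0],[10,0,0,0,0,0,0],[3,0,0,0,0,0,0],[5,0,0,0,0,0,0]],
  [[1,0,0,0,0,0,0],[10,0,0,0,0,0,0],[8,0,0,0,0,0,0],[5,0,0,0,0,0,0],[7,0,0,0,0,0,0],[10,0,0,0,0,0,0],[10,0,0,0,0,0,0]],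
  [[7,0,0,0,0,0,0],[6,0,0,0,0,0,0],[2,0,0,0,0,0,0],[4,0,0,0,0,0,0],[3,0,0,0,0,0,0],[5,0,0,0,0,0,0],[6,0,0,0,0,0,0]],
  [[10,0,0,0,0,0,0],[6,0,0,0,0,0,0],[10,0,0,0,0,0,0],[1,0,0,0,0,0,0],[8,0,0,0,0,0,0],[4,0,0,0,0,0,0],[1,0,0,0,0,0,0]],
  [[3,0,0,0,0,0,0],[8,0,0,0,0,0,0],[1,0,0,0,0,0,0],[1,0,0,0,0,0,0],[4,0,0,0,0,0,0],[2,0,0,0,0,0,0],[6,0,0,0,0,0,0]],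
  [[7,0,0,0,0,0,0],[4,0,0,0,0,0,0],[8,0,0,0,0,0,0],[6,0,0,0,0,0,0],[5,0,0,0,0,0,0],[9,0,0,0,0,0,0],[6,0,0,0,0,0,0]],
  [[1,0,0,0,0,0,0],[10,0,0,0,0,0,0],[1,0,0,0,0,0,0],[1,0,0,0,0,0,0],[8,0,0,0,0,0,0],[6,0,0,0,0,0,0],[4,0,0,0,0,0,0]],
  [[1,0,0,0,0,0,0],[4,0,0,0,0,0,0],[10,0,0,0,0,0,0],[1,0,0,0,0,0,0],[3,0,0,0,0,0,0],[1,0,0,0,0,0,0],[5,0,0,0,0,0,0]],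
  [[9,0,0,0,0,0,0],[3,0,0,0,0,0,0],[7,0,0,0,0,0,0],[6,0,0,0,0,0,0],[2,0,0,0,0,0,0],[2,0,0,0,0,0,0],[6,0,0,0,0,0,0]],
  [[8,0,0,0,0,0,0],[8,0,0,0,0,0,0],[4,0,0,0,0,0,0],[4,0,0,0,0,0,0],[0,0,0,0,0,0,0],[2,0,0,0,0,0,0],[0,0,0,0,0,0,0]],
  [[5,0,0,0,0,0,0],[7,0,0,0,0,0,0],[3,0,0,0,0,0,0],[4,0,0,0,0,0,0],[1,0,0,0,0,0,0],[0,0,0,0,0,0,0],[3,0,0,0,0,0,0]],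
  [[6,0,0,0,0,0,0],[6,0,0,0,0,0,0],[4,0,0,0,0,0,0],[6,0,0,0,0,0,0],[4,0,0,0,0,0,0],[2,0,0,0,0,0,0],[8,0,0,0,0,0,0]],
  [[1,0,0,0,0,0,0],[1,0,0,0,0,0,0],[10,0,0,0,0,0,0],[10,0,0,0,0,0,0],[8,0,0,0,0,0,0],[6,0,0,0,0,0,0],[7,0,0,0,0,0,0]],
  [[6,0,0,0,0,0,0],[5,0,0,0,0,0,0],[4,0,0,0,0,0,0],[6,0,0,0,0,0,0],[2,0,0,0,0,0,0],[7,0,0,0,0,0,0],[3,0,0,0,0,0,0]],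
  [[2,0,0,0,0,0,0],[5,0,0,0,0,0,0],[4,0,0,0,0,0,0],[4,0,0,0,0,0,0],[8,0,0,0,0,0,0],[5,0,0,0,0,0,0],[5,0,0,0,0,0,0]],
  [[5,0,0,0,0,0,0],[7,0,0,0,0,0,0],[10,0,0,0,0,0,0],[10,0,0,0,0,0,0],[1,0,0,0,0,0,0],[10,0,0,0,0,0,0],[8,0,0,0,0,0,0]],
  [[10,0,0,0,0,0,0],[6,0,0,0,0,0,0],[10,0,0,0,0,0,0],[4,0,0,0,0,0,0],[10,0,0,0,0,0,0],[10,0,0,0,0,0,0],[3,0,0,0,0,0,0]],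
  [[0,0,0,0,0,0,0],[8,0,0,0,0,0,0],[6,0,0,0,0,0,0],[7,0,0,0,0,0,0],[3,0,0,0,0,0,0],[7,0,0,0,0,0,0],[1,0,0,0,0,0,0]],
  [[6,0,0,0,0,0,0],[0,0,0,0,0,0,0],[6,0,0,0,0,0,0],[5,0,0,0,0,0,0],[1,0,0,0,0,0,0],[0,0,0,0,0,0,0],[0,0,0,0,0,0,0]],
  [[1,0,0,0,0,0,0],[5,0,0,0,0,0,0],[1,0,0,0,0,0,0],[8,0,0,0,0,0,0],[7,0,0,0,0,0,0],[3,0,0,0,0,0,0],[2,0,0,0,0,0,0]],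
  [[0,0,0,0,0,0,0],[4,0,0,0,0,0,0],[8,0,0,0,0,0,0],[8,0,0,0,0,0,0],[6,0,0,0,0,0,0],[6,0,0,0,0,0,0],[5,0,0,0,0,0,0]],
  [[10,0,0,0,0,0,0],[10,0,0,0,0,0,0],[10,0,0,0,0,0,0],[10,0,0,0,0,0,0],[3,0,0,0,0,0,0],[4,0,0,0,0,0,0],[5,0,0,0,0,0,0]],
  [[5,0,0,0,0,0,0],[5,0,0,0,0,0,0],[4,0,0,0,0,0,0],[9,0,0,0,0,0,0],[8,0,0,0,0,0,0],[7,0,0,0,0,0,0],[5,0,0,0,0,0,0]],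
  [[8,0,0,0,0,0,0],[5,0,0,0,0,0,0],[6,0,0,0,0,0,0],[4,0,0,0,0,0,0],[6,0,0,0,0,0,0],[7,0,0,0,0,0,0],[9,0,0,0,0,0,0]],
  [[6,0,0,0,0,0,0],[10,0,0,0,0,0,0],[0,0,0,0,0,0,0],[0,0,0,0,0,0,0],[5,0,0,0,0,0,0],[0,0,0,0,0,0,0],[5,0,0,0,0,0,0]],
  [[0,0,0,0,0,0,0],[6,0,0,0,0,0,0],[6,0,0,0,0,0,0],[1,0,0,0,0,0,0],[0,0,0,0,0,0,0],[0,0,0,0,0,0,0],[5,0,0,0,0,0,0]],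
  [[0,0,0,0,0,0,0],[5,0,0,0,0,0,0],[0,0,0,0,0,0,0],[6,0,0,0,0,0,0],[5,0,0,0,0,0,0],[10,0,0,0,0,0,0],[0,0,0,0,0,0,0]],
  [[10,0,0,0,0,0,0],[10,0,0,0,0,0,0],[6,0,0,0,0,0,0],[10,0,0,0,0,0,0],[10,0,0,0,0,0,0],[3,0,0,0,0,0,0],[4,0,0,0,0,0,0]],
  [[1,0,0,0,0,0,0],[3,0,0,0,0,0,0],[4,0,0,0,0,0,0],[10,0,0,0,0,0,0],[1,0,0,0,0,0,0],[5,0,0,0,0,0,0],[10,0,0,0,0,0,0]],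
  [[1,0,0,0,0,0,0],[7,0,0,0,0,0,0],[2,0,0,0,0,0,0],[5,0,0,0,0,0,0],[8,0,0,0,0,0,0],[3,0,0,0,0,0,0],[1,0,0,0,0,0,0]],
  [[10,0,0,0,0,0,0],[10,0,0,0,0,0,0],[8,0,0,0,0,0,0],[4,0,0,0,0,0,0],[1,0,0,0,0,0,0],[1,0,0,0,0,0,0],[5,0,0,0,0,0,0]],
  [[5,0,0,0,0,0,0],[8,0,0,0,0,0,0],[8,0,0,0,0,0,0],[1,0,0,0,0,0,0],[10,0,0,0,0,0,0],[4,0,0,0,0,0,0],[9,0,0,0,0,0,0]],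
  [[6,0,0,0,0,0,0],[10,0,0,0,0,0,0],[4,0,0,0,0,0,0],[10,0,0,0,0,0,0],[10,0,0,0,0,0,0],[3,0,0,0,0,0,0],[10,0,0,0,0,0,0]],
  [[0,0,0,0,0,0,0],[3,0,0,0,0,0,0],[8,0,0,0,0,0,0],[4,0,0,0,0,0,0],[7,0,0,0,0,0,0],[0,0,0,0,0,0,0],[9,0,0,0,0,0,0]],
  [[8,0,0,0,0,0,0],[6,0,0,0,0,0,0],[7,0,0,0,0,0,0],[3,0,0,0,0,0,0],[7,0,0,0,0,0,0],[1,0,0,0,0,0,0],[0,0,0,0,0,0,0]],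
  [[3,0,0,0,0,0,0],[5,0,0,0,0,0,0],[6,0,0,0,0,0,0],[4,0,0,0,0,0,0],[5,0,0,0,0,0,0],[4,0,0,0,0,0,0],[9,0,0,0,0,0,0]],
  [[3,0,0,0,0,0,0],[3,0,0,0,0,0,0],[1,0,0,0,0,0,0],[1,0,0,0,0,0,0],[4,0,0,0,0,0,0],[9,0,0,0,0,0,0],[5,0,0,0,0,0,0]],
  [[10,0,0,0,0,0,0],[4,0,0,0,0,0,0],[1,0,0,0,0,0,0],[10,0,0,0,0,0,0],[8,0,0,0,0,0,0],[1,0,0,0,0,0,0],[5,0,0,0,0,0,0]],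
  [[4,0,0,0,0,0,0],[1,0,0,0,0,0,0],[10,0,0,0,0,0,0],[3,0,0,0,0,0,0],[10,0,0,0,0,0,0],[5,0,0,0,0,0,0],[1,0,0,0,0,0,0]],
  [[6,0,0,0,0,0,0],[4,0,0,0,0,0,0],[8,0,0,0,0,0,0],[6,0,0,0,0,0,0],[5,0,0,0,0,0,0],[2,0,0,0,0,0,0],[4,0,0,0,0,0,0]],
  [[5,0,0,0,0,0,0],[1,0,0,0,0,0,0],[8,0,0,0,0,0,0],[7,0,0,0,0,0,0],[3,0,0,0,0,0,0],[2,0,0,0,0,0,0],[1,0,0,0,0,0,0]],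
  [[4,0,0,0,0,0,0],[8,0,0,0,0,0,0],[8,0,0,0,0,0,0],[6,0,0,0,0,0,0],[6,0,0,0,0,0,0],[5,0,0,0,0,0,0],[0,0,0,0,0,0,0]],
  [[10,0,0,0,0,0,0],[10,0,0,0,0,0,0],[10,0,0,0,0,0,0],[3,0,0,0,0,0,0],[4,0,0,0,0,0,0],[5,0,0,0,0,0,0],[10,0,0,0,0,0,0]],
  [[5,0,0,0,0,0,0],[4,0,0,0,0,0,0],[9,0,0,0,0,0,0],[8,0,0,0,0,0,0],[7,0,0,0,0,0,0],[5,0,0,0,0,0,0],[5,0,0,0,0,0,0]],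
  [[5,0,0,0,0,0,0],[6,0,0,0,0,0,0],[4,0,0,0,0,0,0],[6,0,0,0,0,0,0],[7,0,0,0,0,0,0],[9,0,0,0,0,0,0],[8,0,0,0,0,0,0]],
  [[0,0,0,0,0,0,0],[8,0,0,0,0,0,0],[0,0,0,0,0,0,0],[7,0,0,0,0,0,0],[5,0,0,0,0,0,0],[9,0,0,0,0,0,0],[0,0,0,0,0,0,0]],
  [[8,0,0,0,0,0,0],[5,0,0,0,0,0,0],[6,0,0,0,0,0,0],[4,0,0,0,0,0,0],[6,0,0,0,0,0,0],[9,0,0,0,0,0,0],[7,0,0,0,0,0,0]],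
  [[6,0,0,0,0,0,0],[9,0,0,0,0,0,0],[6,0,0,0,0,0,0],[4,0,0,0,0,0,0],[4,0,0,0,0,0,0],[3,0,0,0,0,0,0],[5,0,0,0,0,0,0]]]

def vecs5_2 : List (List (List ℕ)) := [
  [[3,0,0,0,0,0,0],[6,0,0,0,0,0,0],[4,0,0,0,0,0,0],[10,0,0,0,0,0,0],[10,0,0,0,0,0,0],[10,0,0,0,0,0,0],[10,0,0,0,0,0,0]],
  [[7,0,0,0,0,0,0],[2,0,0,0,0,0,0],[8,0,0,0,0,0,0],[5,0,0,0,0,0,0],[6,0,0,0,0,0,0],[7,0,0,0,0,0,0],[5,0,0,0,0,0,0]],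
  [[8,0,0,0,0,0,0],[0,0,0,0,0,0,0],[6,0,0,0,0,0,0],[7,0,0,0,0,0,0],[5,0,0,0,0,0,0],[8,0,0,0,0,0,0],[6,0,0,0,0,0,0]],
  [[4,0,0,0,0,0,0],[0,0,0,0,0,0,0],[0,0,0,0,0,0,0],[8,0,0,0,0,0,0],[4,0,0,0,0,0,0],[2,0,0,0,0,0,0],[8,0,0,0,0,0,0]],
  [[4,0,0,0,0,0,0],[3,0,0,0,0,0,0],[5,0,0,0,0,0,0],[6,0,0,0,0,0,0],[7,0,0,0,0,0,0],[6,0,0,0,0,0,0],[2,0,0,0,0,0,0]],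
  [[9,0,0,0,0,0,0],[1,0,0,0,0,0,0],[7,0,0,0,0,0,0],[10,0,0,0,0,0,0],[7,0,0,0,0,0,0],[2,0,0,0,0,0,0],[10,0,0,0,0,0,0]],
  [[8,0,0,0,0,0,0],[6,0,0,0,0,0,0],[7,0,0,0,0,0,0],[9,0,0,0,0,0,0],[3,0,0,0,0,0,0],[9,0,0,0,0,0,0],[8,0,0,0,0,0,0]],
  [[3,0,0,0,0,0,0],[4,0,0,0,0,0,0],[1,0,0,0,0,0,0],[0,0,0,0,0,0,0],[3,0,0,0,0,0,0],[5,0,0,0,0,0,0],[7,0,0,0,0,0,0]],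
  [[9,0,0,0,0,0,0],[7,0,0,0,0,0,0],[3,0,0,0,0,0,0],[5,0,0,0,0,0,0],[5,0,0,0,0,0,0],[7,0,0,0,0,0,0],[5,0,0,0,0,0,0]],
  [[7,0,0,0,0,0,0],[6,0,0,0,0,0,0],[1,0,0,0,0,0,0],[7,0,0,0,0,0,0],[0,0,0,0,0,0,0],[3,0,0,0,0,0,0],[8,0,0,0,0,0,0]],
  [[0,0,0,0,0,0,0],[8,0,0,0,0,0,0],[9,0,0,0,0,0,0],[4,0,0,0,0,0,0],[0,0,0,0,0,0,0],[7,0,0,0,0,0,0],[3,0,0,0,0,0,0]],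
  [[4,0,0,0,0,0,0],[0,0,0,0,0,0,0],[0,0,0,0,0,0,0],[0,0,0,0,0,0,0],[0,0,0,0,0,0,0],[10,0,0,0,0,0,0],[2,0,0,0,0,0,0]],
  [[6,0,0,0,0,0,0],[5,0,0,0,0,0,0],[2,0,0,0,0,0,0],[6,0,0,0,0,0,0],[4,0,0,0,0,0,0],[7,0,0,0,0,0,0],[3,0,0,0,0,0,0]],
  [[4,0,0,0,0,0,0],[1,0,0,0,0,0,0],[0,0,0,0,0,0,0],[3,0,0,0,0,0,0],[6,0,0,0,0,0,0],[4,0,0,0,0,0,0],[8,0,0,0,0,0,0]],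
  [[4,0,0,0,0,0,0],[9,0,0,0,0,0,0],[8,0,0,0,0,0,0],[6,0,0,0,0,0,0],[6,0,0,0,0,0,0],[7,0,0,0,0,0,0],[5,0,0,0,0,0,0]],
  [[9,0,0,0,0,0,0],[7,0,0,0,0,0,0],[8,0,0,0,0,0,0],[5,0,0,0,0,0,0],[6,0,0,0,0,0,0],[4,0,0,0,0,0,0],[6,0,0,0,0,0,0]],
  [[5,0,0,0,0,0,0],[5,0,0,0,0,0,0],[3,0,0,0,0,0,0],[8,0,0,0,0,0,0],[2,0,0,0,0,0,0],[2,0,0,0,0,0,0],[0,0,0,0,0,0,0]],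
  [[6,0,0,0,0,0,0],[10,0,0,0,0,0,0],[10,0,0,0,0,0,0],[3,0,0,0,0,0,0],[4,0,0,0,0,0,0],[10,0,0,0,0,0,0],[10,0,0,0,0,0,0]],
  [[5,0,0,0,0,0,0],[5,0,0,0,0,0,0],[4,0,0,0,0,0,0],[5,0,0,0,0,0,0],[2,0,0,0,0,0,0],[4,0,0,0,0,0,0],[8,0,0,0,0,0,0]],
  [[6,0,0,0,0,0,0],[0,0,0,0,0,0,0],[7,0,0,0,0,0,0],[3,0,0,0,0,0,0],[3,0,0,0,0,0,0],[5,0,0,0,0,0,0],[5,0,0,0,0,0,0]],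
  [[9,0,0,0,0,0,0],[10,0,0,0,0,0,0],[1,0,0,0,0,0,0],[8,0,0,0,0,0,0],[10,0,0,0,0,0,0],[2,0,0,0,0,0,0],[10,0,0,0,0,0,0]],
  [[6,0,0,0,0,0,0],[2,0,0,0,0,0,0],[2,0,0,0,0,0,0],[8,0,0,0,0,0,0],[4,0,0,0,0,0,0],[3,0,0,0,0,0,0],[8,0,0,0,0,0,0]],
  [[3,0,0,0,0,0,0],[1,0,0,0,0,0,0],[8,0,0,0,0,0,0],[7,0,0,0,0,0,0],[7,0,0,0,0,0,0],[0,0,0,0,0,0,0],[6,0,0,0,0,0,0]],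
  [[7,0,0,0,0,0,0],[1,0,0,0,0,0,0],[1,0,0,0,0,0,0],[8,0,0,0,0,0,0],[6,0,0,0,0,0,0],[1,0,0,0,0,0,0],[1,0,0,0,0,0,0]],
  [[4,0,0,0,0,0,0],[0,0,0,0,0,0,0],[6,0,0,0,0,0,0],[8,0,0,0,0,0,0],[9,0,0,0,0,0,0],[0,0,0,0,0,0,0],[0,0,0,0,0,0,0]],
  [[7,0,0,0,0,0,0],[4,0,0,0,0,0,0],[0,0,0,0,0,0,0],[5,0,0,0,0,0,0],[8,0,0,0,0,0,0],[10,0,0,0,0,0,0],[8,0,0,0,0,0,0]],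
  [[5,0,0,0,0,0,0],[3,0,0,0,0,0,0],[3,0,0,0,0,0,0],[10,0,0,0,0,0,0],[10,0,0,0,0,0,0],[4,0,0,0,0,0,0],[2,0,0,0,0,0,0]],
  [[10,0,0,0,0,0,0],[1,0,0,0,0,0,0],[8,0,0,0,0,0,0],[10,0,0,0,0,0,0],[2,0,0,0,0,0,0],[10,0,0,0,0,0,0],[9,0,0,0,0,0,0]],
  [[0,0,0,0,0,0,0],[8,0,0,0,0,0,0],[6,0,0,0,0,0,0],[6,0,0,0,0,0,0],[7,0,0,0,0,0,0],[8,0,0,0,0,0,0],[5,0,0,0,0,0,0]],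
  [[4,0,0,0,0,0,0],[6,0,0,0,0,0,0],[9,0,0,0,0,0,0],[6,0,0,0,0,0,0],[3,0,0,0,0,0,0],[6,0,0,0,0,0,0],[7,0,0,0,0,0,0]],
  [[5,0,0,0,0,0,0],[6,0,0,0,0,0,0],[2,0,0,0,0,0,0],[6,0,0,0,0,0,0],[7,0,0,0,0,0,0],[7,0,0,0,0,0,0],[8,0,0,0,0,0,0]],
  [[4,0,0,0,0,0,0],[1,0,0,0,0,0,0],[10,0,0,0,0,0,0],[8,0,0,0,0,0,0],[1,0,0,0,0,0,0],[5,0,0,0,0,0,0],[10,0,0,0,0,0,0]],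
  [[0,0,0,0,0,0,0],[1,0,0,0,0,0,0],[2,0,0,0,0,0,0],[4,0,0,0,0,0,0],[0,0,0,0,0,0,0],[0,0,0,0,0,0,0],[0,0,0,0,0,0,0]],
  [[3,0,0,0,0,0,0],[9,0,0,0,0,0,0],[7,0,0,0,0,0,0],[2,0,0,0,0,0,0],[5,0,0,0,0,0,0],[5,0,0,0,0,0,0],[2,0,0,0,0,0,0]],
  [[6,0,0,0,0,0,0],[1,0,0,0,0,0,0],[1,0,0,0,0,0,0],[10,0,0,0,0,0,0],[10,0,0,0,0,0,0],[8,0,0,0,0,0,0],[4,0,0,0,0,0,0]],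
  [[0,0,0,0,0,0,0],[0,0,0,0,0,0,0],[0,0,0,0,0,0,0],[8,0,0,0,0,0,0],[0,0,0,0,0,0,0],[0,0,0,0,0,0,0],[1,0,0,0,0,0,0]],
  [[9,0,0,0,0,0,0],[8,0,0,0,0,0,0],[3,0,0,0,0,0,0],[6,0,0,0,0,0,0],[9,0,0,0,0,0,0],[7,0,0,0,0,0,0],[8,0,0,0,0,0,0]],
  [[8,0,0,0,0,0,0],[6,0,0,0,0,0,0],[5,0,0,0,0,0,0],[4,0,0,0,0,0,0],[8,0,0,0,0,0,0],[6,0,0,0,0,0,0],[0,0,0,0,0,0,0]],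
  [[7,0,0,0,0,0,0],[2,0,0,0,0,0,0],[2,0,0,0,0,0,0],[3,0,0,0,0,0,0],[5,0,0,0,0,0,0],[9,0,0,0,0,0,0],[5,0,0,0,0,0,0]],
  [[1,0,0,0,0,0,0],[1,0,0,0,0,0,0],[8,0,0,0,0,0,0],[1,0,0,0,0,0,0],[7,0,0,0,0,0,0],[1,0,0,0,0,0,0],[6,0,0,0,0,0,0]],
  [[10,0,0,0,0,0,0],[10,0,0,0,0,0,0],[1,0,0,0,0,0,0],[3,0,0,0,0,0,0],[7,0,0,0,0,0,0],[6,0,0,0,0,0,0],[1,0,0,0,0,0,0]],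
  [[2,0,0,0,0,0,0],[3,0,0,0,0,0,0],[10,0,0,0,0,0,0],[4,0,0,0,0,0,0],[5,0,0,0,0,0,0],[3,0,0,0,0,0,0],[10,0,0,0,0,0,0]],
  [[10,0,0,0,0,0,0],[7,0,0,0,0,0,0],[10,0,0,0,0,0,0],[4,0,0,0,0,0,0],[2,0,0,0,0,0,0],[1,0,0,0,0,0,0],[2,0,0,0,0,0,0]],
  [[5,0,0,0,0,0,0],[8,0,0,0,0,0,0],[5,0,0,0,0,0,0],[9,0,0,0,0,0,0],[2,0,0,0,0,0,0],[4,0,0,0,0,0,0],[9,0,0,0,0,0,0]],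
  [[7,0,0,0,0,0,0],[5,0,0,0,0,0,0],[3,0,0,0,0,0,0],[1,0,0,0,0,0,0],[2,0,0,0,0,0,0],[8,0,0,0,0,0,0],[1,0,0,0,0,0,0]],
  [[10,0,0,0,0,0,0],[1,0,0,0,0,0,0],[7,0,0,0,0,0,0],[1,0,0,0,0,0,0],[10,0,0,0,0,0,0],[3,0,0,0,0,0,0],[6,0,0,0,0,0,0]],
  [[10,0,0,0,0,0,0],[0,0,0,0,0,0,0],[6,0,0,0,0,0,0],[8,0,0,0,0,0,0],[5,0,0,0,0,0,0],[10,0,0,0,0,0,0],[2,0,0,0,0,0,0]],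
  [[8,0,0,0,0,0,0],[8,0,0,0,0,0,0],[6,0,0,0,0,0,0],[6,0,0,0,0,0,0],[5,0,0,0,0,0,0],[0,0,0,0,0,0,0],[4,0,0,0,0,0,0]],
  [[8,0,0,0,0,0,0],[9,0,0,0,0,0,0],[7,0,0,0,0,0,0],[6,0,0,0,0,0,0],[5,0,0,0,0,0,0],[9,0,0,0,0,0,0],[9,0,0,0,0,0,0]],
  [[8,0,0,0,0,0,0],[8,0,0,0,0,0,0],[1,0,0,0,0,0,0],[10,0,0,0,0,0,0],[4,0,0,0,0,0,0],[9,0,0,0,0,0,0],[5,0,0,0,0,0,0]]]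

def vecs5_3 : List (List (List ℕ)) := [
  [[6,0,0,0,0,0,0],[9,0,0,0,0,0,0],[8,0,0,0,0,0,0],[2,0,0,0,0,0,0],[4,0,0,0,0,0,0],[9,0,0,0,0,0,0],[6,0,0,0,0,0,0]],
  [[6,0,0,0,0,0,0],[0,0,0,0,0,0,0],[1,0,0,0,0,0,0],[6,0,0,0,0,0,0],[2,0,0,0,0,0,0],[3,0,0,0,0,0,0],[10,0,0,0,0,0,0]],
  [[5,0,0,0,0,0,0],[4,0,0,0,0,0,0],[9,0,0,0,0,0,0],[3,0,0,0,0,0,0],[2,0,0,0,0,0,0],[8,0,0,0,0,0,0],[3,0,0,0,0,0,0]],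
  [[1,0,0,0,0,0,0],[4,0,0,0,0,0,0],[7,0,0,0,0,0,0],[2,0,0,0,0,0,0],[0,0,0,0,0,0,0],[1,0,0,0,0,0,0],[7,0,0,0,0,0,0]],
  [[5,0,0,0,0,0,0],[5,0,0,0,0,0,0],[8,0,0,0,0,0,0],[3,0,0,0,0,0,0],[2,0,0,0,0,0,0],[9,0,0,0,0,0,0],[0,0,0,0,0,0,0]],
  [[10,0,0,0,0,0,0],[10,0,0,0,0,0,0],[3,0,0,0,0,0,0],[4,0,0,0,0,0,0],[5,0,0,0,0,0,0],[10,0,0,0,0,0,0],[10,0,0,0,0,0,0]],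
  [[2,0,0,0,0,0,0],[0,0,0,0,0,0,0],[6,0,0,0,0,0,0],[8,0,0,0,0,0,0],[9,0,0,0,0,0,0],[6,0,0,0,0,0,0],[8,0,0,0,0,0,0]],
  [[1,0,0,0,0,0,0],[3,0,0,0,0,0,0],[7,0,0,0,0,0,0],[3,0,0,0,0,0,0],[2,0,0,0,0,0,0],[10,0,0,0,0,0,0],[6,0,0,0,0,0,0]],
  [[3,0,0,0,0,0,0],[9,0,0,0,0,0,0],[8,0,0,0,0,0,0],[8,0,0,0,0,0,0],[6,0,0,0,0,0,0],[7,0,0,0,0,0,0],[9,0,0,0,0,0,0]],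
  [[10,0,0,0,0,0,0],[10,0,0,0,0,0,0],[3,0,0,0,0,0,0],[7,0,0,0,0,0,0],[6,0,0,0,0,0,0],[10,0,0,0,0,0,0],[1,0,0,0,0,0,0]],
  [[3,0,0,0,0,0,0],[8,0,0,0,0,0,0],[5,0,0,0,0,0,0],[2,0,0,0,0,0,0],[4,0,0,0,0,0,0],[3,0,0,0,0,0,0],[2,0,0,0,0,0,0]],
  [[9,0,0,0,0,0,0],[3,0,0,0,0,0,0],[9,0,0,0,0,0,0],[8,0,0,0,0,0,0],[8,0,0,0,0,0,0],[6,0,0,0,0,0,0],[7,0,0,0,0,0,0]],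
  [[6,0,0,0,0,0,0],[2,0,0,0,0,0,0],[7,0,0,0,0,0,0],[6,0,0,0,0,0,0],[4,0,0,0,0,0,0],[8,0,0,0,0,0,0],[5,0,0,0,0,0,0]],
  [[8,0,0,0,0,0,0],[1,0,0,0,0,0,0],[5,0,0,0,0,0,0],[10,0,0,0,0,0,0],[4,0,0,0,0,0,0],[1,0,0,0,0,0,0],[10,0,0,0,0,0,0]],
  [[4,0,0,0,0,0,0],[6,0,0,0,0,0,0],[6,0,0,0,0,0,0],[2,0,0,0,0,0,0],[2,0,0,0,0,0,0],[8,0,0,0,0,0,0],[9,0,0,0,0,0,0]],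
  [[4,0,0,0,0,0,0],[2,0,0,0,0,0,0],[2,0,0,0,0,0,0],[3,0,0,0,0,0,0],[6,0,0,0,0,0,0],[2,0,0,0,0,0,0],[5,0,0,0,0,0,0]],
  [[3,0,0,0,0,0,0],[6,0,0,0,0,0,0],[2,0,0,0,0,0,0],[9,0,0,0,0,0,0],[7,0,0,0,0,0,0],[2,0,0,0,0,0,0],[6,0,0,0,0,0,0]],
  [[4,0,0,0,0,0,0],[0,0,0,0,0,0,0],[9,0,0,0,0,0,0],[0,0,0,0,0,0,0],[3,0,0,0,0,0,0],[8,0,0,0,0,0,0],[4,0,0,0,0,0,0]],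
  [[10,0,0,0,0,0,0],[7,0,0,0,0,0,0],[1,0,0,0,0,0,0],[10,0,0,0,0,0,0],[8,0,0,0,0,0,0],[5,0,0,0,0,0,0],[10,0,0,0,0,0,0]],
  [[6,0,0,0,0,0,0],[8,0,0,0,0,0,0],[6,0,0,0,0,0,0],[10,0,0,0,0,0,0],[9,0,0,0,0,0,0],[1,0,0,0,0,0,0],[0,0,0,0,0,0,0]],
  [[5,0,0,0,0,0,0],[3,0,0,0,0,0,0],[0,0,0,0,0,0,0],[6,0,0,0,0,0,0],[7,0,0,0,0,0,0],[6,0,0,0,0,0,0],[8,0,0,0,0,0,0]],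
  [[5,0,0,0,0,0,0],[9,0,0,0,0,0,0],[7,0,0,0,0,0,0],[5,0,0,0,0,0,0],[4,0,0,0,0,0,0],[8,0,0,0,0,0,0],[5,0,0,0,0,0,0]],
  [[6,0,0,0,0,0,0],[5,0,0,0,0,0,0],[2,0,0,0,0,0,0],[4,0,0,0,0,0,0],[6,0,0,0,0,0,0],[4,0,0,0,0,0,0],[8,0,0,0,0,0,0]],
  [[2,0,0,0,0,0,0],[4,0,0,0,0,0,0],[2,0,0,0,0,0,0],[5,0,0,0,0,0,0],[6,0,0,0,0,0,0],[2,0,0,0,0,0,0],[8,0,0,0,0,0,0]],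
  [[0,0,0,0,0,0,0],[3,0,0,0,0,0,0],[4,0,0,0,0,0,0],[2,0,0,0,0,0,0],[0,0,0,0,0,0,0],[0,0,0,0,0,0,0],[6,0,0,0,0,0,0]],
  [[10,0,0,0,0,0,0],[10,0,0,0,0,0,0],[10,0,0,0,0,0,0],[2,0,0,0,0,0,0],[9,0,0,0,0,0,0],[4,0,0,0,0,0,0],[4,0,0,0,0,0,0]],
  [[0,0,0,0,0,0,0],[5,0,0,0,0,0,0],[3,0,0,0,0,0,0],[9,0,0,0,0,0,0],[5,0,0,0,0,0,0],[8,0,0,0,0,0,0],[2,0,0,0,0,0,0]],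
  [[0,0,0,0,0,0,0],[3,0,0,0,0,0,0],[2,0,0,0,0,0,0],[4,0,0,0,0,0,0],[0,0,0,0,0,0,0],[7,0,0,0,0,0,0],[3,0,0,0,0,0,0]],
  [[2,0,0,0,0,0,0],[1,0,0,0,0,0,0],[5,0,0,0,0,0,0],[10,0,0,0,0,0,0],[3,0,0,0,0,0,0],[7,0,0,0,0,0,0],[8,0,0,0,0,0,0]],
  [[5,0,0,0,0,0,0],[2,0,0,0,0,0,0],[2,0,0,0,0,0,0],[4,0,0,0,0,0,0],[9,0,0,0,0,0,0],[6,0,0,0,0,0,0],[3,0,0,0,0,0,0]],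
  [[9,0,0,0,0,0,0],[4,0,0,0,0,0,0],[1,0,0,0,0,0,0],[9,0,0,0,0,0,0],[4,0,0,0,0,0,0],[1,0,0,0,0,0,0],[10,0,0,0,0,0,0]],
  [[4,0,0,0,0,0,0],[8,0,0,0,0,0,0],[6,0,0,0,0,0,0],[0,0,0,0,0,0,0],[3,0,0,0,0,0,0],[6,0,0,0,0,0,0],[6,0,0,0,0,0,0]],
  [[9,0,0,0,0,0,0],[6,0,0,0,0,0,0],[8,0,0,0,0,0,0],[5,0,0,0,0,0,0],[9,0,0,0,0,0,0],[9,0,0,0,0,0,0],[7,0,0,0,0,0,0]],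
  [[4,0,0,0,0,0,0],[10,0,0,0,0,0,0],[4,0,0,0,0,0,0],[9,0,0,0,0,0,0],[1,0,0,0,0,0,0],[9,0,0,0,0,0,0],[1,0,0,0,0,0,0]],
  [[0,0,0,0,0,0,0],[10,0,0,0,0,0,0],[9,0,0,0,0,0,0],[4,0,0,0,0,0,0],[0,0,0,0,0,0,0],[0,0,0,0,0,0,0],[0,0,0,0,0,0,0]],
  [[8,0,0,0,0,0,0],[6,0,0,0,0,0,0],[1,0,0,0,0,0,0],[10,0,0,0,0,0,0],[4,0,0,0,0,0,0],[1,0,0,0,0,0,0],[10,0,0,0,0,0,0]],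
  [[9,0,0,0,0,0,0],[1,0,0,0,0,0,0],[1,0,0,0,0,0,0],[9,0,0,0,0,0,0],[1,0,0,0,0,0,0],[10,0,0,0,0,0,0],[3,0,0,0,0,0,0]],
  [[6,0,0,0,0,0,0],[4,0,0,0,0,0,0],[6,0,0,0,0,0,0],[9,0,0,0,0,0,0],[7,0,0,0,0,0,0],[8,0,0,0,0,0,0],[5,0,0,0,0,0,0]],
  [[3,0,0,0,0,0,0],[6,0,0,0,0,0,0],[5,0,0,0,0,0,0],[6,0,0,0,0,0,0],[0,0,0,0,0,0,0],[4,0,0,0,0,0,0],[8,0,0,0,0,0,0]],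
  [[1,0,0,0,0,0,0],[4,0,0,0,0,0,0],[2,0,0,0,0,0,0],[1,0,0,0,0,0,0],[9,0,0,0,0,0,0],[1,0,0,0,0,0,0],[7,0,0,0,0,0,0]],
  [[9,0,0,0,0,0,0],[7,0,0,0,0,0,0],[0,0,0,0,0,0,0],[4,0,0,0,0,0,0],[3,0,0,0,0,0,0],[0,0,0,0,0,0,0],[3,0,0,0,0,0,0]],
  [[0,0,0,0,0,0,0],[3,0,0,0,0,0,0],[8,0,0,0,0,0,0],[4,0,0,0,0,0,0],[5,0,0,0,0,0,0],[1,0,0,0,0,0,0],[4,0,0,0,0,0,0]],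
  [[10,0,0,0,0,0,0],[5,0,0,0,0,0,0],[1,0,0,0,0,0,0],[10,0,0,0,0,0,0],[8,0,0,0,0,0,0],[4,0,0,0,0,0,0],[10,0,0,0,0,0,0]],
  [[9,0,0,0,0,0,0],[4,0,0,0,0,0,0],[0,0,0,0,0,0,0],[4,0,0,0,0,0,0],[8,0,0,0,0,0,0],[0,0,0,0,0,0,0],[3,0,0,0,0,0,0]],
  [[2,0,0,0,0,0,0],[3,0,0,0,0,0,0],[8,0,0,0,0,0,0],[6,0,0,0,0,0,0],[9,0,0,0,0,0,0],[4,0,0,0,0,0,0],[8,0,0,0,0,0,0]],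
  [[3,0,0,0,0,0,0],[4,0,0,0,0,0,0],[6,0,0,0,0,0,0],[9,0,0,0,0,0,0],[9,0,0,0,0,0,0],[5,0,0,0,0,0,0],[9,0,0,0,0,0,0]],
  [[3,0,0,0,0,0,0],[7,0,0,0,0,0,0],[0,0,0,0,0,0,0],[0,0,0,0,0,0,0],[3,0,0,0,0,0,0],[7,0,0,0,0,0,0],[9,0,0,0,0,0,0]],
  [[0,0,0,0,0,0,0],[3,0,0,0,0,0,0],[10,0,0,0,0,0,0],[1,0,0,0,0,0,0],[6,0,0,0,0,0,0],[5,0,0,0,0,0,0],[2,0,0,0,0,0,0]],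
  [[2,0,0,0,0,0,0],[3,0,0,0,0,0,0],[8,0,0,0,0,0,0],[5,0,0,0,0,0,0],[7,0,0,0,0,0,0],[9,0,0,0,0,0,0],[3,0,0,0,0,0,0]],
  [[0,0,0,0,0,0,0],[5,0,0,0,0,0,0],[3,0,0,0,0,0,0],[10,0,0,0,0,0,0],[3,0,0,0,0,0,0],[4,0,0,0,0,0,0],[7,0,0,0,0,0,0]]]

def vecs5_4 : List (List (List ℕ)) := [
  [[5,0,0,0,0,0,0],[6,0,0,0,0,0,0],[3,0,0,0,0,0,0],[3,0,0,0,0,0,0],[9,0,0,0,0,0,0],[9,0,0,0,0,0,0],[0,0,0,0,0,0,0]],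
  [[1,0,0,0,0,0,0],[9,0,0,0,0,0,0],[1,0,0,0,0,0,0],[1,0,0,0,0,0,0],[8,0,0,0,0,0,0],[10,0,0,0,0,0,0],[9,0,0,0,0,0,0]],
  [[6,0,0,0,0,0,0],[5,0,0,0,0,0,0],[6,0,0,0,0,0,0],[4,0,0,0,0,0,0],[9,0,0,0,0,0,0],[8,0,0,0,0,0,0],[4,0,0,0,0,0,0]],
  [[10,0,0,0,0,0,0],[5,0,0,0,0,0,0],[1,0,0,0,0,0,0],[4,0,0,0,0,0,0],[1,0,0,0,0,0,0],[10,0,0,0,0,0,0],[3,0,0,0,0,0,0]],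
  [[5,0,0,0,0,0,0],[10,0,0,0,0,0,0],[7,0,0,0,0,0,0],[0,0,0,0,0,0,0],[8,0,0,0,0,0,0],[8,0,0,0,0,0,0],[4,0,0,0,0,0,0]],
  [[6,0,0,0,0,0,0],[9,0,0,0,0,0,0],[3,0,0,0,0,0,0],[10,0,0,0,0,0,0],[6,0,0,0,0,0,0],[0,0,0,0,0,0,0],[10,0,0,0,0,0,0]],
  [[10,0,0,0,0,0,0],[5,0,0,0,0,0,0],[9,0,0,0,0,0,0],[8,0,0,0,0,0,0],[1,0,0,0,0,0,0],[5,0,0,0,0,0,0],[0,0,0,0,0,0,0]],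
  [[6,0,0,0,0,0,0],[3,0,0,0,0,0,0],[6,0,0,0,0,0,0],[9,0,0,0,0,0,0],[2,0,0,0,0,0,0],[7,0,0,0,0,0,0],[9,0,0,0,0,0,0]],
  [[5,0,0,0,0,0,0],[2,0,0,0,0,0,0],[8,0,0,0,0,0,0],[7,0,0,0,0,0,0],[6,0,0,0,0,0,0],[9,0,0,0,0,0,0],[2,0,0,0,0,0,0]],
  [[5,0,0,0,0,0,0],[9,0,0,0,0,0,0],[4,0,0,0,0,0,0],[6,0,0,0,0,0,0],[4,0,0,0,0,0,0],[3,0,0,0,0,0,0],[5,0,0,0,0,0,0]],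
  [[0,0,0,0,0,0,0],[0,0,0,0,0,0,0],[0,0,0,0,0,0,0],[0,0,0,0,0,0,0],[1,0,0,0,0,0,0],[9,0,0,0,0,0,0],[7,0,0,0,0,0,0]],
  [[1,0,0,0,0,0,0],[3,0,0,0,0,0,0],[9,0,0,0,0,0,0],[2,0,0,0,0,0,0],[10,0,0,0,0,0,0],[1,0,0,0,0,0,0],[1,0,0,0,0,0,0]],
  [[4,0,0,0,0,0,0],[2,0,0,0,0,0,0],[5,0,0,0,0,0,0],[3,0,0,0,0,0,0],[6,0,0,0,0,0,0],[2,0,0,0,0,0,0],[2,0,0,0,0,0,0]],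
  [[0,0,0,0,0,0,0],[6,0,0,0,0,0,0],[5,0,0,0,0,0,0],[10,0,0,0,0,0,0],[0,0,0,0,0,0,0],[0,0,0,0,0,0,0],[5,0,0,0,0,0,0]],
  [[10,0,0,0,0,0,0],[10,0,0,0,0,0,0],[8,0,0,0,0,0,0],[10,0,0,0,0,0,0],[7,0,0,0,0,0,0],[1,0,0,0,0,0,0],[6,0,0,0,0,0,0]],
  [[8,0,0,0,0,0,0],[6,0,0,0,0,0,0],[10,0,0,0,0,0,0],[10,0,0,0,0,0,0],[7,0,0,0,0,0,0],[10,0,0,0,0,0,0],[1,0,0,0,0,0,0]],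
  [[5,0,0,0,0,0,0],[6,0,0,0,0,0,0],[6,0,0,0,0,0,0],[0,0,0,0,0,0,0],[7,0,0,0,0,0,0],[8,0,0,0,0,0,0],[8,0,0,0,0,0,0]],
  [[8,0,0,0,0,0,0],[3,0,0,0,0,0,0],[5,0,0,0,0,0,0],[9,0,0,0,0,0,0],[4,0,0,0,0,0,0],[3,0,0,0,0,0,0],[2,0,0,0,0,0,0]],
  [[7,0,0,0,0,0,0],[2,0,0,0,0,0,0],[6,0,0,0,0,0,0],[5,0,0,0,0,0,0],[9,0,0,0,0,0,0],[8,0,0,0,0,0,0],[2,0,0,0,0,0,0]],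
  [[5,0,0,0,0,0,0],[4,0,0,0,0,0,0],[3,0,0,0,0,0,0],[7,0,0,0,0,0,0],[10,0,0,0,0,0,0],[0,0,0,0,0,0,0],[3,0,0,0,0,0,0]],
  [[2,0,0,0,0,0,0],[0,0,0,0,0,0,0],[0,0,0,0,0,0,0],[10,0,0,0,0,0,0],[4,0,0,0,0,0,0],[0,0,0,0,0,0,0],[0,0,0,0,0,0,0]],
  [[4,0,0,0,0,0,0],[6,0,0,0,0,0,0],[6,0,0,0,0,0,0],[6,0,0,0,0,0,0],[7,0,0,0,0,0,0],[2,0,0,0,0,0,0],[3,0,0,0,0,0,0]],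
  [[1,0,0,0,0,0,0],[3,0,0,0,0,0,0],[10,0,0,0,0,0,0],[9,0,0,0,0,0,0],[1,0,0,0,0,0,0],[2,0,0,0,0,0,0],[10,0,0,0,0,0,0]],
  [[2,0,0,0,0,0,0],[8,0,0,0,0,0,0],[7,0,0,0,0,0,0],[5,0,0,0,0,0,0],[6,0,0,0,0,0,0],[6,0,0,0,0,0,0],[4,0,0,0,0,0,0]],
  [[8,0,0,0,0,0,0],[4,0,0,0,0,0,0],[10,0,0,0,0,0,0],[0,0,0,0,0,0,0],[8,0,0,0,0,0,0],[5,0,0,0,0,0,0],[7,0,0,0,0,0,0]],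
  [[9,0,0,0,0,0,0],[9,0,0,0,0,0,0],[8,0,0,0,0,0,0],[5,0,0,0,0,0,0],[9,0,0,0,0,0,0],[6,0,0,0,0,0,0],[7,0,0,0,0,0,0]],
  [[0,0,0,0,0,0,0],[3,0,0,0,0,0,0],[7,0,0,0,0,0,0],[9,0,0,0,0,0,0],[3,0,0,0,0,0,0],[7,0,0,0,0,0,0],[0,0,0,0,0,0,0]],
  [[6,0,0,0,0,0,0],[6,0,0,0,0,0,0],[4,0,0,0,0,0,0],[8,0,0,0,0,0,0],[6,0,0,0,0,0,0],[0,0,0,0,0,0,0],[3,0,0,0,0,0,0]],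
  [[1,0,0,0,0,0,0],[0,0,0,0,0,0,0],[5,0,0,0,0,0,0],[8,0,0,0,0,0,0],[5,0,0,0,0,0,0],[1,0,0,0,0,0,0],[2,0,0,0,0,0,0]],
  [[5,0,0,0,0,0,0],[2,0,0,0,0,0,0],[9,0,0,0,0,0,0],[4,0,0,0,0,0,0],[2,0,0,0,0,0,0],[5,0,0,0,0,0,0],[8,0,0,0,0,0,0]],
  [[4,0,0,0,0,0,0],[10,0,0,0,0,0,0],[1,0,0,0,0,0,0],[2,0,0,0,0,0,0],[4,0,0,0,0,0,0],[1,0,0,0,0,0,0],[2,0,0,0,0,0,0]],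
  [[9,0,0,0,0,0,0],[10,0,0,0,0,0,0],[1,0,0,0,0,0,0],[7,0,0,0,0,0,0],[0,0,0,0,0,0,0],[7,0,0,0,0,0,0],[7,0,0,0,0,0,0]],
  [[3,0,0,0,0,0,0],[8,0,0,0,0,0,0],[9,0,0,0,0,0,0],[2,0,0,0,0,0,0],[0,0,0,0,0,0,0],[6,0,0,0,0,0,0],[6,0,0,0,0,0,0]],
  [[9,0,0,0,0,0,0],[6,0,0,0,0,0,0],[6,0,0,0,0,0,0],[2,0,0,0,0,0,0],[3,0,0,0,0,0,0],[2,0,0,0,0,0,0],[7,0,0,0,0,0,0]],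
  [[2,0,0,0,0,0,0],[1,0,0,0,0,0,0],[9,0,0,0,0,0,0],[10,0,0,0,0,0,0],[4,0,0,0,0,0,0],[1,0,0,0,0,0,0],[7,0,0,0,0,0,0]],
  [[6,0,0,0,0,0,0],[3,0,0,0,0,0,0],[2,0,0,0,0,0,0],[6,0,0,0,0,0,0],[3,0,0,0,0,0,0],[2,0,0,0,0,0,0],[0,0,0,0,0,0,0]],
  [[1,0,0,0,0,0,0],[10,0,0,0,0,0,0],[4,0,0,0,0,0,0],[0,0,0,0,0,0,0],[4,0,0,0,0,0,0],[4,0,0,0,0,0,0],[2,0,0,0,0,0,0]],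
  [[4,0,0,0,0,0,0],[3,0,0,0,0,0,0],[8,0,0,0,0,0,0],[5,0,0,0,0,0,0],[5,0,0,0,0,0,0],[6,0,0,0,0,0,0],[0,0,0,0,0,0,0]],
  [[9,0,0,0,0,0,0],[9,0,0,0,0,0,0],[5,0,0,0,0,0,0],[3,0,0,0,0,0,0],[7,0,0,0,0,0,0],[6,0,0,0,0,0,0],[9,0,0,0,0,0,0]],
  [[1,0,0,0,0,0,0],[4,0,0,0,0,0,0],[10,0,0,0,0,0,0],[10,0,0,0,0,0,0],[8,0,0,0,0,0,0],[1,0,0,0,0,0,0],[6,0,0,0,0,0,0]],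
  [[0,0,0,0,0,0,0],[4,0,0,0,0,0,0],[8,0,0,0,0,0,0],[0,0,0,0,0,0,0],[8,0,0,0,0,0,0],[2,0,0,0,0,0,0],[4,0,0,0,0,0,0]],
  [[1,0,0,0,0,0,0],[5,0,0,0,0,0,0],[9,0,0,0,0,0,0],[8,0,0,0,0,0,0],[10,0,0,0,0,0,0],[6,0,0,0,0,0,0],[0,0,0,0,0,0,0]],
  [[6,0,0,0,0,0,0],[8,0,0,0,0,0,0],[1,0,0,0,0,0,0],[8,0,0,0,0,0,0],[7,0,0,0,0,0,0],[4,0,0,0,0,0,0],[0,0,0,0,0,0,0]],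
  [[0,0,0,0,0,0,0],[1,0,0,0,0,0,0],[5,0,0,0,0,0,0],[2,0,0,0,0,0,0],[3,0,0,0,0,0,0],[10,0,0,0,0,0,0],[5,0,0,0,0,0,0]],
  [[8,0,0,0,0,0,0],[6,0,0,0,0,0,0],[10,0,0,0,0,0,0],[2,0,0,0,0,0,0],[10,0,0,0,0,0,0],[0,0,0,0,0,0,0],[5,0,0,0,0,0,0]],
  [[5,0,0,0,0,0,0],[10,0,0,0,0,0,0],[9,0,0,0,0,0,0],[1,0,0,0,0,0,0],[0,0,0,0,0,0,0],[5,0,0,0,0,0,0],[8,0,0,0,0,0,0]],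
  [[9,0,0,0,0,0,0],[10,0,0,0,0,0,0],[1,0,0,0,0,0,0],[1,0,0,0,0,0,0],[10,0,0,0,0,0,0],[8,0,0,0,0,0,0],[9,0,0,0,0,0,0]],
  [[3,0,0,0,0,0,0],[8,0,0,0,0,0,0],[6,0,0,0,0,0,0],[9,0,0,0,0,0,0],[9,0,0,0,0,0,0],[8,0,0,0,0,0,0],[7,0,0,0,0,0,0]],
  [[7,0,0,0,0,0,0],[5,0,0,0,0,0,0],[3,0,0,0,0,0,0],[10,0,0,0,0,0,0],[9,0,0,0,0,0,0],[8,0,0,0,0,0,0],[10,0,0,0,0,0,0]],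
  [[2,0,0,0,0,0,0],[0,0,0,0,0,0,0],[7,0,0,0,0,0,0],[0,0,0,0,0,0,0],[0,0,0,0,0,0,0],[1,0,0,0,0,0,0],[0,0,0,0,0,0,0]]]

def vecs5_5 : List (List (List ℕ)) := [
  [[10,0,0,0,0,0,0],[0,0,0,0,0,0,0],[0,0,0,0,0,0,0],[5,0,0,0,0,0,0],[0,0,0,0,0,0,0],[5,0,0,0,0,0,0],[6,0,0,0,0,0,0]],
  [[4,0,0,0,0,0,0],[10,0,0,0,0,0,0],[0,0,0,0,0,0,0],[3,0,0,0,0,0,0],[5,0,0,0,0,0,0],[4,0,0,0,0,0,0],[8,0,0,0,0,0,0]],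
  [[1,0,0,0,0,0,0],[10,0,0,0,0,0,0],[8,0,0,0,0,0,0],[6,0,0,0,0,0,0],[4,0,0,0,0,0,0],[10,0,0,0,0,0,0],[1,0,0,0,0,0,0]],
  [[4,0,0,0,0,0,0],[1,0,0,0,0,0,0],[4,0,0,0,0,0,0],[4,0,0,0,0,0,0],[2,0,0,0,0,0,0],[0,0,0,0,0,0,0],[10,0,0,0,0,0,0]],
  [[1,0,0,0,0,0,0],[9,0,0,0,0,0,0],[7,0,0,0,0,0,0],[1,0,0,0,0,0,0],[9,0,0,0,0,0,0],[4,0,0,0,0,0,0],[10,0,0,0,0,0,0]],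
  [[2,0,0,0,0,0,0],[7,0,0,0,0,0,0],[5,0,0,0,0,0,0],[7,0,0,0,0,0,0],[8,0,0,0,0,0,0],[6,0,0,0,0,0,0],[6,0,0,0,0,0,0]],
  [[9,0,0,0,0,0,0],[4,0,0,0,0,0,0],[6,0,0,0,0,0,0],[5,0,0,0,0,0,0],[9,0,0,0,0,0,0],[2,0,0,0,0,0,0],[3,0,0,0,0,0,0]],
  [[9,0,0,0,0,0,0],[7,0,0,0,0,0,0],[0,0,0,0,0,0,0],[7,0,0,0,0,0,0],[8,0,0,0,0,0,0],[0,0,0,0,0,0,0],[8,0,0,0,0,0,0]],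
  [[1,0,0,0,0,0,0],[4,0,0,0,0,0,0],[0,0,0,0,0,0,0],[0,0,0,0,0,0,0],[9,0,0,0,0,0,0],[0,0,0,0,0,0,0],[0,0,0,0,0,0,0]],
  [[1,0,0,0,0,0,0],[3,0,0,0,0,0,0],[4,0,0,0,0,0,0],[6,0,0,0,0,0,0],[10,0,0,0,0,0,0],[1,0,0,0,0,0,0],[1,0,0,0,0,0,0]],
  [[8,0,0,0,0,0,0],[7,0,0,0,0,0,0],[7,0,0,0,0,0,0],[0,0,0,0,0,0,0],[2,0,0,0,0,0,0],[0,0,0,0,0,0,0],[3,0,0,0,0,0,0]],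
  [[7,0,0,0,0,0,0],[8,0,0,0,0,0,0],[3,0,0,0,0,0,0],[5,0,0,0,0,0,0],[5,0,0,0,0,0,0],[5,0,0,0,0,0,0],[0,0,0,0,0,0,0]],
  [[7,0,0,0,0,0,0],[7,0,0,0,0,0,0],[0,0,0,0,0,0,0],[2,0,0,0,0,0,0],[0,0,0,0,0,0,0],[3,0,0,0,0,0,0],[8,0,0,0,0,0,0]],
  [[6,0,0,0,0,0,0],[9,0,0,0,0,0,0],[4,0,0,0,0,0,0],[5,0,0,0,0,0,0],[4,0,0,0,0,0,0],[8,0,0,0,0,0,0],[6,0,0,0,0,0,0]],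
  [[6,0,0,0,0,0,0],[4,0,0,0,0,0,0],[10,0,0,0,0,0,0],[10,0,0,0,0,0,0],[10,0,0,0,0,0,0],[10,0,0,0,0,0,0],[3,0,0,0,0,0,0]],
  [[8,0,0,0,0,0,0],[4,0,0,0,0,0,0],[4,0,0,0,0,0,0],[0,0,0,0,0,0,0],[5,0,0,0,0,0,0],[3,0,0,0,0,0,0],[1,0,0,0,0,0,0]],
  [[9,0,0,0,0,0,0],[3,0,0,0,0,0,0],[2,0,0,0,0,0,0],[7,0,0,0,0,0,0],[5,0,0,0,0,0,0],[5,0,0,0,0,0,0],[9,0,0,0,0,0,0]]]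

def vecs5 : List (List (List ℕ)) :=
  vecs5_0 ++ vecs5_1 ++ vecs5_2 ++ vecs5_3 ++ vecs5_4 ++ vecs5_5

end Cfsg.Agent.Lib.Recog.Janko
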