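import Mathlib
import Cfsg.Agent.Lib.Recog.JankoBasic
import Cfsg.Agent.Lib.Recog.JankoVectors

/-! The smallest Janko group: order and centralisers of elements of order 5, 7, 11, 19. -/

set_option autoImplicit false
set_option maxRecDepth 100000
-- run the large kernel evaluations one after the other, so that their memory does not add up
set_option Elab.async false

namespace Cfsg.Agent.Lib.Recog.Janko

/-- the group -/
abbrev J : Type := ↥Spor.J1

/-- the matrix of an element -/
abbrev mt (g : J) : Mat := ((g : GL (Fin 7) (ZMod 11)) : Mat)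

attribute [local irreducible] el

theorem mt_injective : Function.Injective mt := fun _ _ h => Subtype.ext (Units.ext h)

theorem mt_mul (a b : J) : mt (a * b) = mt a * mt b := rfl

theorem mt_one : mt 1 = 1 := rfl

theorem mt_pow (a : J) (n : ℕ) : mt (a ^ n) = mt a ^ n := by
  simp [mt]

/-- the element at an index -/
noncomputable def gel (i : Fin 577) : J :=
  ⟨Classical.choose (M_mem i.2), (Classical.choose_spec (M_mem i.2)).1⟩

theorem mt_gel (i : Fin 577) : mt (gel i) = M i := (Classical.choose_spec (M_mem i.2)).2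

/-- order check for a prime -/
theorem orderOf_gel_prime (i : Fin 577) {p : ℕ} (hp : p.Prime) (h1 : powM (el i) p = oneM)
    (h2 : notOne (el i) = true) : orderOf (gel i) = p := by
  have := Fact.mk hp
  refine orderOf_eq_prime (mt_injective ?_) fun e => ne_one_of_notOne h2 ?_
  · rw [mt_pow, mt_gel, mt_one, pow_eq_one_of_check h1]
  · have := congrArg mt e
    rwa [mt_gel, mt_one] at this

theorem orderOf_gel (i : Fin 577) (m : ℕ) (hm : 0 < m) (h1 : powM (el i) m = oneM)
    (h2 : (List.range m).all (fun j => decide (j = 0) || notOne (powM (el i) j)) = true) :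
    orderOf (gel i) = m := by
  rw [orderOf_eq_iff hm]
  refine ⟨mt_injective (by rw [mt_pow, mt_gel, mt_one, pow_eq_one_of_check h1]), fun j hj hj0 e => ?_⟩
  have hj' := List.all_eq_true.1 h2 j (List.mem_range.2 hj)
  simp only [Bool.or_eq_true, decide_eq_true_eq, Nat.pos_iff_ne_zero.1 hj0, false_or] at hj'
  apply ne_one_of_notOne hj'
  rw [toM_powM]
  have := congrArg mt e
  rwa [mt_pow, mt_gel, mt_one] at this

theorem gel_comm {i j : Fin 577} (h : mulM (el i) (el j) = mulM (el j) (el i)) :
    gel i * gel j = gel j * gel i := by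
  apply mt_injective
  rw [mt_mul, mt_mul, mt_gel, mt_gel, M, M, ← toM_mulM, ← toM_mulM, h]

/-- the eight elements of an elementary abelian subgroup -/
def eight : List LMat :=
  [oneM, el ixT, el ixU1, mulM (el ixT) (el ixU1), el ixU2, mulM (el ixT) (el ixU2),
    mulM (el ixU1) (el ixU2), mulM (el ixT) (mulM (el ixU1) (el ixU2))]

theorem eight_ok : ((List.range 8).all fun a => (List.range 8).all fun b =>
    (eight.any fun z => mulM (eight.getD a []) (eight.getD b []) == z) &&
      (decide (a = b) || notOne (mulM (eight.getD a []) (eight.getD b []))) &&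
      (decide (a ≠ b) || (mulM (eight.getD a []) (eight.getD b []) == oneM))) = true := by
  decide +kernel

theorem exists_eight : ∃ S : Subgroup J, (∀ x ∈ S, x ^ 2 = 1) ∧ 8 ≤ Nat.card S := by
  classical
  have hok : ∀ a < 8, ∀ b < 8,
      (∃ z ∈ eight, mulM (eight.getD a []) (eight.getD b []) = z) ∧
      (a = b ∨ notOne (mulM (eight.getD a []) (eight.getD b [])) = true) ∧
      (a ≠ b ∨ mulM (eight.getD a []) (eight.getD b []) = oneM) := by
    intro a ha b hb
    have h := List.all_eq_true.1 (List.all_eq_true.1 eight_ok a (List.mem_range.2 ha)) b (List.mem_range.2 hb)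
    simp only [Bool.and_eq_true, Bool.or_eq_true, decide_eq_true_eq, beq_iff_eq, List.any_eq_true] at h
    exact ⟨h.1.1, h.1.2, h.2⟩
  have hidx : ∀ z ∈ eight, ∃ a < 8, eight.getD a [] = z := by
    intro z hz
    obtain ⟨a, ha, he⟩ := List.getElem_of_mem hz
    exact ⟨a, ha, by rw [List.getD_eq_getElem _ _ ha, he]⟩
  have hmem : ∀ a < 8, ∃ g : J, mt g = toM (eight.getD a []) := by
    have e : ∀ i : Fin 577, ∃ g : J, mt g = toM (el i) := fun i => ⟨gel i, mt_gel i⟩
    obtain ⟨t, ht⟩ := e ⟨ixT, by decide +kernel⟩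
    obtain ⟨u, hu⟩ := e ⟨ixU1, by decide +kernel⟩
    obtain ⟨v, hv⟩ := e ⟨ixU2, by decide +kernel⟩
    intro a ha
    interval_cases a
    · exact ⟨1, by simp [eight, toM_oneM, mt_one]⟩
    · exact ⟨t, by simpa [eight] using ht⟩
    · exact ⟨u, by simpa [eight] using hu⟩
    · exact ⟨t * u, by simp [eight, mt_mul, toM_mulM, ht, hu]⟩
    · exact ⟨v, by simpa [eight] using hv⟩
    · exact ⟨t * v, by simp [eight, mt_mul, toM_mulM, ht, hv]⟩
    · exact ⟨u * v, by simp [eight, mt_mul, toM_mulM, hu, hv]⟩
    · exact ⟨t * (u * v), by simp [eight, mt_mul, toM_mulM, ht, hu, hv]⟩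
  let S : Subgroup J :=
    { carrier := {g | ∃ a < 8, mt g = toM (eight.getD a [])}
      one_mem' := ⟨0, by norm_num, by rw [mt_one, show eight.getD 0 [] = oneM from rfl, toM_oneM]⟩
      mul_mem' := by
        rintro g h ⟨a, ha, hga⟩ ⟨b, hb, hhb⟩
        obtain ⟨z, hz, hzz⟩ := (hok a ha b hb).1
        obtain ⟨c, hc, rfl⟩ := hidx z hz
        exact ⟨c, hc, by rw [mt_mul, hga, hhb, ← toM_mulM, hzz]⟩
      inv_mem' := by
        rintro g ⟨a, ha, hga⟩
        refine ⟨a, ha, ?_⟩
        have h1 : g * g = 1 := mt_injective (by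
          rw [mt_mul, hga, ← toM_mulM, ((hok a ha a ha).2.2).resolve_left (fun h => h rfl), toM_oneM, mt_one])
        rw [inv_eq_of_mul_eq_one_right h1, hga] }
  refine ⟨S, ?_, ?_⟩
  · rintro g ⟨a, ha, hga⟩
    apply mt_injective
    rw [pow_two, mt_mul, hga, ← toM_mulM, ((hok a ha a ha).2.2).resolve_left (fun h => h rfl), toM_oneM, mt_one]
  · choose f hf using hmem
    let φ : Fin 8 → S := fun a => ⟨f a a.2, a, a.2, hf a a.2⟩
    have hφ : Function.Injective φ := by
      intro a b hab
      by_contra hne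
      have h1 := ((hok a a.2 b b.2).2.1).resolve_left (fun h => hne (Fin.ext h))
      apply ne_one_of_notOne h1
      have h2 : mt (f a a.2) = mt (f b b.2) := congrArg (fun x : S => mt (x : J)) hab
      rw [hf, hf] at h2
      rw [toM_mulM, h2, ← toM_mulM, ((hok b b.2 b b.2).2.2).resolve_left (fun h => h rfl), toM_oneM]
    simpa using Nat.card_le_card_of_injective φ hφ

theorem card_J : Nat.card J = 175560 := by
  refine le_antisymm card_le (Nat.le_of_dvd Nat.card_pos ?_)
  have key : ∀ (i : Fin 577) (p : ℕ), p.Prime → powM (el i) p = oneM → notOne (el i) = true → p ∣ Nat.card J :=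
    fun i p hp h1 h2 => by
      have h := orderOf_dvd_natCard (gel i)
      rwa [orderOf_gel_prime i hp h1 h2] at h
  have h3 : 3 ∣ Nat.card J := key ⟨ixS5, by decide +kernel⟩ 3 (by norm_num) (by decide +kernel) (by decide +kernel)
  have h5 : 5 ∣ Nat.card J := key 2 5 (by norm_num) (by decide +kernel) (by decide +kernel)
  have h7 : 7 ∣ Nat.card J := key 1 7 (by norm_num) (by decide +kernel) (by decide +kernel)
  have h11 : 11 ∣ Nat.card J := key ⟨ixC, by decide +kernel⟩ 11 (by norm_num) (by decide +kernel) (by decide +kernel)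
  have h19 : 19 ∣ Nat.card J := key ⟨gen19, by decide +kernel⟩ 19 (by norm_num) (by decide +kernel) (by decide +kernel)
  obtain ⟨S, hS, hS8⟩ := exists_eight
  have hP : IsPGroup 2 S := fun x => ⟨1, by
    apply Subtype.ext; simpa using hS x x.2⟩
  obtain ⟨n, hn⟩ := (IsPGroup.iff_card (p := 2)).1 hP
  have h8 : 8 ∣ Nat.card J := by
    refine dvd_trans ?_ (Subgroup.card_subgroup_dvd_card S)
    have : 3 ≤ n := by
      by_contra hlt
      have : 2 ^ n ≤ 2 ^ 2 := Nat.pow_le_pow_right (by norm_num) (by omega)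
      omega
    rw [hn, show (8 : ℕ) = 2 ^ 3 by norm_num]
    exact pow_dvd_pow 2 this
  have hall := Nat.Coprime.mul_dvd_of_dvd_of_dvd (by norm_num : Nat.Coprime (8 * 3 * 5 * 7 * 11) 19)
    (Nat.Coprime.mul_dvd_of_dvd_of_dvd (by norm_num : Nat.Coprime (8 * 3 * 5 * 7) 11)
      (Nat.Coprime.mul_dvd_of_dvd_of_dvd (by norm_num : Nat.Coprime (8 * 3 * 5) 7)
        (Nat.Coprime.mul_dvd_of_dvd_of_dvd (by norm_num : Nat.Coprime (8 * 3) 5)
          (Nat.Coprime.mul_dvd_of_dvd_of_dvd (by norm_num : Nat.Coprime 8 3) h8 h3) h5) h7) h11) h19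
  simpa using hall

/-- addition of matrices in the list encoding -/
def addM (A B : LMat) : LMat :=
  (List.range 7).map fun i => (List.range 7).map fun j => ((A.getD i []).getD j 0 + (B.getD i []).getD j 0) % 11

theorem toM_addM (A B : LMat) : toM (addM A B) = toM A + toM B := by
  ext i j
  have hi : (i : ℕ) < 7 := i.2
  have hj : (j : ℕ) < 7 := j.2
  have h : ∀ a b : ℕ, (((a + b) % 11 : ℕ) : ZMod 11) = (a : ZMod 11) + (b : ZMod 11) := fun a b => by
    rw [ZMod.natCast_mod, Nat.cast_add]
  simp [toM, addM, List.getD_eq_getElem?_getD, List.getElem?_map, List.getElem?_range hi,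
    List.getElem?_range hj, h]

/-- a matrix with one column -/
def colM (v : List ℕ) : LMat := v.map fun x => [x, 0, 0, 0, 0, 0, 0]

/-- a matrix with one row -/
def rowM (w : List ℕ) : LMat := w :: List.replicate 6 [0, 0, 0, 0, 0, 0, 0]

/-- two columns are independent -/
def indep (U W : LMat) : Bool :=
  (List.range 7).any fun a => (List.range 7).any fun b =>
    ((U.getD a []).getD 0 0 * (W.getD b []).getD 0 0) % 11 != ((U.getD b []).getD 0 0 * (W.getD a []).getD 0 0) % 11

/-- pairwise check -/
def pairwiseB : List LMat → Bool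
  | [] => true
  | u :: l => l.all (indep u) && pairwiseB l

theorem pairwise_of_pairwiseB : ∀ l : List LMat, pairwiseB l = true → l.Pairwise (fun u w => indep u w = true)
  | [], _ => List.Pairwise.nil
  | u :: l, h => by
    simp only [pairwiseB, Bool.and_eq_true, List.all_eq_true] at h
    exact List.Pairwise.cons h.1 (pairwise_of_pairwiseB l h.2)

theorem not_prop_of_indep {U W : LMat} (h : indep U W = true) (l : ZMod 11)
    (he : ∀ a : Fin 7, toM W a 0 = l * toM U a 0) : False := by
  simp only [indep, List.any_eq_true, List.mem_range, bne_iff_ne, ne_eq] at h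
  obtain ⟨a, ha, b, hb, hne⟩ := h
  apply hne
  have h1 := he ⟨a, ha⟩
  have h2 := he ⟨b, hb⟩
  simp only [toM, Matrix.of_apply, Fin.val_zero] at h1 h2
  refine (ZMod.natCast_eq_natCast_iff' _ _ 11).1 ?_
  push_cast
  rw [h1, h2]
  ring

/-- the certificate for a prime -/
def certOK (q f k bound quo x y : ℕ) (v w : List ℕ) (L : LMat) (gs : List ℕ) (vs : List LMat) : Bool :=
  (powM (el x) q == oneM) && notOne (el x) &&
  (mulM (el y) (el x) == mulM (powM (el x) k) (el y)) &&
  (k ^ f % q == 1) && ((List.range f).all fun j => decide (j = 0) || (k ^ j % q != 1)) &&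
  (mulM (el x) (colM v) == colM v) &&
  (addM (mulM L (el x)) (mulM (colM v) (rowM w)) == addM oneM L) &&
  (gs.all fun g => decide (g < 577)) && (gs.map (fun g => mulM (el g) (colM v)) == vs) && pairwiseB vs &&
  decide (bound ≤ gs.length) && decide (x < 577) && decide (y < 577) &&
  ((List.range (quo + 1)).all fun i => decide (i < bound) || decide (quo % i ≠ 0) || decide (i % q ≠ 1) || decide (i = quo))

/-- the coercion lemma -/
theorem dvd_centralizer_gel (i : Fin 577) {p : ℕ} (hp : p.Prime) (h1 : powM (el i) p = oneM)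
    (h2 : notOne (el i) = true) : p ∣ Nat.card (Subgroup.centralizer ({gel i} : Set J)) := by
  have h := orderOf_dvd_natCard (⟨gel i, Subgroup.mem_centralizer_singleton_iff.2 rfl⟩ :
    Subgroup.centralizer ({gel i} : Set J))
  rwa [Subgroup.orderOf_mk, orderOf_gel_prime i hp h1 h2] at h

theorem card_centralizer_of_cert {q f k bound quo c0 x y : ℕ} {v w : List ℕ} {L : LMat} {gs : List ℕ}
    {vs : List LMat} (hq : q.Prime) (hq2 : ¬ q ^ 2 ∣ 175560) (hmul : c0 * f * quo = 175560)
    (h : certOK q f k bound quo x y v w L gs vs = true) (hx : x < 577)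
    (hc0 : c0 ∣ Nat.card (Subgroup.centralizer ({gel ⟨x, hx⟩} : Set J))) :
    orderOf (gel ⟨x, hx⟩) = q ∧ Nat.card (Subgroup.centralizer ({gel ⟨x, hx⟩} : Set J)) = c0 ∧
      Nat.card (Subgroup.normalizer (Subgroup.zpowers (gel ⟨x, hx⟩) : Set J)) = c0 * f := by
  simp only [certOK, Bool.and_eq_true, beq_iff_eq, decide_eq_true_eq] at h
  obtain ⟨⟨⟨⟨⟨⟨⟨⟨⟨⟨⟨⟨⟨hpow, hne⟩, hyx⟩, hkf⟩, hkord⟩, hfixv⟩, hL⟩, hgs⟩, hvs⟩, hpair⟩, hlen⟩, -⟩, hy⟩, hlist⟩ := h
  have := Fact.mk hq
  set g := gel ⟨x, hx⟩
  set C := Subgroup.centralizer ({g} : Set J)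
  set N := Subgroup.normalizer (Subgroup.zpowers g : Set J)
  have hord : orderOf g = q := orderOf_gel_prime ⟨x, hx⟩ hq hpow hne
  have hcardQ : Nat.card (Subgroup.zpowers g) = q := by rw [Nat.card_zpowers, hord]
  -- a Sylow subgroup
  have hQp : IsPGroup q (Subgroup.zpowers g) := IsPGroup.of_card (n := 1) (by rw [hcardQ, pow_one])
  obtain ⟨P, hP⟩ := hQp.exists_le_sylow
  have hPQ : (P : Subgroup J) = Subgroup.zpowers g := by
    obtain ⟨n, hn⟩ := (IsPGroup.iff_card (p := q)).1 P.2
    have hn1 : n ≤ 1 := by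
      by_contra hlt
      apply hq2
      rw [← card_J]
      refine dvd_trans ?_ (Subgroup.card_subgroup_dvd_card (P : Subgroup J))
      rw [hn]; exact pow_dvd_pow q (by omega)
    refine (Subgroup.eq_of_le_of_card_ge hP ?_).symm
    rw [hn, hcardQ]
    exact (Nat.pow_le_pow_right hq.pos hn1).trans (le_of_eq (pow_one q))
  have hmod : N.index % q = 1 := by
    have h1 := card_sylow_modEq_one q J
    rw [Sylow.card_eq_index_normalizer P] at h1
    rw [show (Subgroup.normalizer (P : Set J)) = N by rw [← Sylow.coe_coe, hPQ]] at h1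
    rw [Nat.ModEq, Nat.one_mod_eq_one.2 hq.ne_one] at h1
    exact h1
  -- many cosets
  have hbound : bound ≤ N.index := by
    refine hlen.trans ?_
    have hlt : ∀ i : Fin gs.length, gs[i] < 577 := fun i => by
      have := List.all_eq_true.1 hgs _ (List.getElem_mem i.2)
      exact of_decide_eq_true this
    let F : Fin gs.length → J ⧸ N := fun i => ((gel ⟨gs[i], hlt i⟩ : J) : J ⧸ N)
    have hF : Function.Injective F := by
      intro i j hij
      by_contra hne'
      wlog hlt' : i < j generalizing i j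
      · exact this hij.symm (Ne.symm hne') (lt_of_le_of_ne (not_lt.1 hlt') (Ne.symm hne'))
      simp only [F, QuotientGroup.eq] at hij
      set n := (gel ⟨gs[i], hlt i⟩)⁻¹ * gel ⟨gs[j], hlt j⟩
      have hconj : n⁻¹ * g * n ∈ Subgroup.zpowers g :=
        (Subgroup.mem_normalizer_iff''.1 hij g).1 (Subgroup.mem_zpowers g)
      rw [← mem_powers_iff_mem_zpowers] at hconj
      obtain ⟨m, hm⟩ := hconj
      change g ^ m = n⁻¹ * g * n at hm
      have hgn : g * n = n * g ^ m := by rw [hm]; group
      set V := toM (colM v)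
      set W := toM (rowM w)
      have hg : mt g = M x := mt_gel ⟨x, hx⟩
      have hgV : mt g * V = V := by
        rw [hg, M, ← toM_mulM, hfixv]
      have hgmV : ∀ m : ℕ, mt g ^ m * V = V := by
        intro m
        induction m with
        | zero => simp
        | succ m ih => rw [pow_succ, mul_assoc, hgV, ih]
      have hU : mt g * (mt n * V) = mt n * V := by
        rw [← mul_assoc, ← mt_mul, hgn, mt_mul, mul_assoc, mt_pow, hgmV]
      have hid : toM L * M x + V * W = 1 + toM L := by
        have := congrArg toM hL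
        rwa [toM_addM, toM_addM, toM_mulM, toM_mulM, toM_oneM] at this
      have hnV : mt n * V = V * (W * (mt n * V)) := by
        have e := congrArg (· * (mt n * V)) hid
        simp only [add_mul, one_mul, mul_assoc] at e
        rw [← hg, hU, add_comm] at e
        exact (add_right_cancel e).symm
      have hVcol : ∀ a l : Fin 7, l ≠ 0 → V a l = 0 := by
        intro a l hl
        simp only [V, colM, toM, Matrix.of_apply]
        rcases lt_or_ge a.val v.length with h | h
        · rw [List.getD_eq_getElem (v.map fun x => [x, 0, 0, 0, 0, 0, 0]) [] (by simpa using h), List.getElem_map]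
          fin_cases l <;> first | exact absurd rfl hl | rfl
        · rw [List.getD_eq_default (v.map fun x => [x, 0, 0, 0, 0, 0, 0]) [] (by simpa using h)]; simp
      have hi : toM (vs.getD i []) = mt (gel ⟨gs[i], hlt i⟩) * V := by
        rw [← hvs, List.getD_eq_getElem _ _ (by simpa using i.2), List.getElem_map, toM_mulM, mt_gel]; rfl
      have hj : toM (vs.getD j []) = mt (gel ⟨gs[j], hlt j⟩) * V := by
        rw [← hvs, List.getD_eq_getElem _ _ (by simpa using j.2), List.getElem_map, toM_mulM, mt_gel]; rfl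
      have hvlen : vs.length = gs.length := by rw [← hvs]; simp
      have hind : indep (vs.getD i []) (vs.getD j []) = true := by
        have hi2 : (i : ℕ) < vs.length := by rw [hvlen]; exact i.2
        have hj2 : (j : ℕ) < vs.length := by rw [hvlen]; exact j.2
        have hp := (List.pairwise_iff_getElem.1 (pairwise_of_pairwiseB vs hpair)) i j hi2 hj2 hlt'
        rwa [List.getD_eq_getElem _ _ hi2, List.getD_eq_getElem _ _ hj2]
      refine not_prop_of_indep hind ((W * (mt n * V)) 0 0) fun a => ?_
      have e : gel ⟨gs[j], hlt j⟩ = gel ⟨gs[i], hlt i⟩ * n := (mul_inv_cancel_left _ _).symm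
      have key : mt (gel ⟨gs[j], hlt j⟩) * V = mt (gel ⟨gs[i], hlt i⟩) * V * (W * (mt n * V)) := by
        calc mt (gel ⟨gs[j], hlt j⟩) * V = mt (gel ⟨gs[i], hlt i⟩ * n) * V :=
              congrArg (fun z => mt z * V) e
          _ = mt (gel ⟨gs[i], hlt i⟩) * (mt n * V) := by rw [mt_mul, mul_assoc]
          _ = mt (gel ⟨gs[i], hlt i⟩) * (V * (W * (mt n * V))) := congrArg _ hnV
          _ = _ := (mul_assoc _ _ _).symm
      rw [hi, hj, key, Matrix.mul_apply]
      rw [Finset.sum_eq_single (0 : Fin 7)]
      · exact mul_comm _ _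
      · intro l _ hl
        rw [Matrix.mul_apply, Finset.sum_eq_zero fun u _ => by rw [hVcol u l hl, mul_zero], zero_mul]
      · simp
    have := Nat.card_le_card_of_injective F hF
    simpa [Subgroup.index, Nat.card_eq_fintype_card] using this
  -- the image in the automorphisms of the cyclic group
  let ψ := (Subgroup.zpowers g).normalizerMonoidHom
  have hker : ψ.ker = C.subgroupOf N := by
    rw [show C = Subgroup.centralizer (Subgroup.zpowers g : Set J) by
      rw [Subgroup.zpowers_eq_closure, Subgroup.centralizer_closure]]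
    exact Subgroup.normalizerMonoidHom_ker _
  have hCN : C ≤ N := by
    intro a ha
    rw [Subgroup.mem_centralizer_singleton_iff] at ha
    rw [Subgroup.mem_normalizer_iff]
    intro b
    have hb : ∀ b ∈ Subgroup.zpowers g, a * b * a⁻¹ = b := by
      intro b hb
      obtain ⟨m, rfl⟩ := Subgroup.mem_zpowers_iff.1 hb
      rw [((show Commute a g from ha).zpow_right m).eq, mul_inv_cancel_right]
    constructor
    · intro h; rw [hb b h]; exact h
    · intro h
      have := hb _ h
      have e : a * b * a⁻¹ = b := mul_left_cancel (a := a) (mul_right_cancel (b := a⁻¹) this)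
      rwa [e] at h
  set gy := gel ⟨y, hy⟩
  have hyg : gy * g = g ^ k * gy := by
    apply mt_injective
    rw [mt_mul, mt_mul, mt_pow, mt_gel, mt_gel, M, M, ← toM_powM, ← toM_mulM, ← toM_mulM, hyx]
  have hiter : ∀ j : ℕ, gy ^ j * g = g ^ (k ^ j) * gy ^ j := by
    have hp : ∀ m : ℕ, gy * g ^ m = g ^ (k * m) * gy := by
      intro m
      induction m with
      | zero => simp
      | succ m ih => rw [pow_succ, ← mul_assoc, ih, mul_assoc, hyg, ← mul_assoc, ← pow_add]; ring_nf
    intro j
    induction j with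
    | zero => simp
    | succ j ih => rw [pow_succ' gy, mul_assoc, ih, ← mul_assoc, hp, mul_assoc, pow_succ' k]
  have hyN : gy ∈ N := by
    rw [Subgroup.mem_normalizer_iff_map_conj_eq, MonoidHom.map_zpowers]
    have e : ((MulAut.conj gy : J ≃* J) : J →* J) g = g ^ k := by
      show gy * g * gy⁻¹ = g ^ k
      rw [hyg, mul_inv_cancel_right]
    refine Subgroup.eq_of_le_of_card_ge (by rw [e, Subgroup.zpowers_le]; exact Subgroup.npow_mem_zpowers _ _) ?_
    rw [Nat.card_zpowers, Nat.card_zpowers]
    exact le_of_eq (orderOf_injective _ (MulAut.conj gy).injective g).symm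
  have hf0 : 0 < f := by
    rcases Nat.eq_zero_or_pos f with h0 | h0
    · exfalso; rw [h0, mul_zero, zero_mul] at hmul; omega
    · exact h0
  have hordy : orderOf (ψ ⟨gy, hyN⟩) = f := by
    have hiff : ∀ j : ℕ, ψ ⟨gy, hyN⟩ ^ j = 1 ↔ k ^ j % q = 1 := by
      intro j
      rw [← map_pow, ← MonoidHom.mem_ker, hker, Subgroup.mem_subgroupOf, Subgroup.mem_centralizer_singleton_iff]
      rw [SubmonoidClass.coe_pow, hiter]
      constructor
      · intro e
        have e' : g ^ (k ^ j) = g ^ 1 := by rw [pow_one]; exact mul_right_cancel (b := gy ^ j) e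
        rw [pow_eq_pow_iff_modEq, hord, Nat.ModEq, Nat.one_mod_eq_one.2 hq.ne_one] at e'
        exact e'
      · intro e
        have e' : g ^ (k ^ j) = g ^ 1 := by
          rw [pow_eq_pow_iff_modEq, hord, Nat.ModEq, Nat.one_mod_eq_one.2 hq.ne_one]; exact e
        rw [e', pow_one]
    rw [orderOf_eq_iff hf0]
    refine ⟨(hiff f).2 hkf, fun j hj hj0 e => ?_⟩
    have := List.all_eq_true.1 hkord j (List.mem_range.2 hj)
    simp only [Bool.or_eq_true, decide_eq_true_eq, bne_iff_ne, ne_eq, Nat.pos_iff_ne_zero.1 hj0, false_or] at this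
    exact this ((hiff j).1 e)
  have hfe : f ∣ (C.subgroupOf N).index := by
    rw [← hker, Subgroup.index_ker]
    have h1 : orderOf (⟨ψ ⟨gy, hyN⟩, MonoidHom.mem_range.2 ⟨⟨gy, hyN⟩, rfl⟩⟩ : ψ.range) = f :=
      (Subgroup.orderOf_mk _ _).trans hordy
    exact h1 ▸ orderOf_dvd_natCard _
  have hNC : Nat.card C * (C.subgroupOf N).index = Nat.card N := by
    rw [← (C.subgroupOf N).card_mul_index, Nat.card_congr (Subgroup.subgroupOfEquivOfLe hCN).toEquiv]
  obtain ⟨a, ha⟩ := hc0
  obtain ⟨b, hb⟩ := hfe
  have htot := N.card_mul_index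
  rw [card_J, ← hNC, ha, hb, ← hmul] at htot
  have hc0f : 0 < c0 * f := by
    rcases Nat.eq_zero_or_pos (c0 * f) with h0 | h0
    · rw [h0, zero_mul] at hmul; omega
    · exact h0
  have hiq : a * b * N.index = quo := Nat.eq_of_mul_eq_mul_left hc0f (by rw [← htot]; ring)
  have hidx : N.index = quo := by
    have hle : N.index ≤ quo := hiq ▸ Nat.le_mul_of_pos_left _ (Nat.pos_of_ne_zero fun e => by
      rw [e, zero_mul] at hiq; rw [← hiq, mul_zero] at hmul; omega)
    have := List.all_eq_true.1 hlist N.index (List.mem_range.2 (by omega))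
    simp only [Bool.or_eq_true, decide_eq_true_eq] at this
    rcases this with ((h1 | h1) | h1) | h1
    · omega
    · exact absurd (Nat.mod_eq_zero_of_dvd (hiq ▸ dvd_mul_left _ _)) h1
    · exact absurd hmod h1
    · exact h1
  have hab : a * b = 1 := by
    have hq0 : 0 < quo := by
      rcases Nat.eq_zero_or_pos quo with h0 | h0
      · rw [h0, mul_zero] at hmul; omega
      · exact h0
    rw [hidx] at hiq
    exact Nat.eq_of_mul_eq_mul_right hq0 (hiq.trans (one_mul _).symm)
  obtain ⟨rfl, rfl⟩ := mul_eq_one.1 hab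
  exact ⟨hord, by rw [ha, mul_one], by rw [← hNC, ha, hb, mul_one, mul_one]⟩

theorem cert7 : certOK 7 6 exp7 191 4180 gen7 norm7 fixVec7 coVec7 leftInv7 conj7 vecs7 = true := by
  decide +kernel

theorem cert11 : certOK 11 10 exp11 134 1596 gen11 norm11 fixVec11 coVec11 leftInv11 conj11 vecs11 = true := by
  decide +kernel

theorem cert19 : certOK 19 6 exp19 78 1540 gen19 norm19 fixVec19 coVec19 leftInv19 conj19 vecs19 = true := by
  decide +kernel

theorem cert5 : certOK 5 2 exp5 267 2926 gen5 norm5 fixVec5 coVec5 leftInv5 conj5 vecs5 = true := by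
  decide +kernel

theorem dvd_card_centralizer_self (g : J) : orderOf g ∣ Nat.card (Subgroup.centralizer ({g} : Set J)) := by
  rw [← Nat.card_zpowers]
  exact Subgroup.card_dvd_of_le (Subgroup.zpowers_le.2 (Subgroup.mem_centralizer_singleton_iff.2 rfl))

theorem exists_self_centralizing :
    ∀ q ∈ ([7, 11, 19] : List ℕ), ∃ x : J, orderOf x = q ∧ Nat.card (Subgroup.centralizer ({x} : Set J)) = q ∧
      Nat.card (Subgroup.normalizer (Subgroup.zpowers x : Set J)) = q * (if q = 11 then 10 else 6) := by
  intro q hq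
  simp only [List.mem_cons, List.not_mem_nil, or_false] at hq
  rcases hq with rfl | rfl | rfl
  · exact ⟨_, card_centralizer_of_cert (x := gen7) (by norm_num) (by norm_num) (by norm_num) cert7
      (by decide +kernel) (dvd_centralizer_gel _ (by norm_num) (by decide +kernel) (by decide +kernel))⟩
  · exact ⟨_, card_centralizer_of_cert (x := gen11) (by norm_num) (by norm_num) (by norm_num) cert11
      (by decide +kernel) (dvd_centralizer_gel _ (by norm_num) (by decide +kernel) (by decide +kernel))⟩
  · exact ⟨_, card_centralizer_of_cert (x := gen19) (by norm_num) (by norm_num) (by norm_num) cert19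
      (by decide +kernel) (dvd_centralizer_gel _ (by norm_num) (by decide +kernel) (by decide +kernel))⟩

theorem exists_five : ∃ x : J, orderOf x = 5 ∧ Nat.card (Subgroup.centralizer ({x} : Set J)) = 30 ∧
    ¬ IsMulCommutative (Subgroup.centralizer ({x} : Set J)) := by
  let s : Fin 577 := ⟨ixS5, by decide +kernel⟩
  let t : Fin 577 := ⟨ixT5, by decide +kernel⟩
  set g := gel ⟨gen5, by decide +kernel⟩ with hg
  have hs : gel s ∈ Subgroup.centralizer ({g} : Set J) :=
    Subgroup.mem_centralizer_singleton_iff.2 (gel_comm (by decide +kernel))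
  have ht : gel t ∈ Subgroup.centralizer ({g} : Set J) :=
    Subgroup.mem_centralizer_singleton_iff.2 (gel_comm (by decide +kernel))
  have h5 : orderOf g = 5 := orderOf_gel_prime _ (by norm_num) (by decide +kernel) (by decide +kernel)
  have h3 : orderOf (gel s) = 3 := orderOf_gel_prime s (by norm_num) (by decide +kernel) (by decide +kernel)
  have h2 : orderOf (gel t) = 2 := orderOf_gel_prime t (by norm_num) (by decide +kernel) (by decide +kernel)
  have hc : 30 ∣ Nat.card (Subgroup.centralizer ({g} : Set J)) := by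
    have k5 := dvd_card_centralizer_self g
    have k3 := orderOf_dvd_natCard (⟨gel s, hs⟩ : Subgroup.centralizer ({g} : Set J))
    have k2 := orderOf_dvd_natCard (⟨gel t, ht⟩ : Subgroup.centralizer ({g} : Set J))
    rw [Subgroup.orderOf_mk] at k3 k2
    rw [h5] at k5; rw [h3] at k3; rw [h2] at k2
    omega
  obtain ⟨h, h', -⟩ := card_centralizer_of_cert (x := gen5) (by norm_num) (by norm_num) (by norm_num) cert5 (by decide +kernel) hc
  refine ⟨g, h, h', fun hab => ?_⟩
  have e := congrArg (fun z : Subgroup.centralizer ({g} : Set J) => mt (z : J))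
    (hab.is_comm.comm ⟨gel s, hs⟩ ⟨gel t, ht⟩)
  simp only [Subgroup.coe_mul, mt_mul, mt_gel, M, ← toM_mulM] at e
  have hne : ∀ A B : LMat, ((List.range 7).any fun i => (List.range 7).any fun j =>
      (A.getD i []).getD j 0 % 11 != (B.getD i []).getD j 0 % 11) = true → toM A ≠ toM B := by
    intro A B h e
    simp only [List.any_eq_true, List.mem_range, bne_iff_ne, ne_eq] at h
    obtain ⟨i, hi, j, hj, hne⟩ := h
    exact hne ((ZMod.natCast_eq_natCast_iff' _ _ 11).1 (congrFun (congrFun e ⟨i, hi⟩) ⟨j, hj⟩))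
  exact hne _ _ (by decide +kernel) e

end Cfsg.Agent.Lib.Recog.Janko
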