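import Mathlib
import Cfsg.Agent.Lib.Recog.JankoCentral

/-! The element orders and the simplicity of the smallest Janko group. -/

set_option autoImplicit false
set_option maxRecDepth 100000

namespace Cfsg.Agent.Lib.Recog.Janko

theorem not_four (g : J) : orderOf g ≠ 4 := by
  intro h4
  obtain ⟨S, hS, hS8⟩ := exists_eight
  have hP : IsPGroup 2 S := fun x => ⟨1, by apply Subtype.ext; simpa using hS x x.2⟩
  obtain ⟨P, hP0⟩ := hP.exists_le_sylow
  have hPS : (P : Subgroup J) = S := by
    obtain ⟨n, hn⟩ := (IsPGroup.iff_card (p := 2)).1 P.2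
    have hn3 : n ≤ 3 := by
      by_contra hlt
      have h16 : 2 ^ 4 ∣ Nat.card J := by
        refine dvd_trans ?_ (Subgroup.card_subgroup_dvd_card (P : Subgroup J))
        rw [hn]; exact pow_dvd_pow 2 (by omega)
      rw [card_J] at h16
      norm_num at h16
    refine (Subgroup.eq_of_le_of_card_ge hP0 ?_).symm
    rw [hn]
    exact (Nat.pow_le_pow_right (by norm_num) hn3).trans hS8
  have hz : IsPGroup 2 (Subgroup.zpowers g) := IsPGroup.of_card (n := 2) (by rw [Nat.card_zpowers, h4]; norm_num)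
  obtain ⟨Q, hQ⟩ := hz.exists_le_sylow
  obtain ⟨c, rfl⟩ := MulAction.exists_smul_eq J P Q
  have hmem := hQ (Subgroup.mem_zpowers g)
  rw [Sylow.coe_subgroup_smul, hPS] at hmem
  obtain ⟨u, hu, hug⟩ := hmem
  have h2 : g ^ 2 = 1 := by
    have hug' : g = c * u * c⁻¹ := hug.symm
    rw [hug', conj_pow, hS u hu, mul_one, mul_inv_cancel]
  have := Nat.le_of_dvd (by norm_num) (orderOf_dvd_of_pow_eq_one h2)
  omega

theorem exists_conj_centralizes {q : ℕ} (hq : q.Prime) (hq2 : ¬ q ^ 2 ∣ 175560) {x : J} (hx : orderOf x = q)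
    {z : J} (hz : q ∣ orderOf z) :
    ∃ c : J, c * z * c⁻¹ ∈ Subgroup.centralizer ({x} : Set J) := by
  have := Fact.mk hq
  have hsyl : ∀ y : J, orderOf y = q → ∃ P : Sylow q J, (P : Subgroup J) = Subgroup.zpowers y := by
    intro y hy
    have hcard : Nat.card (Subgroup.zpowers y) = q := by rw [Nat.card_zpowers, hy]
    obtain ⟨P, hP⟩ := (IsPGroup.of_card (p := q) (n := 1) (by rw [hcard, pow_one])).exists_le_sylow
    refine ⟨P, ?_⟩
    obtain ⟨n, hn⟩ := (IsPGroup.iff_card (p := q)).1 P.2
    have hn1 : n ≤ 1 := by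
      by_contra hlt
      apply hq2
      rw [← card_J]
      refine dvd_trans ?_ (Subgroup.card_subgroup_dvd_card (P : Subgroup J))
      rw [hn]; exact pow_dvd_pow q (by omega)
    refine (Subgroup.eq_of_le_of_card_ge hP ?_).symm
    rw [hn, hcard]
    exact (Nat.pow_le_pow_right hq.pos hn1).trans (le_of_eq (pow_one q))
  set y := z ^ (orderOf z / q)
  have hy : orderOf y = q := orderOf_pow_orderOf_div (orderOf_pos z).ne' hz
  obtain ⟨P, hP⟩ := hsyl x hx
  obtain ⟨Q, hQ⟩ := hsyl y hy
  obtain ⟨c, hc⟩ := MulAction.exists_smul_eq J Q P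
  refine ⟨c, ?_⟩
  have hmem : x ∈ (P : Subgroup J) := hP ▸ Subgroup.mem_zpowers x
  rw [← hc, Sylow.coe_subgroup_smul, hQ] at hmem
  obtain ⟨u, hu, hux⟩ := hmem
  obtain ⟨m, rfl⟩ := Subgroup.mem_zpowers_iff.1 hu
  rw [Subgroup.mem_centralizer_singleton_iff, ← hux]
  show c * z * c⁻¹ * (c * y ^ m * c⁻¹) = c * y ^ m * c⁻¹ * (c * z * c⁻¹)
  have hcomm : z * y ^ m = y ^ m * z := ((Commute.self_pow z (orderOf z / q)).zpow_right m).eq
  calc c * z * c⁻¹ * (c * y ^ m * c⁻¹) = c * (z * y ^ m) * c⁻¹ := by group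
    _ = c * (y ^ m * z) * c⁻¹ := by rw [hcomm]
    _ = c * y ^ m * c⁻¹ * (c * z * c⁻¹) := by group

theorem orderOf_conj' (c z : J) : orderOf (c * z * c⁻¹) = orderOf z :=
  orderOf_injective (MulAut.conj c).toMonoidHom (MulAut.conj c).injective z

theorem eq_of_dvd_self_centralizing {q : ℕ} (hq : q ∈ ([7, 11, 19] : List ℕ)) {z : J} (hz : q ∣ orderOf z) :
    orderOf z = q := by
  obtain ⟨x, hx, hC, -⟩ := exists_self_centralizing q hq
  have hp : q.Prime := by
    simp only [List.mem_cons, List.not_mem_nil, or_false] at hq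
    rcases hq with rfl | rfl | rfl <;> norm_num
  have hq2 : ¬ q ^ 2 ∣ 175560 := by
    simp only [List.mem_cons, List.not_mem_nil, or_false] at hq
    rcases hq with rfl | rfl | rfl <;> norm_num
  obtain ⟨c, hc⟩ := exists_conj_centralizes hp hq2 hx hz
  have h1 := orderOf_dvd_natCard (⟨_, hc⟩ : Subgroup.centralizer ({x} : Set J))
  rw [Subgroup.orderOf_mk, orderOf_conj', hC] at h1
  exact Nat.dvd_antisymm h1 hz

theorem orderOf_ne_thirty (z : J) : orderOf z ≠ 30 := by
  intro h30
  obtain ⟨x, hx, hC, hna⟩ := exists_five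
  obtain ⟨c, hc⟩ := exists_conj_centralizes (q := 5) (by norm_num) (by norm_num) hx (z := z) (by rw [h30]; norm_num)
  apply hna
  have hcyc : IsCyclic (Subgroup.centralizer ({x} : Set J)) :=
    isCyclic_of_orderOf_eq_card ⟨_, hc⟩ (by rw [Subgroup.orderOf_mk, orderOf_conj', h30, hC])
  exact inferInstance

theorem spectrum : Set.range (orderOf : J → ℕ) = {1, 2, 3, 5, 6, 7, 10, 11, 15, 19} := by
  ext n
  simp only [Set.mem_insert_iff, Set.mem_singleton_iff, Set.mem_range]
  constructor
  · rintro ⟨z, rfl⟩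
    have hd : orderOf z ∣ 175560 := card_J ▸ orderOf_dvd_natCard z
    have hne4 : ¬ 4 ∣ orderOf z := fun h =>
      not_four (z ^ (orderOf z / 4)) (orderOf_pow_orderOf_div (orderOf_pos z).ne' h)
    have hnot : ∀ q ∈ ([7, 11, 19] : List ℕ), q ∣ orderOf z → orderOf z = q := fun q hq h =>
      eq_of_dvd_self_centralizing hq h
    by_cases h7 : 7 ∣ orderOf z
    · rw [hnot 7 (by simp) h7]; norm_num
    by_cases h11 : 11 ∣ orderOf z
    · rw [hnot 11 (by simp) h11]; norm_num
    by_cases h19 : 19 ∣ orderOf z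
    · rw [hnot 19 (by simp) h19]; norm_num
    have h120 : orderOf z ∣ 120 := by
      have c7 : Nat.Coprime (orderOf z) 7 := ((Nat.Prime.coprime_iff_not_dvd (by norm_num)).2 h7).symm
      have c11 : Nat.Coprime (orderOf z) 11 := ((Nat.Prime.coprime_iff_not_dvd (by norm_num)).2 h11).symm
      have c19 : Nat.Coprime (orderOf z) 19 := ((Nat.Prime.coprime_iff_not_dvd (by norm_num)).2 h19).symm
      exact c19.dvd_of_dvd_mul_right (c11.dvd_of_dvd_mul_right (c7.dvd_of_dvd_mul_right
        (by rw [show 120 * 19 * 11 * 7 = 175560 by norm_num]; exact hd)))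
    have h30 := orderOf_ne_thirty z
    have hle := Nat.le_of_dvd (by norm_num) h120
    have hpos := orderOf_pos z
    generalize orderOf z = n at *
    interval_cases n <;> omega
  · intro hn
    rcases hn with rfl | rfl | rfl | rfl | rfl | rfl | rfl | rfl | rfl | rfl
    · exact ⟨1, orderOf_one⟩
    · exact ⟨gel ⟨ixT5, by decide +kernel⟩, orderOf_gel_prime _ (by norm_num) (by decide +kernel) (by decide +kernel)⟩
    · exact ⟨gel ⟨ixS5, by decide +kernel⟩, orderOf_gel_prime _ (by norm_num) (by decide +kernel) (by decide +kernel)⟩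
    · exact ⟨gel 2, orderOf_gel_prime _ (by norm_num) (by decide +kernel) (by decide +kernel)⟩
    · exact ⟨gel ⟨wit6, by decide +kernel⟩, orderOf_gel _ 6 (by norm_num) (by decide +kernel) (by decide +kernel)⟩
    · exact ⟨gel 1, orderOf_gel_prime _ (by norm_num) (by decide +kernel) (by decide +kernel)⟩
    · exact ⟨gel ⟨wit10, by decide +kernel⟩, orderOf_gel _ 10 (by norm_num) (by decide +kernel) (by decide +kernel)⟩
    · exact ⟨gel ⟨ixC, by decide +kernel⟩, orderOf_gel_prime _ (by norm_num) (by decide +kernel) (by decide +kernel)⟩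
    · exact ⟨gel ⟨wit15, by decide +kernel⟩, orderOf_gel _ 15 (by norm_num) (by decide +kernel) (by decide +kernel)⟩
    · exact ⟨gel ⟨gen19, by decide +kernel⟩, orderOf_gel_prime _ (by norm_num) (by decide +kernel) (by decide +kernel)⟩

theorem normal_index_dvd {N : Subgroup J} [N.Normal] {q : ℕ} (hq : q ∈ ([7, 11, 19] : List ℕ))
    (hN : q ∣ Nat.card N) : N.index ∣ (if q = 11 then 10 else 6) := by
  obtain ⟨x, hx, -, hNx⟩ := exists_self_centralizing q hq
  have hp : q.Prime := by
    simp only [List.mem_cons, List.not_mem_nil, or_false] at hq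
    rcases hq with rfl | rfl | rfl <;> norm_num
  have hq2 : ¬ q ^ 2 ∣ 175560 := by
    simp only [List.mem_cons, List.not_mem_nil, or_false] at hq
    rcases hq with rfl | rfl | rfl <;> norm_num
  have := Fact.mk hp
  obtain ⟨P⟩ : Nonempty (Sylow q N) := inferInstance
  have hsup := Sylow.normalizer_sup_eq_top P
  set R := (P : Subgroup N).map N.subtype
  have hcard : Nat.card R = Nat.card (P : Subgroup N) := Subgroup.card_map_of_injective N.subtype_injective
  obtain ⟨n, hn⟩ := (IsPGroup.iff_card (p := q)).1 P.2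
  have hn1 : n = 1 := by
    have h0 : n ≠ 0 := fun e => P.ne_bot_of_dvd_card hN (Subgroup.eq_bot_of_card_eq _ (by rw [hn, e, pow_zero]))
    by_contra hne
    apply hq2
    rw [← card_J]
    refine dvd_trans ?_ (Subgroup.card_subgroup_dvd_card R)
    rw [hcard, hn]
    exact pow_dvd_pow q (by omega)
  rw [hn, hn1, pow_one] at hcard
  -- `R` is conjugate to `⟨x⟩`
  obtain ⟨S₁, hS₁⟩ := (IsPGroup.of_card (p := q) (n := 1) (by rw [hcard, pow_one]) : IsPGroup q R).exists_le_sylow
  obtain ⟨S₂, hS₂⟩ := (IsPGroup.of_card (p := q) (n := 1)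
    (by rw [Nat.card_zpowers, hx, pow_one]) : IsPGroup q (Subgroup.zpowers x)).exists_le_sylow
  have hle : ∀ (T : Sylow q J), Nat.card (T : Subgroup J) ≤ q := by
    intro T
    obtain ⟨m, hm⟩ := (IsPGroup.iff_card (p := q)).1 T.2
    have : m ≤ 1 := by
      by_contra hlt
      apply hq2
      rw [← card_J]
      refine dvd_trans ?_ (Subgroup.card_subgroup_dvd_card (T : Subgroup J))
      rw [hm]; exact pow_dvd_pow q (by omega)
    rw [hm]
    exact (Nat.pow_le_pow_right hp.pos this).trans (le_of_eq (pow_one q))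
  have e1 : R = (S₁ : Subgroup J) := Subgroup.eq_of_le_of_card_ge hS₁ (hcard.symm ▸ hle S₁)
  have e2 : Subgroup.zpowers x = (S₂ : Subgroup J) := Subgroup.eq_of_le_of_card_ge hS₂ (by rw [Nat.card_zpowers, hx]; exact hle S₂)
  have hcardN : Nat.card (Subgroup.normalizer (R : Set J)) = q * (if q = 11 then 10 else 6) := by
    rw [← hNx]
    have h1 := Sylow.card_eq_index_normalizer S₁
    have h2 := Sylow.card_eq_index_normalizer S₂
    rw [← Sylow.coe_coe, ← e1] at h1
    rw [← Sylow.coe_coe, ← e2] at h2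
    have m1 := (Subgroup.normalizer (R : Set J)).card_mul_index
    have m2 := (Subgroup.normalizer (Subgroup.zpowers x : Set J)).card_mul_index
    rw [← h1] at m1
    rw [← h2] at m2
    exact Nat.eq_of_mul_eq_mul_right Nat.card_pos (m1.trans m2.symm)
  -- Frattini
  let f : Subgroup.normalizer (R : Set J) →* J ⧸ N := (QuotientGroup.mk' N).comp (Subgroup.subtype _)
  have hf : Function.Surjective f := by
    intro t
    obtain ⟨g, rfl⟩ := QuotientGroup.mk'_surjective N t
    have : g ∈ Subgroup.normalizer (R : Set J) ⊔ N := hsup ▸ Subgroup.mem_top g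
    obtain ⟨a, ha, b, hb, rfl⟩ := Subgroup.mem_sup_of_normal_right.1 this
    exact ⟨⟨a, ha⟩, (QuotientGroup.eq.2 (by simpa using hb))⟩
  have hdvd : N.index ∣ q * (if q = 11 then 10 else 6) := hcardN ▸ Subgroup.card_dvd_of_surjective f hf
  refine Nat.Coprime.dvd_of_dvd_mul_left ?_ hdvd
  refine ((Nat.Prime.coprime_iff_not_dvd hp).2 fun h => ?_).symm
  apply hq2
  rw [← card_J, ← N.card_mul_index, pow_two]
  exact Nat.mul_dvd_mul hN h

theorem eq_bot_or_top (N : Subgroup J) [N.Normal] : N = ⊥ ∨ N = ⊤ := by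
  by_cases hsome : ∃ q ∈ ([7, 11, 19] : List ℕ), q ∣ Nat.card N
  · right
    obtain ⟨q, hq, hqN⟩ := hsome
    have hi := normal_index_dvd hq hqN
    have hall : ∀ r ∈ ([7, 11, 19] : List ℕ), r ∣ Nat.card N := by
      intro r hr
      have hrp : r.Prime := by
        simp only [List.mem_cons, List.not_mem_nil, or_false] at hr
        rcases hr with rfl | rfl | rfl <;> norm_num
      have hrJ : r ∣ Nat.card N * N.index := by
        rw [N.card_mul_index, card_J]
        simp only [List.mem_cons, List.not_mem_nil, or_false] at hr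
        rcases hr with rfl | rfl | rfl <;> norm_num
      refine (hrp.dvd_mul.1 hrJ).resolve_right fun h => ?_
      have h' := h.trans hi
      simp only [List.mem_cons, List.not_mem_nil, or_false] at hq hr
      rcases hq with rfl | rfl | rfl <;> rcases hr with rfl | rfl | rfl <;> norm_num at h'
    have h7 := normal_index_dvd (q := 7) (by simp) (hall 7 (by simp))
    have h11 := normal_index_dvd (q := 11) (by simp) (hall 11 (by simp))
    norm_num at h7 h11
    have h2 : N.index ∣ 2 := by
      have := Nat.dvd_gcd h7 h11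
      simpa using this
    have hodd : ∀ (i : Fin 577) (p : ℕ), p.Prime → p ≠ 2 → orderOf (gel i) = p → gel i ∈ N := by
      intro i p hp hp2 ho
      rw [← QuotientGroup.eq_one_iff]
      apply orderOf_eq_one_iff.1
      have h1 := (orderOf_dvd_natCard ((gel i : J) : J ⧸ N)).trans h2
      have h3 := ho ▸ orderOf_map_dvd (QuotientGroup.mk' N) (gel i)
      exact Nat.eq_one_of_dvd_coprimes ((Nat.coprime_primes Nat.prime_two hp).2 hp2.symm) h1 h3
    have hX : orderOf (gel 1) = 7 := orderOf_gel_prime _ (by norm_num) (by decide +kernel) (by decide +kernel)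
    have hY : orderOf (gel 2) = 5 := orderOf_gel_prime _ (by norm_num) (by decide +kernel) (by decide +kernel)
    have hmap : Spor.J1 ≤ N.map Spor.J1.subtype := by
      refine (Subgroup.closure_le _).2 ?_
      rintro g (rfl | rfl)
      · exact ⟨gel 1, hodd 1 7 (by norm_num) (by norm_num) hX, Units.ext ((mt_gel 1).trans toM_X)⟩
      · exact ⟨gel 2, hodd 2 5 (by norm_num) (by norm_num) hY, Units.ext ((mt_gel 2).trans toM_Y)⟩
    rw [eq_top_iff]
    intro g _
    obtain ⟨n, hn, he⟩ := hmap g.2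
    rwa [← Subtype.ext he]
  · left
    push Not at hsome
    have hd : Nat.card N ∣ 120 := by
      have c7 := ((Nat.Prime.coprime_iff_not_dvd (by norm_num)).2 (hsome 7 (by simp))).symm
      have c11 := ((Nat.Prime.coprime_iff_not_dvd (by norm_num)).2 (hsome 11 (by simp))).symm
      have c19 := ((Nat.Prime.coprime_iff_not_dvd (by norm_num)).2 (hsome 19 (by simp))).symm
      exact c19.dvd_of_dvd_mul_right (c11.dvd_of_dvd_mul_right (c7.dvd_of_dvd_mul_right
        (by rw [show 120 * 19 * 11 * 7 = Nat.card J by rw [card_J]]; exact Subgroup.card_subgroup_dvd_card N)))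
    have hmod : ∀ q ∈ ([7, 11, 19] : List ℕ), Nat.card N % q = 1 := by
      intro q hq
      obtain ⟨x, hx, hC, -⟩ := exists_self_centralizing q hq
      have hp : q.Prime := by
        simp only [List.mem_cons, List.not_mem_nil, or_false] at hq
        rcases hq with rfl | rfl | rfl <;> norm_num
      have := Fact.mk hp
      letI : MulAction (Subgroup.zpowers x) N :=
        MulAction.compHom N ((MulAut.conjNormal : J →* MulAut N).comp (Subgroup.zpowers x).subtype)
      have hP : IsPGroup q (Subgroup.zpowers x) := IsPGroup.of_card (n := 1) (by rw [Nat.card_zpowers, hx, pow_one])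
      have h := hP.card_modEq_card_fixedPoints N
      have hfix : MulAction.fixedPoints (Subgroup.zpowers x) N = {1} := by
        ext n
        simp only [MulAction.mem_fixedPoints, Set.mem_singleton_iff]
        constructor
        · intro hn
          have e : x * (n : J) * x⁻¹ = n := congrArg Subtype.val (hn ⟨x, Subgroup.mem_zpowers x⟩)
          have hc : (n : J) ∈ Subgroup.centralizer ({x} : Set J) :=
            Subgroup.mem_centralizer_singleton_iff.2 (mul_inv_eq_iff_eq_mul.1 e).symm
          have h1 := orderOf_dvd_natCard (⟨(n : J), hc⟩ : Subgroup.centralizer ({x} : Set J))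
          rw [Subgroup.orderOf_mk, hC, Subgroup.orderOf_coe] at h1
          have h2 := orderOf_dvd_natCard n
          exact orderOf_eq_one_iff.1 (Nat.eq_one_of_dvd_coprimes
            ((Nat.Prime.coprime_iff_not_dvd hp).2 (hsome q hq)) h1 h2)
        · rintro rfl a
          apply Subtype.ext
          show (a : J) * 1 * (a : J)⁻¹ = 1
          simp
      rw [hfix, Nat.card_eq_fintype_card (α := ({1} : Set N))] at h
      simp only [Set.card_singleton] at h
      rw [Nat.ModEq, Nat.one_mod_eq_one.2 hp.ne_one] at h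
      exact h
    have hc : Nat.card N = 1 := by
      have h7 := hmod 7 (by simp)
      have h11 := hmod 11 (by simp)
      have := Nat.le_of_dvd (by norm_num) hd
      have h19 := hmod 19 (by simp)
      omega
    exact Subgroup.eq_bot_of_card_eq _ hc

theorem isJ1 : IsSimpleGroup J ∧ Nat.card J = 175560 := by
  refine ⟨?_, card_J⟩
  have : Nontrivial J := Finite.one_lt_card_iff_nontrivial.1 (by rw [card_J]; norm_num)
  exact ⟨fun N hN => eq_bot_or_top N⟩

theorem lcm_table : (([1, 2, 3, 5, 6, 7, 10, 11, 15, 19] : List ℕ).all fun a =>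
    ([1, 2, 3, 5, 6, 7, 10, 11, 15, 19] : List ℕ).all fun b =>
    ([1, 2, 3, 5, 6, 7, 10, 11, 15, 19] : List ℕ).all fun c =>
    ([1, 2, 3, 5, 6, 7, 10, 11, 15, 19] : List ℕ).all fun d =>
      let n := Nat.lcm a (Nat.lcm b (Nat.lcm c d))
      (43890 % n == 0) && (n != 43890)) = true := by
  decide +kernel

theorem spectrum_four : Set.range (orderOf : J × J × J × J → ℕ) = {n | n ∣ 43890 ∧ n ≠ 43890} := by
  have hmem : ∀ z : J, orderOf z ∈ ([1, 2, 3, 5, 6, 7, 10, 11, 15, 19] : List ℕ) := by
    intro z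
    have : orderOf z ∈ Set.range (orderOf : J → ℕ) := ⟨z, rfl⟩
    rw [spectrum] at this
    simpa using this
  have hget : ∀ m ∈ ([1, 2, 3, 5, 6, 7, 10, 11, 15, 19] : List ℕ), ∃ z : J, orderOf z = m := by
    intro m hm
    have : m ∈ Set.range (orderOf : J → ℕ) := by rw [spectrum]; simpa using hm
    exact this
  ext n
  constructor
  · rintro ⟨⟨a, b, c, d⟩, rfl⟩
    have h := lcm_table
    simp only [List.all_eq_true, Bool.and_eq_true, beq_iff_eq, bne_iff_ne, ne_eq] at h
    have := h _ (hmem a) _ (hmem b) _ (hmem c) _ (hmem d)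
    rw [Set.mem_setOf_eq, Prod.orderOf, Prod.orderOf, Prod.orderOf]
    exact ⟨Nat.dvd_of_mod_eq_zero this.1, this.2⟩
  · rintro ⟨hd, hne⟩
    obtain ⟨c, hc⟩ := hd
    have hc1 : c ≠ 1 := fun e => hne (by rw [hc, e, mul_one])
    obtain ⟨p, hp, c', rfl⟩ := Nat.exists_prime_and_dvd hc1
    have key : ∀ a b u v : ℕ, a ∈ ([1, 2, 3, 5, 6, 7, 10, 11, 15, 19] : List ℕ) → b ∈ ([1, 2, 3, 5, 6, 7, 10, 11, 15, 19] : List ℕ) →
        u ∈ ([1, 2, 3, 5, 6, 7, 10, 11, 15, 19] : List ℕ) → v ∈ ([1, 2, 3, 5, 6, 7, 10, 11, 15, 19] : List ℕ) →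
        p * Nat.lcm a (Nat.lcm b (Nat.lcm u v)) = 43890 → n ∈ Set.range (orderOf : J × J × J × J → ℕ) := by
      intro a b u v ha hb hu hv he
      obtain ⟨za, rfl⟩ := hget a ha
      obtain ⟨zb, rfl⟩ := hget b hb
      obtain ⟨zu, rfl⟩ := hget u hu
      obtain ⟨zv, rfl⟩ := hget v hv
      have hn : n ∣ orderOf ((za, zb, zu, zv) : J × J × J × J) := by
        rw [Prod.orderOf, Prod.orderOf, Prod.orderOf]
        exact ⟨c', Nat.eq_of_mul_eq_mul_left hp.pos (he.trans (hc.trans (by ring)))⟩
      exact ⟨_, orderOf_pow_orderOf_div (orderOf_pos _).ne' hn⟩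
    have hp' : p ∣ 2 * (3 * (5 * (7 * (11 * 19)))) :=
      ⟨n * c', by rw [show 2 * (3 * (5 * (7 * (11 * 19)))) = 43890 by norm_num, hc]; ring⟩
    simp only [hp.dvd_mul, Nat.prime_dvd_prime_iff_eq hp (show Nat.Prime 2 by norm_num),
      Nat.prime_dvd_prime_iff_eq hp (show Nat.Prime 3 by norm_num), Nat.prime_dvd_prime_iff_eq hp (show Nat.Prime 5 by norm_num),
      Nat.prime_dvd_prime_iff_eq hp (show Nat.Prime 7 by norm_num), Nat.prime_dvd_prime_iff_eq hp (show Nat.Prime 11 by norm_num),
      Nat.prime_dvd_prime_iff_eq hp (show Nat.Prime 19 by norm_num)] at hp'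
    rcases hp' with rfl | rfl | rfl | rfl | rfl | rfl
    · exact key 15 7 11 19 (by simp) (by simp) (by simp) (by simp) (by decide +kernel)
    · exact key 10 7 11 19 (by simp) (by simp) (by simp) (by simp) (by decide +kernel)
    · exact key 6 7 11 19 (by simp) (by simp) (by simp) (by simp) (by decide +kernel)
    · exact key 6 5 11 19 (by simp) (by simp) (by simp) (by simp) (by decide +kernel)
    · exact key 6 5 7 19 (by simp) (by simp) (by simp) (by simp) (by decide +kernel)
    · exact key 6 5 7 11 (by simp) (by simp) (by simp) (by simp) (by decide +kernel)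

end Cfsg.Agent.Lib.Recog.Janko
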