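import Cfsg.Agent.Lib.Recog.ClassDegree
import Cfsg.Agent.Lib.Classical.OrthTorsionExist
import Cfsg.Agent.Lib.Classical.QuadOmega.Simple
import Cfsg.Agent.Lib.Classical.QuadOmega.Disc
import Cfsg.Agent.Lib.Classical.QuadOmega.Std
import Cfsg.Agent.Lib.GLTorus

/-! Element orders that are products of two primes in `Ω(2n+1, q)`, `q` odd. -/

set_option autoImplicit false

namespace Cfsg.Agent.Lib.Recog.OddOrthPrimeGraph

open Polynomial QuadraticMap
open Cfsg.Agent.Lib.Classical.Quad Cfsg.Agent.Lib.Classical.QuadOmega Cfsg.Agent.Lib.Classical.OrthTorsion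
open Cfsg.Agent.Lib.Classical.QuadF2 Cfsg.Agent.Lib.AutOmega
open Cfsg.Agent.Lib.Recog.SympPrimeGraph

universe u v w

variable {F : Type u} [Field F]

section Isometry

variable {V : Type v} [AddCommGroup V] [Module F V] {W : Type w} [AddCommGroup W] [Module F W]
  {Q : QuadraticForm F V} {R : QuadraticForm F W}

/-- Transport of isometries. -/
noncomputable def isoConj (e : V ≃ₗ[F] W) (he : ∀ v, R (e v) = Q v) : isoG Q →* isoG R where
  toFun g := ⟨conjAut e g.1, mem_conjAut e he g.2⟩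
  map_one' := Subtype.ext (map_one _)
  map_mul' g h := Subtype.ext (map_mul _ _ _)

theorem isoConj_apply (e : V ≃ₗ[F] W) (he : ∀ v, R (e v) = Q v) (g : isoG Q) (w : W) :
    (isoConj e he g).1 w = e (g.1 (e.symm w)) := rfl

theorem isoConj_negOne (e : V ≃ₗ[F] W) (he : ∀ v, R (e v) = Q v) :
    isoConj e he (negOne Q) = negOne R := iso_ext fun w => by
  rw [isoConj_apply, negOne_apply, negOne_apply, map_neg, e.apply_symm_apply]

theorem negOne_mem_map (e : V ≃ₗ[F] W) (he : ∀ v, R (e v) = Q v) (h : negOne Q ∈ commutator (isoG Q)) :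
    negOne R ∈ commutator (isoG R) :=
  isoConj_negOne e he ▸ map_commutator_le (isoConj e he) ⟨_, h, rfl⟩

theorem prodHom_injective (Q : QuadraticForm F V) (R : QuadraticForm F W) :
    Function.Injective (prodHom Q R) := by
  intro a b h
  refine Prod.ext (iso_ext fun v => ?_) (iso_ext fun w => ?_)
  · exact congrArg Prod.fst (congrArg (fun g : isoG (Q.prod R) => g.1 (v, 0)) h)
  · exact congrArg Prod.snd (congrArg (fun g : isoG (Q.prod R) => g.1 (0, w)) h)

/-- The restriction of an isometry to an invariant subspace. -/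
noncomputable def restr (S : Submodule F V) (h : isoG Q) (hh : ∀ v ∈ S, h.1 v ∈ S)
    (hh' : ∀ v ∈ S, (h⁻¹).1 v ∈ S) : isoG (Q.comp S.subtype) :=
  ⟨LinearEquiv.ofLinear (h.1.toLinearMap.restrict hh) ((h⁻¹).1.toLinearMap.restrict hh')
    (LinearMap.ext fun v => Subtype.ext (h.1.apply_symm_apply v.1))
    (LinearMap.ext fun v => Subtype.ext (h.1.symm_apply_apply v.1)), fun v => h.2 v.1⟩

theorem restr_apply (S : Submodule F V) (h : isoG Q) (hh : ∀ v ∈ S, h.1 v ∈ S) (hh' : ∀ v ∈ S, (h⁻¹).1 v ∈ S)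
    (v : S) : ((restr S h hh hh').1 v : V) = h.1 v := rfl

theorem restr_pow (S : Submodule F V) (h : isoG Q) (hh : ∀ v ∈ S, h.1 v ∈ S) (hh' : ∀ v ∈ S, (h⁻¹).1 v ∈ S)
    (m : ℕ) (v : S) : (((restr S h hh hh') ^ m).1 v : V) = (h ^ m).1 v := by
  induction m generalizing v with
  | zero => rfl
  | succ m ih => rw [pow_succ, pow_succ, Subgroup.coe_mul, LinearEquiv.mul_apply, ih, restr_apply]; rfl

/-- The determinant on the isometry group. -/
noncomputable def detHom (Q : QuadraticForm F V) : isoG Q →* Fˣ :=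
  (LinearEquiv.det : (V ≃ₗ[F] V) →* Fˣ).comp (isoG Q).subtype

theorem det_of_commutator {g : isoG Q} (hg : g ∈ commutator (isoG Q)) :
    LinearMap.det g.1.toLinearMap = 1 := by
  have := congrArg Units.val (Abelianization.commutator_subset_ker (detHom Q) hg : detHom Q g = 1)
  simpa [detHom, LinearEquiv.coe_det] using this

variable {ι : Type} [Fintype ι] [DecidableEq ι]

/-- Matrices with respect to a basis. -/
noncomputable def mat (b : Module.Basis ι F V) (Q : QuadraticForm F V) : isoG Q →* GL ι F :=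
  MonoidHom.toHomUnits
    { toFun := fun g => LinearMap.toMatrixAlgEquiv b g.1.toLinearMap
      map_one' := map_one (LinearMap.toMatrixAlgEquiv b)
      map_mul' := fun g h => map_mul (LinearMap.toMatrixAlgEquiv b) _ _ }

theorem mat_val (b : Module.Basis ι F V) (g : isoG Q) :
    (mat b Q g : Matrix ι ι F) = LinearMap.toMatrix b b g.1.toLinearMap := rfl

theorem mat_injective (b : Module.Basis ι F V) : Function.Injective (mat b Q) := fun g h e =>
  Subtype.ext (LinearEquiv.toLinearMap_injective ((LinearMap.toMatrix b b).injective (congrArg Units.val e)))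

theorem gram (b : Module.Basis ι F V) (hQ : Nd Q) (g : isoG Q) :
    (LinearMap.toMatrix₂ b b (polarBilin Q)).det ≠ 0 ∧
    (mat b Q g : Matrix ι ι F).transpose * LinearMap.toMatrix₂ b b (polarBilin Q) * (mat b Q g : Matrix ι ι F) =
      LinearMap.toMatrix₂ b b (polarBilin Q) := by
  refine ⟨(LinearMap.separatingLeft_iff_det_ne_zero (B := polarBilin Q) b).1 fun x hx => hQ x fun y => ?_, ?_⟩
  · simpa using hx y
  · rw [mat_val, ← LinearMap.toMatrix₂_compl₁₂ b b]
    congr 1
    exact LinearMap.ext fun x => LinearMap.ext fun y => Classical.OrthTorsion.polar_iso g.2 x y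

theorem mat_hinv [Finite F] (b : Module.Basis ι F V) (hQ : Nd Q) (g : isoG Q) :
    aeval (((mat b Q g)⁻¹ : GL ι F) : Matrix ι ι F) (minpoly F (mat b Q g : Matrix ι ι F)) = 0 :=
  ClassDegree.hinv_of_gram _ (gram b hQ g).1 (gram b hQ g).2

/-- In odd dimension an isometry of determinant one has a fixed vector. -/
theorem minpoly_root_one (b : Module.Basis ι F V) (hQ : Nd Q) (h2 : (2 : F) ≠ 0) (g : isoG Q)
    (hodd : Odd (Fintype.card ι)) (hdet : LinearMap.det g.1.toLinearMap = 1) :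
    (X - 1 : F[X]) ∣ minpoly F (mat b Q g : Matrix ι ι F) := by
  obtain ⟨hJ, hg⟩ := gram b hQ g
  set M := (mat b Q g : Matrix ι ι F) with hM
  set J := LinearMap.toMatrix₂ b b (polarBilin Q)
  have hMd : M.det = 1 := by rw [hM, mat_val, LinearMap.det_toMatrix, hdet]
  have e : (M - 1).transpose * J * M = -(J * (M - 1)) := by
    rw [Matrix.transpose_sub, Matrix.transpose_one, Matrix.sub_mul, Matrix.sub_mul, hg, one_mul, Matrix.mul_sub,
      mul_one, neg_sub]
  have h := congrArg Matrix.det e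
  rw [Matrix.det_mul, Matrix.det_mul, Matrix.det_transpose, hMd, mul_one, Matrix.det_neg, hodd.neg_one_pow,
    Matrix.det_mul] at h
  have h0 : (M - 1).det = 0 := by
    have : (2 * J.det) * (M - 1).det = 0 := by linear_combination h
    exact (mul_eq_zero.1 this).resolve_left (mul_ne_zero h2 hJ)
  have h1 : M.charpoly.IsRoot 1 := by
    rw [IsRoot, Matrix.eval_charpoly, map_one, ← neg_sub, Matrix.det_neg, h0, mul_zero]
  rw [← C_1, dvd_iff_isRoot, ← Matrix.minpoly_toLin', ← Module.End.hasEigenvalue_iff_isRoot,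
    Module.End.hasEigenvalue_iff_isRoot_charpoly, Matrix.charpoly_toLin']
  exact h1

/-- A class of an isometry of prime order. -/
theorem class_lin [Fintype F] [FiniteDimensional F V] (hQ : Nd Q) (g : isoG Q) {r : ℕ} (hr : r.Prime)
    (hr2 : r ≠ 2) (hrF : (r : F) ≠ 0) {k η : ℕ}
    (hk : k = orderOf ((Fintype.card F : ℕ) : ZMod r)) (hη : IsEta k η) (hgr : g ^ r = 1) (hg : g ≠ 1) :
    2 * η ≤ Module.finrank F V ∧
      (g.1.toLinearMap.charpoly.eval 1 = 0 → 2 * η + 1 ≤ Module.finrank F V) := by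
  classical
  let b := Module.finBasis F V
  obtain ⟨-, P, hP, hPd, hcop⟩ := ClassDegree.single (mat b Q g) (mat_hinv b hQ g) hr hr2 hrF hk hη
    (by rw [← Units.val_pow_eq_pow_val, ← map_pow, hgr, map_one, Units.val_one])
    (fun h => hg (mat_injective b (by rw [map_one]; exact Units.ext h)))
  have hPc : P ∣ g.1.toLinearMap.charpoly := by
    refine hP.trans ?_
    have := Matrix.minpoly_dvd_charpoly (mat b Q g : Matrix (Fin (Module.finrank F V)) _ F)
    rwa [show (mat b Q g : Matrix (Fin (Module.finrank F V)) _ F).charpoly = g.1.toLinearMap.charpoly from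
      LinearMap.charpoly_toMatrix _ b] at this
  have hc0 := (LinearMap.charpoly_monic g.1.toLinearMap).ne_zero
  refine ⟨hPd.trans ((natDegree_le_of_dvd hPc hc0).trans_eq (LinearMap.charpoly_natDegree _)), fun h1 => ?_⟩
  have hX : (X - 1 : F[X]) ∣ g.1.toLinearMap.charpoly := by rw [← C_1]; exact dvd_iff_isRoot.2 h1
  have h3 := natDegree_le_of_dvd (hcop.mul_dvd hPc hX) hc0
  rw [LinearMap.charpoly_natDegree, natDegree_mul (ne_zero_of_dvd_ne_zero hc0 hPc)
    (ne_zero_of_dvd_ne_zero hc0 hX), show (X - 1 : F[X]).natDegree = 1 by rw [← C_1]; exact natDegree_X_sub_C 1] at h3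
  omega

end Isometry

variable [Fintype F] (p : ℕ) [Fact p.Prime] [CharP F p]

theorem nd_oddQ (h2 : (2 : F) ≠ 0) (n : ℕ) : Nd (oddQ n F) :=
  nd_map (eOdd n) (fun v => by rw [oddQ_apply, odd_apply]) (nd_splitQ (nd_sqQ h2) n)

theorem finrank_odd (n : ℕ) : Module.finrank F (Unit ⊕ (Fin n ⊕ Fin n) → F) = 2 * n + 1 := by
  simp [Module.finrank_pi]; omega

/-- The simple group and the commutator subgroup of the isometry group have the same element orders. -/
theorem range_iff (h2 : (2 : F) ≠ 0) {n : ℕ} (hn : 2 ≤ n) (L : ℕ) :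
    L ∈ Set.range (orderOf : Cfsg.POmega F (Cfsg.quadFormOdd n F) → ℕ) ↔
      ∃ g : isoG (oddQ n F), g ∈ commutator (isoG (oddQ n F)) ∧ orderOf g = L := by
  classical
  have hG : Good (oddQ n F) := good_of_nd (nd_oddQ h2 n) h2 (by rw [finrank_odd]; omega)
  obtain ⟨E⟩ := exists_pOmegaEquiv (Cfsg.quadFormOdd n F) (LinearEquiv.refl F _) (Q := oddQ n F)
    (fun v => (oddQ_apply n v).symm) hG
  have hm : negOne (oddQ n F) ∉ siegelGroup (oddQ n F) := by
    intro h
    rw [← commutator_eq hG] at h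
    have h1 := det_of_commutator h
    rw [show (negOne (oddQ n F)).1.toLinearMap = (-1 : F) • LinearMap.id from LinearMap.ext fun v => by simp,
      LinearMap.det_smul, LinearMap.det_id, mul_one, finrank_odd, pow_succ, pow_mul] at h1
    simp only [neg_one_sq, one_pow, one_mul] at h1
    exact h2 (by linear_combination -h1)
  have hc := Subgroup.card_eq_one.1 (card_center_odd_notMem hG hm)
  let E' : Cfsg.POmega F (Cfsg.quadFormOdd n F) ≃* siegelGroup (oddQ n F) :=
    E.trans ((QuotientGroup.quotientMulEquivOfEq hc).trans QuotientGroup.quotientBot)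
  rw [commutator_eq hG]
  constructor
  · rintro ⟨x, rfl⟩
    exact ⟨(E' x).1, (E' x).2, by rw [Subgroup.orderOf_coe, MulEquiv.orderOf_eq]⟩
  · rintro ⟨g, hg, rfl⟩
    exact ⟨E'.symm ⟨g, hg⟩, by rw [MulEquiv.orderOf_eq, ← Subgroup.orderOf_coe]⟩

/-! ### Necessary conditions -/

variable {n r : ℕ}

include p in
theorem pair_nec (h2 : (2 : F) ≠ 0) (g : isoG (oddQ n F)) {s : ℕ} (hr : r.Prime) (hs : s.Prime) (hr2 : r ≠ 2)
    (hs2 : s ≠ 2) (hrs : r ≠ s) (hrF : (r : F) ≠ 0) (hsF : (s : F) ≠ 0) (hg : orderOf g = r * s)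
    {k l η θ : ℕ} (hk : k = orderOf ((Fintype.card F : ℕ) : ZMod r)) (hl : l = orderOf ((Fintype.card F : ℕ) : ZMod s))
    (hη : IsEta k η) (hθ : IsEta l θ) :
    η + θ ≤ n ∨ ∃ e, 1 ≤ e ∧ e ≤ n ∧ (r * s ∣ Fintype.card F ^ e + 1 ∨ r * s ∣ Fintype.card F ^ e - 1) := by
  classical
  refine ClassDegree.pair (mat (Pi.basisFun F _) _ g) (mat_hinv _ (nd_oddQ h2 n) g) (by simp; omega) hr hs hr2 hs2
    hrs hrF hsF ?_ hk hl hη hθ
  rw [orderOf_injective _ (mat_injective _), hg]

include p in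
theorem char_nec (h2 : (2 : F) ≠ 0) (g : isoG (oddQ n F)) (hr : r.Prime) (hr2 : r ≠ 2) (hrp : r ≠ p)
    (hrF : (r : F) ≠ 0) (hg : orderOf g = r * p) (hgc : g ∈ commutator (isoG (oddQ n F)))
    {k η : ℕ} (hk : k = orderOf ((Fintype.card F : ℕ) : ZMod r)) (hη : IsEta k η) : η + 1 ≤ n := by
  classical
  have hp := (Fact.out : p.Prime)
  by_contra hlt
  set b := Pi.basisFun F (Unit ⊕ (Fin n ⊕ Fin n))
  set φ := mat b (oddQ n F)
  have hQ := nd_oddQ (F := F) h2 n
  have hs : orderOf (g ^ p) = r := by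
    rw [orderOf_pow' g hp.ne_zero, hg, Nat.gcd_mul_left_left, Nat.mul_div_cancel _ hp.pos]
  have hu : orderOf (g ^ r) = p := by
    rw [orderOf_pow' g hr.ne_zero, hg, Nat.gcd_mul_right_left, Nat.mul_div_cancel_left _ hr.pos]
  obtain ⟨hsq, P, hP, hPd, hcop⟩ := ClassDegree.single (φ (g ^ p)) (mat_hinv b hQ _) hr hr2 hrF hk hη
    (by rw [← Units.val_pow_eq_pow_val, ← map_pow, ← hs, pow_orderOf_eq_one, map_one, Units.val_one])
    (fun h => hr.ne_one (hs ▸ orderOf_eq_one_iff.2 (mat_injective b (by rw [map_one]; exact Units.ext h))))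
  have hcard : Fintype.card (Unit ⊕ (Fin n ⊕ Fin n)) = 2 * n + 1 := by simp; omega
  have hX := minpoly_root_one b hQ h2 (g ^ p) (by rw [hcard]; exact odd_two_mul_add_one n)
    (det_of_commutator (pow_mem hgc p))
  set S : Matrix (Unit ⊕ (Fin n ⊕ Fin n)) (Unit ⊕ (Fin n ⊕ Fin n)) F := (φ (g ^ p)).val with hS
  have hμ0 : minpoly F S ≠ 0 := minpoly.ne_zero (Algebra.IsIntegral.isIntegral _)
  have h3 := natDegree_le_of_dvd (hcop.mul_dvd hP hX) hμ0
  rw [natDegree_mul (ne_zero_of_dvd_ne_zero hμ0 hP) (ne_zero_of_dvd_ne_zero hμ0 hX),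
    show (X - 1 : F[X]).natDegree = 1 by rw [← C_1]; exact natDegree_X_sub_C 1] at h3
  have h4 := (GLOrders.natDegree_minpoly_le S).trans_eq hcard
  have h1 : ((φ (g ^ r)).val : Matrix (Unit ⊕ (Fin n ⊕ Fin n)) (Unit ⊕ (Fin n ⊕ Fin n)) F) = 1 := by
    refine eq_one_of_regular _ _ hsq (by omega) ?_ (N := p) ?_
    · show _ * _ = _ * _
      rw [← Units.val_mul, ← Units.val_mul, ← map_mul, ← map_mul, ← pow_add, ← pow_add, add_comm]
    · rw [sub_pow_char_of_commute p (Commute.one_right _), one_pow, ← Units.val_pow_eq_pow_val, ← map_pow, ← hu,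
        pow_orderOf_eq_one, map_one, Units.val_one, sub_self]
  exact hp.ne_one (hu ▸ orderOf_eq_one_iff.2 (mat_injective b (by rw [map_one]; exact Units.ext h1)))

include p in
theorem two_nec {V : Type v} [AddCommGroup V] [Module F V] [FiniteDimensional F V] [Finite V]
    {Q : QuadraticForm F V} (hQ : Nd Q) (hV : Module.finrank F V = 2 * n + 1)
    (hF : Odd (Fintype.card F)) (hn : 1 ≤ n) (y : isoG Q)
    (hy : y ∈ commutator (isoG Q)) (hr : r.Prime) (hr2 : r ≠ 2) (hrp : r ≠ p) (hrF : (r : F) ≠ 0)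
    (ho : orderOf y = 2 * r) {k η : ℕ} (hk : k = orderOf ((Fintype.card F : ℕ) : ZMod r)) (hη : IsEta k η) :
    η + 1 ≤ n ∨ 4 * r ∣ Fintype.card F ^ n + 1 ∨ 4 * r ∣ Fintype.card F ^ n - 1 := by
  classical
  rw [or_iff_not_imp_left]
  intro hηn
  obtain ⟨m, rfl⟩ : ∃ m, n = m + 1 := ⟨n - 1, by omega⟩
  have h2 : (2 : F) ≠ 0 := two_ne_zero_of_odd hF
  set T := y ^ r with hT
  have hTT : ∀ v, T.1 (T.1 v) = v := fun v => by
    have : T * T = 1 := by rw [hT, ← pow_add, ← two_mul, ← ho, pow_orderOf_eq_one]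
    exact congrArg (fun g : isoG Q => g.1 v) this
  let W : Submodule F V := LinearMap.ker (T.1.toLinearMap + LinearMap.id)
  let L : Submodule F V := LinearMap.ker (T.1.toLinearMap - LinearMap.id)
  have hW : ∀ v, v ∈ W ↔ T.1 v = -v := fun v => by
    simp [W, LinearMap.mem_ker, add_eq_zero_iff_eq_neg]
  have hL : ∀ v, v ∈ L ↔ T.1 v = v := fun v => by
    simp [L, LinearMap.mem_ker, sub_eq_zero]
  have horth : ∀ w ∈ W, ∀ l ∈ L, polar Q w l = 0 := by
    intro w hw l hl
    have := iso_B T w l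
    rw [(hW w).1 hw, (hL l).1 hl, polar_neg_left] at this
    have h' : 2 * polar Q w l = 0 := by linear_combination -this
    exact (mul_eq_zero.1 h').resolve_left h2
  let f : W × L →ₗ[F] V := W.subtype.coprod L.subtype
  have hf : ∀ x, Q (f x) = (Q.comp W.subtype).prod (Q.comp L.subtype) x := fun x => by
    simp [f, QuadraticMap.map_add ⇑Q, horth _ x.1.2 _ x.2.2]
  have hfi : Function.Injective f := (injective_iff_map_eq_zero f).2 fun x hx => by
    have h0 : (x.1 : V) + x.2 = 0 := by simpa [f] using hx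
    have h1 := congrArg T.1 h0
    rw [map_add, map_zero, (hW _).1 x.1.2, (hL _).1 x.2.2] at h1
    have h3 : (2 : F) • (x.2 : V) = 0 := by
      calc (2 : F) • (x.2 : V) = ((x.1 : V) + x.2) + (-(x.1 : V) + x.2) := by rw [two_smul]; abel
        _ = 0 := by rw [h0, h1, add_zero]
    have h4 : (x.2 : V) = 0 := (smul_eq_zero.1 h3).resolve_left h2
    rw [h4, add_zero] at h0
    exact Prod.ext (Subtype.ext h0) (Subtype.ext h4)
  have hfs : Function.Surjective f := fun v => by
    refine ⟨(⟨(2 : F)⁻¹ • (v - T.1 v), (hW _).2 ?_⟩, ⟨(2 : F)⁻¹ • (v + T.1 v), (hL _).2 ?_⟩), ?_⟩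
    · rw [map_smul, map_sub, hTT, ← smul_neg, neg_sub]
    · rw [map_smul, map_add, hTT, add_comm (T.1 v) v]
    · show (2 : F)⁻¹ • (v - T.1 v) + (2 : F)⁻¹ • (v + T.1 v) = v
      rw [← smul_add, show v - T.1 v + (v + T.1 v) = (2 : F) • v by rw [two_smul]; abel, smul_smul,
        inv_mul_cancel₀ h2, one_smul]
  let e : (W × L) ≃ₗ[F] V := LinearEquiv.ofBijective f ⟨hfi, hfs⟩
  have he : ∀ x, Q (e x) = (Q.comp W.subtype).prod (Q.comp L.subtype) x := hf
  have hprod : Nd ((Q.comp W.subtype).prod (Q.comp L.subtype)) :=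
    nd_map e.symm (fun v => by rw [← he, e.apply_symm_apply]) hQ
  have hQW : Nd (Q.comp W.subtype) := fun x hx =>
    congrArg Prod.fst (hprod (x, 0) fun z => by rw [polar_prod', hx, polar_zero_left, add_zero])
  have hQL : Nd (Q.comp L.subtype) := fun x hx =>
    congrArg Prod.snd (hprod (0, x) fun z => by rw [polar_prod', hx, polar_zero_left, zero_add])
  have hTE : isoConj e.symm (fun v => by rw [← he, e.apply_symm_apply]) T =
      prodHom (Q.comp W.subtype) (Q.comp L.subtype) (negOne _, 1) := iso_ext fun x => by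
    rw [isoConj_apply, LinearEquiv.symm_symm, LinearEquiv.symm_apply_eq, prodHom_apply]
    show T.1 ((x.1 : V) + (x.2 : V)) = -(x.1 : V) + (x.2 : V)
    rw [map_add, (hW _).1 x.1.2, (hL _).1 x.2.2]
  have hneg : negOne (Q.comp W.subtype) ∈ commutator (isoG (Q.comp W.subtype)) := by
    refine (inl_mem_commutator_iff hQW hQL (reg_of_two_ne_zero h2) (reg_of_two_ne_zero h2) _).1 ?_
    rw [← hTE]
    exact map_commutator_le _ ⟨T, pow_mem hy r, rfl⟩
  have hdim : Module.finrank F W + Module.finrank F L = 2 * (m + 1) + 1 := by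
    rw [← Module.finrank_prod, e.finrank_eq, hV]
  have heven : Even (Module.finrank F W) := by
    have h1 : LinearMap.det T.1.toLinearMap = 1 := det_of_commutator (pow_mem hy r)
    have h3 : T.1.toLinearMap = e.conj (((-1 : F) • (LinearMap.id : W →ₗ[F] W)).prodMap (LinearMap.id : L →ₗ[F] L)) := by
      refine LinearMap.ext fun v => ?_
      obtain ⟨x, rfl⟩ := e.surjective v
      rw [LinearEquiv.conj_apply_apply, e.symm_apply_apply]
      show T.1 ((x.1 : V) + (x.2 : V)) = (((-1 : F) • x.1 : W) : V) + (x.2 : V)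
      rw [map_add, (hW _).1 x.1.2, (hL _).1 x.2.2]
      simp
    rw [h3, LinearEquiv.conj_apply, LinearMap.comp_assoc, LinearMap.det_conj, LinearMap.det_prodMap, LinearMap.det_smul,
      LinearMap.det_id, LinearMap.det_id, mul_one, mul_one] at h1
    by_contra hodd
    rw [(Nat.not_even_iff_odd.1 hodd).neg_one_pow] at h1
    exact h2 (by linear_combination -h1)
  have hcomm : ∀ g : isoG Q, Commute g y → (∀ v ∈ W, g.1 v ∈ W) ∧ ∀ v ∈ L, g.1 v ∈ L := by
    intro g hg
    have hgT : ∀ v, T.1 (g.1 v) = g.1 (T.1 v) := fun v =>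
      congrArg (fun h : isoG Q => h.1 v) ((hg.pow_right r).eq.symm)
    exact ⟨fun v hv => (hW _).2 (by rw [hgT, (hW v).1 hv, map_neg]),
      fun v hv => (hL _).2 (by rw [hgT, (hL v).1 hv])⟩
  have hy1 := hcomm y (Commute.refl y)
  have hy1' := hcomm y⁻¹ (Commute.refl y).inv_left
  have hy2 := hcomm (y ^ 2) (Commute.pow_self y 2)
  have hy2' := hcomm (y ^ 2)⁻¹ (Commute.pow_self y 2).inv_left
  have hne : ∀ j, 0 < j → j < 2 * r → y ^ j ≠ 1 := fun j h0 hj h =>
    absurd (Nat.le_of_dvd h0 (ho ▸ orderOf_dvd_of_pow_eq_one h)) (by omega)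
  have hsmall := hr.two_le
  -- the part fixed by the involution is fixed by `y`
  have hgL : restr L y hy1.2 hy1'.2 = 1 := by
    by_contra hg
    have hgr : restr L y hy1.2 hy1'.2 ^ r = 1 := iso_ext fun v => Subtype.ext (by
      rw [restr_pow, ← hT, (hL _).1 v.2]; rfl)
    have h5 := (class_lin hQL _ hr hr2 hrF hk hη hgr hg).1
    have hW0 : Module.finrank F W = 0 := by
      obtain ⟨t, ht⟩ := heven; omega
    have hWb : W = ⊥ := Submodule.finrank_eq_zero.1 hW0
    refine hne r hr.pos (by omega) (iso_ext fun v => ?_)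
    obtain ⟨x, rfl⟩ := e.surjective v
    show T.1 ((x.1 : V) + (x.2 : V)) = (x.1 : V) + (x.2 : V)
    have hx0 : (x.1 : V) = 0 := (Submodule.mem_bot F).1 (hWb ▸ x.1.2)
    rw [hx0, zero_add, (hL _).1 x.2.2]
  have hyL : ∀ v ∈ L, y.1 v = v := fun v hv =>
    congrArg Subtype.val (congrArg (fun g : isoG (Q.comp L.subtype) => g.1 ⟨v, hv⟩) hgL)
  set g := restr W (y ^ 2) hy2.1 hy2'.1 with hgdef
  have hgr : g ^ r = 1 := iso_ext fun v => Subtype.ext (by
    rw [hgdef, restr_pow, ← pow_mul, ← ho, pow_orderOf_eq_one]; rfl)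
  have hg1 : g ≠ 1 := by
    intro h
    refine hne 2 (by omega) (by omega) (iso_ext fun v => ?_)
    obtain ⟨x, rfl⟩ := e.surjective v
    show (y ^ 2).1 ((x.1 : V) + (x.2 : V)) = (x.1 : V) + (x.2 : V)
    have hx : (y ^ 2).1 (x.1 : V) = (x.1 : V) :=
      congrArg Subtype.val (congrArg (fun g : isoG (Q.comp W.subtype) => g.1 x.1) h)
    rw [map_add, hx, pow_two, Subgroup.coe_mul, LinearEquiv.mul_apply, hyL _ x.2.2, hyL _ x.2.2]
  obtain ⟨hW1, hW2⟩ := class_lin hQW g hr hr2 hrF hk hη hgr hg1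
  obtain ⟨t, ht⟩ := heven
  have hWn : Module.finrank F W = 2 * m + 2 := by omega
  have hηm : η = m + 1 := by omega
  have hev : g.1.toLinearMap.charpoly.eval 1 ≠ 0 := fun h => by have := hW2 h; omega
  have hreal : Real (Q.comp W.subtype) r g.1.toLinearMap.charpoly :=
    ⟨g.1, g.2, congrArg Subtype.val hgr, rfl⟩
  haveI : Fact r.Prime := ⟨hr⟩
  set q := Fintype.card F
  have hq1 : 1 ≤ q := Fintype.card_pos
  have h4r : Nat.Coprime 4 r :=
    (Nat.Coprime.pow_left 2 ((Nat.coprime_primes Nat.prime_two hr).2 (Ne.symm hr2)) : Nat.Coprime (2 ^ 2) r)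
  rcases exists_normal_even m hQW hWn with ⟨e', he'⟩ | ⟨ζ, hζ, e', he'⟩
  · right
    have hp : ∀ v, plusQ (m + 1) F (e'.symm v) = Q.comp W.subtype v := fun v => by
      rw [plusQ_apply, ← he', e'.apply_symm_apply]
    have h5 := negOne_mem_map e'.symm hp hneg
    have h6 := negOne_mem_map (R := splitQ (m + 1) (zeroQ F)) (ePlus (m + 1)).symm (fun v => by
      obtain ⟨x, rfl⟩ := (ePlus (m + 1)).surjective v
      rw [plusQ_apply, LinearEquiv.symm_apply_apply, plus_apply]) h5
    have hs : negOne (splitQ (m + 1) (zeroQ F)) = scaleHom (m + 1) (zeroQ F) fun _ => -1 :=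
      iso_ext fun x => by
        rw [negOne_apply, scaleHom_apply]
        refine Prod.ext (Prod.ext (funext fun i => ?_) (funext fun i => ?_)) (Subsingleton.elim _ _) <;> simp
    rw [hs, scaleHom_mem_iff nd_zeroQ h2] at h6
    simp only [Units.val_neg, Units.val_one, Finset.prod_const, Finset.card_univ, Fintype.card_fin] at h6
    have h7 := (isSquare_neg_one_pow (q := q) rfl hF (m + 1)).1 h6
    refine h4r.mul_dvd_of_dvd_of_dvd (by omega) ?_
    rw [dvd_sub_one_iff hq1, ← hk]
    rcases hη with ⟨-, h⟩ | ⟨hkev, h⟩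
    · rw [← h, hηm]
    · exfalso
      have h8 := real_plus_cond (p := p) (q := q) rfl hr hr2 hrp hk hkev (hreal.map e'.symm hp) hev
      rw [← orderOf_dvd_iff_pow_eq_one, ← hk] at h8
      have := Nat.le_of_dvd (by omega) h8
      omega
  · left
    have hp : ∀ v, minusQ m 1 ζ (e'.symm v) = Q.comp W.subtype v := fun v => by
      rw [minusQ_apply, ← he', e'.apply_symm_apply]
    have h5 := negOne_mem_map e'.symm hp hneg
    have h6 := negOne_mem_map (R := splitQ m (binQ (1 : F) ζ)) (eMinus m).symm (fun v => by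
      obtain ⟨x, rfl⟩ := (eMinus (F := F) m).surjective v
      rw [minusQ_apply, LinearEquiv.symm_apply_apply, minus_apply]) h5
    have h7 := (negOne_mem_minus (q := q) rfl hF hζ m).1 h6
    refine h4r.mul_dvd_of_dvd_of_dvd (by omega) ?_
    have h8 := (real_minus_cond (p := p) (q := q) rfl hr hr2 hrp hk hζ (hreal.map e'.symm hp) hev).2
    rw [← ZMod.natCast_eq_zero_iff]
    push_cast
    rw [h8, neg_add_cancel]

end Cfsg.Agent.Lib.Recog.OddOrthPrimeGraph
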