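import Cfsg.Agent.Lib.Recog.OddOrthPrimeGraph

/-! Tori and unipotent elements in the isometry group of the odd-dimensional form. -/

set_option autoImplicit false

namespace Cfsg.Agent.Lib.Recog.OddOrthPrimeGraph

open Polynomial QuadraticMap
open Cfsg.Agent.Lib.Classical.Quad Cfsg.Agent.Lib.Classical.QuadOmega Cfsg.Agent.Lib.Classical.OrthTorsion
open Cfsg.Agent.Lib.Classical.QuadF2 Cfsg.Agent.Lib.AutOmega

universe u v w

variable {F : Type u} [Field F] [Fintype F] (p : ℕ) [Fact p.Prime] [CharP F p]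

theorem isoConj_injective {V : Type v} [AddCommGroup V] [Module F V] {W : Type w} [AddCommGroup W] [Module F W]
    {Q : QuadraticForm F V} {R : QuadraticForm F W} (e : V ≃ₗ[F] W) (he : ∀ v, R (e v) = Q v) :
    Function.Injective (isoConj e he) := fun g h hgh => iso_ext fun v => by
  have := congrArg (fun k : isoG R => k.1 (e v)) hgh
  simpa [isoConj_apply] using this

include p in
/-- A torus of order `q ^ e + 1` on a space of dimension `2e`. -/
theorem exists_torus_pos (h2 : (2 : F) ≠ 0) {e : ℕ} (he : 1 ≤ e) :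
    ∃ (Q : QuadraticForm F (Fin (2 * e) → F)) (g : isoG Q), Nd Q ∧ orderOf g = Fintype.card F ^ e + 1 := by
  classical
  haveI : NeZero (2 * e) := ⟨by omega⟩
  let K := FiniteField.Extension F p (2 * e)
  haveI : Fintype K := Fintype.ofFinite K
  have hq1 : 1 < Fintype.card F := Fintype.one_lt_card
  set c := Fintype.card F ^ e with hc
  have hc1 : 1 < c := Nat.one_lt_pow (by omega) hq1
  have hK : Nat.card K = c * c := by
    rw [FiniteField.natCard_extension, Nat.card_eq_fintype_card, hc, ← pow_add, two_mul]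
  let σ : K →ₐ[F] K := FiniteField.frobeniusAlgHom F K ^ e
  have hσ : ∀ z : K, σ z = z ^ c := fun z => by
    show (FiniteField.frobeniusAlgHom F K ^ e) z = _
    rw [AlgHom.coe_pow, FiniteField.coe_frobeniusAlgHom, pow_iterate]
  have hσσ : ∀ z : K, σ (σ z) = z := fun z => by
    rw [hσ, hσ, ← pow_mul, ← hK, Nat.card_eq_fintype_card, FiniteField.pow_card]
  obtain ⟨u, hu⟩ := IsCyclic.exists_generator (α := Kˣ)
  have hou : orderOf u = (c + 1) * (c - 1) := by
    rw [orderOf_eq_card_of_forall_mem_zpowers hu, Nat.card_units, hK]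
    simpa [pow_two] using Nat.sq_sub_sq c 1
  set x : Kˣ := u ^ (c - 1) with hx
  have hox : orderOf x = c + 1 := by
    rw [hx, orderOf_pow' _ (by omega), hou, Nat.gcd_mul_left_left, Nat.mul_div_cancel _ (by omega)]
  have hxσ : (x : K) * σ (x : K) = 1 := by
    rw [hσ, ← Units.val_pow_eq_pow_val, ← Units.val_mul, ← pow_succ', ← hox, pow_orderOf_eq_one, Units.val_one]
  obtain ⟨ψ, hψ⟩ : ∃ ψ : Module.Dual F K, ψ 2 ≠ 0 := by
    by_contra! hcon
    have h' : (2 : K) = 0 := (Module.forall_dual_apply_eq_zero_iff F _).1 hcon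
    rw [← map_ofNat (algebraMap F K) 2, map_eq_zero_iff _ (algebraMap F K).injective] at h'
    exact h2 h'
  let β : K →ₗ[F] K →ₗ[F] F :=
    LinearMap.mk₂ F (fun a b => ψ (a * σ b)) (fun a b d => by simp [add_mul])
      (fun a b d => by simp) (fun a b d => by simp [mul_add]) (fun a b d => by simp)
  set Q : QuadraticForm F K := LinearMap.BilinMap.toQuadraticMap β with hQdef
  have hQ : ∀ a, Q a = ψ (a * σ a) := fun a => rfl
  have hpol : ∀ a b, polar Q a b = ψ (a * σ b + b * σ a) := fun a b => by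
    simp only [polar, hQ, map_add, add_mul, mul_add]
    ring
  have hnd : Nd Q := by
    intro a ha
    by_contra ha0
    have := ha (σ a⁻¹)
    rw [hpol, hσσ, mul_inv_cancel₀ ha0, ← map_mul, inv_mul_cancel₀ ha0, map_one] at this
    exact hψ (by rwa [one_add_one_eq_two] at this)
  let m : Kˣ →* (K ≃ₗ[F] K) :=
    { toFun := fun a => LinearEquiv.ofLinear (LinearMap.mulLeft F (a : K)) (LinearMap.mulLeft F ((a⁻¹ : Kˣ) : K))
        (LinearMap.ext fun z => by simp) (LinearMap.ext fun z => by simp)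
      map_one' := LinearEquiv.ext fun z => by simp
      map_mul' := fun a b => LinearEquiv.ext fun z => by simp [mul_assoc] }
  have hm : Function.Injective m := fun a b hab => Units.ext (by
    have h' := congrArg (fun g : K ≃ₗ[F] K => g 1) hab
    simpa [m] using h')
  have hmQ : m x ∈ isoG Q := fun z => by
    show Q ((x : K) * z) = Q z
    rw [hQ, hQ, map_mul σ, show (x : K) * z * (σ (x : K) * σ z) = (x : K) * σ (x : K) * (z * σ z) by ring, hxσ, one_mul]
  let b : Module.Basis (Fin (2 * e)) F K :=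
    Module.finBasisOfFinrankEq F K (FiniteField.finrank_extension F p (2 * e))
  refine ⟨Q.comp b.equivFun.symm.toLinearMap, isoConj b.equivFun (fun v => by simp) ⟨m x, hmQ⟩,
    nd_map b.equivFun (fun v => by simp) hnd, ?_⟩
  rw [orderOf_injective _ (isoConj_injective _ _), ← Subgroup.orderOf_coe, orderOf_injective m hm, hox]

include p in
/-- A torus of order `q ^ e - 1` on a space of dimension `2e`. -/
theorem exists_torus_neg {e : ℕ} (he : 1 ≤ e) :
    ∃ (Q : QuadraticForm F (Fin (2 * e) → F)) (g : isoG Q), Nd Q ∧ orderOf g = Fintype.card F ^ e - 1 := by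
  classical
  obtain ⟨A, hA⟩ := GLTorus.exists_orderOf (F := F) p e e he le_rfl
  have hinj : Function.Injective (glHom e (zeroQ F)) := fun a b hab => Units.ext (Matrix.ext_iff_mulVec.2 fun v => by
    have := congrArg Prod.fst (congrArg Prod.fst (congrArg
      (fun g : isoG (splitQ e (zeroQ F)) => g.1 ((v, 0), 0)) hab))
    simpa [glHom_apply] using this)
  let ε : (((Fin e → F) × (Fin e → F)) × (Fin 0 → F)) ≃ₗ[F] (Fin (2 * e) → F) :=
    (Module.finBasisOfFinrankEq F _ (by simp [Module.finrank_prod]; omega)).equivFun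
  refine ⟨(splitQ e (zeroQ F)).comp ε.symm.toLinearMap, isoConj ε (fun v => by rw [QuadraticMap.comp_apply, LinearEquiv.coe_coe, LinearEquiv.symm_apply_apply]) (glHom e _ A),
    nd_map ε (fun v => by rw [QuadraticMap.comp_apply, LinearEquiv.coe_coe, LinearEquiv.symm_apply_apply]) (nd_splitQ nd_zeroQ e), ?_⟩
  rw [orderOf_injective _ (isoConj_injective _ _), orderOf_injective _ hinj, hA, Nat.card_eq_fintype_card]

/-- Put a block beside a smaller odd-dimensional space. -/
theorem embed (h2 : (2 : F) ≠ 0) {a d n : ℕ} (hn : a + d = n) {R : QuadraticForm F (Fin (2 * a) → F)} (hR : Nd R)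
    (t : isoG R) (u : isoG (oddQ d F)) :
    ∃ g : isoG (oddQ n F), Nat.lcm (orderOf t) (orderOf u) ∣ orderOf g := by
  classical
  subst hn
  obtain ⟨c, hc, e, he⟩ := exists_normal_odd (Q := R.prod (oddQ d F)) (a + d)
    (nd_prod hR (nd_oddQ h2 d)) (by simp [Module.finrank_prod, Module.finrank_pi]; omega)
  let φ : (Unit ⊕ (Fin (a + d) ⊕ Fin (a + d)) → F) ≃ₗ[F] (Unit ⊕ (Fin (a + d) ⊕ Fin (a + d)) → F) :=
    { toFun := fun v => Sum.elim (fun u => v (.inl u)) (Sum.elim (fun j => c * v (.inr (.inl j))) fun j => v (.inr (.inr j)))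
      invFun := fun v => Sum.elim (fun u => v (.inl u)) (Sum.elim (fun j => c⁻¹ * v (.inr (.inl j))) fun j => v (.inr (.inr j)))
      left_inv := fun v => by ext (u | j | j) <;> simp [hc]
      right_inv := fun v => by ext (u | j | j) <;> simp [hc]
      map_add' := fun v v' => by ext (u | j | j) <;> simp [mul_add]
      map_smul' := fun k v => by ext (u | j | j) <;> simp [mul_left_comm] }
  have hΨ : ∀ v, (c • oddQ (a + d) F) ((φ.trans e).symm v) = R.prod (oddQ d F) v := fun v => by
    obtain ⟨v', rfl⟩ := (φ.trans e).surjective v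
    rw [LinearEquiv.symm_apply_apply, LinearEquiv.trans_apply, he]
    simp [oddQ_apply, Cfsg.quadFormOdd, φ, mul_add, Finset.mul_sum, mul_assoc]
  set g := isoConj (φ.trans e).symm hΨ (prodHom R (oddQ d F) (t, u)) with hg
  have hmem : g.1 ∈ isoG (oddQ (a + d) F) := fun v => mul_left_cancel₀ hc (g.2 v)
  refine ⟨⟨g.1, hmem⟩, ?_⟩
  have ho : orderOf (⟨g.1, hmem⟩ : isoG (oddQ (a + d) F)) = orderOf g :=
    (Subgroup.orderOf_coe _).symm.trans (Subgroup.orderOf_coe g)
  rw [ho, hg, orderOf_injective _ (isoConj_injective _ _), orderOf_injective _ (prodHom_injective _ _), Prod.orderOf]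

include p in
/-- A block in `oddQ n`. -/
theorem torus_block (h2 : (2 : F) ≠ 0) {a d n : ℕ} (ha : 1 ≤ a) (hn : a + d = n) {N : ℕ}
    (hN : N = Fintype.card F ^ a + 1 ∨ N = Fintype.card F ^ a - 1) (u : isoG (oddQ d F)) :
    ∃ g : isoG (oddQ n F), Nat.lcm N (orderOf u) ∣ orderOf g := by
  rcases hN with rfl | rfl
  · obtain ⟨R, t, hR, ht⟩ := exists_torus_pos (F := F) p h2 ha
    rw [← ht]; exact embed h2 hn hR t u
  · obtain ⟨R, t, hR, ht⟩ := exists_torus_neg (F := F) p ha
    rw [← ht]; exact embed h2 hn hR t u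

include p in
theorem one_torus (h2 : (2 : F) ≠ 0) {a n : ℕ} (ha : 1 ≤ a) (hn : a ≤ n) {N : ℕ}
    (hN : N = Fintype.card F ^ a + 1 ∨ N = Fintype.card F ^ a - 1) :
    ∃ g : isoG (oddQ n F), N ∣ orderOf g := by
  obtain ⟨g, hg⟩ := torus_block p h2 ha (show a + (n - a) = n by omega) hN 1
  exact ⟨g, (Nat.dvd_lcm_left _ _).trans hg⟩

include p in
theorem two_tori (h2 : (2 : F) ≠ 0) {a b n : ℕ} (ha : 1 ≤ a) (hb : 1 ≤ b) (hn : a + b ≤ n) {N M : ℕ}
    (hN : N = Fintype.card F ^ a + 1 ∨ N = Fintype.card F ^ a - 1)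
    (hM : M = Fintype.card F ^ b + 1 ∨ M = Fintype.card F ^ b - 1) :
    ∃ g : isoG (oddQ n F), Nat.lcm N M ∣ orderOf g := by
  obtain ⟨u, hu⟩ := one_torus p h2 hb (show b ≤ n - a by omega) hM
  obtain ⟨g, hg⟩ := torus_block p h2 ha (show a + (n - a) = n by omega) hN u
  exact ⟨g, (Nat.lcm_dvd (Nat.dvd_lcm_left _ _) (hu.trans (Nat.dvd_lcm_right _ _))).trans hg⟩

omit [Fintype F] in
/-- A unipotent element of order `p`. -/
theorem exists_unip {d : ℕ} (hd : 1 ≤ d) : ∃ u : isoG (oddQ d F), orderOf u = p := by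
  classical
  set x : Unit ⊕ (Fin d ⊕ Fin d) → F := Pi.single (.inr (.inl ⟨0, hd⟩)) 1 with hxdef
  set w : Unit ⊕ (Fin d ⊕ Fin d) → F := Pi.single (.inl ()) 1 with hwdef
  have hx : oddQ d F x = 0 := by
    simp [oddQ_apply, Cfsg.quadFormOdd, hxdef, Pi.single_apply]
  have hxw : polar (oddQ d F) x w = 0 := by
    simp [polar, oddQ_apply, Cfsg.quadFormOdd, hxdef, hwdef, Pi.single_apply]
  have hk : ∀ k : ℕ, sie (oddQ d F) x w ^ k = sie (oddQ d F) x ((k : F) • w) := by
    intro k
    induction k with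
    | zero => rw [pow_zero, Nat.cast_zero, zero_smul, sie_zero hx]
    | succ k ih =>
      rw [pow_succ, ih, Nat.cast_succ, add_smul, one_smul, sie_add hx (by rw [polar_smul_right, hxw, smul_zero]) hxw]
  refine ⟨sie (oddQ d F) x w, orderOf_eq_prime ?_ ?_⟩
  · rw [hk, CharP.cast_eq_zero, zero_smul, sie_zero hx]
  · intro h
    set v : Unit ⊕ (Fin d ⊕ Fin d) → F := Pi.single (.inr (.inr ⟨0, hd⟩)) 1 with hvdef
    have h1 := congrArg (fun g : isoG (oddQ d F) => g.1 v (.inl ())) h
    simp [sie_apply hx hxw] at h1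
    simp [polar, oddQ_apply, Cfsg.quadFormOdd, hxdef, hwdef, hvdef, Pi.single_apply] at h1

end Cfsg.Agent.Lib.Recog.OddOrthPrimeGraph
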