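import Mathlib

set_option autoImplicit false

namespace Cfsg.Agent.Lib.Recog

open Finset

section Sum
variable {V F : Type*} [CommGroup V] [Group F]

theorem prod_orbit_eq_one (φ : F →* MulAut V) {f : F} {n : ℕ} (hn : f ^ n = 1)
    (hfix : ∀ v, φ f v = v → v = 1) (v : V) :
    ∏ j ∈ range n, φ (f ^ j) v = 1 := by
  apply hfix
  rw [map_prod]
  have : ∀ j, φ f (φ (f ^ j) v) = φ (f ^ (j + 1)) v := by
    intro j; rw [pow_succ', map_mul, MulAut.mul_apply]
  simp only [this]
  rcases Nat.eq_zero_or_pos n with rfl | hpos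
  · simp
  obtain ⟨m, rfl⟩ := Nat.exists_eq_succ_of_ne_zero hpos.ne'
  rw [Finset.prod_range_succ, Finset.prod_range_succ' (fun j => φ (f ^ j) v), hn, pow_zero]

theorem mul_pow_twist {z y : F} {k : ℕ} (hyz : y * z = z ^ k * y) (i j : ℕ) :
    (z ^ i * y) ^ j = z ^ (i * ∑ l ∈ range j, k ^ l) * y ^ j := by
  have hm : ∀ m, y * z ^ m = z ^ (k * m) * y := by
    intro m
    induction m with
    | zero => simp
    | succ m ih =>
      rw [pow_succ, ← mul_assoc, ih, mul_assoc, hyz, ← mul_assoc, ← pow_add]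
      ring_nf
  induction j with
  | zero => simp
  | succ j ih =>
    rw [pow_succ' (z ^ i * y), ih, Finset.sum_range_succ' (fun l => k ^ l), pow_succ' y]
    calc z ^ i * y * (z ^ (i * ∑ l ∈ range j, k ^ l) * y ^ j)
        = z ^ i * (y * z ^ (i * ∑ l ∈ range j, k ^ l)) * y ^ j := by simp only [mul_assoc]
      _ = z ^ i * (z ^ (k * (i * ∑ l ∈ range j, k ^ l)) * y) * y ^ j := by rw [hm]
      _ = _ := by
        simp only [← mul_assoc, ← pow_add]
        congr 3
        simp only [pow_succ, ← Finset.sum_mul, pow_zero]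
        ring

/-- a twisted product of two cyclic groups acting without fixed points kills every vector of order prime to `q` -/
theorem pow_eq_one_of_twisted_fpf (φ : F →* MulAut V) {z y : F} {q r k : ℕ} (hq : q.Prime) (hr : 0 < r)
    (hz : z ^ q = 1) (hyz : y * z = z ^ k * y) (hy : ∀ i, (z ^ i * y) ^ r = 1)
    (hs : ∀ j, 0 < j → j < r → ((∑ l ∈ range j, k ^ l : ℕ) : ZMod q) ≠ 0)
    (hfz : ∀ v, φ z v = v → v = 1) (hfy : ∀ i v, φ (z ^ i * y) v = v → v = 1) (v : V) :
    v ^ q = 1 := by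
  have := Fact.mk hq
  have h : ∏ j ∈ range r, ∏ i ∈ range q, φ ((z ^ i * y) ^ j) v = 1 := by
    rw [Finset.prod_comm]
    exact Finset.prod_eq_one fun i _ => prod_orbit_eq_one φ (hy i) (hfy i) v
  rw [Finset.prod_eq_single_of_mem 0 (Finset.mem_range.2 hr)] at h
  · simpa using h
  intro j hj hj0
  set s := ∑ l ∈ range j, k ^ l
  have hs' : (s : ZMod q) ≠ 0 := hs j (Nat.pos_of_ne_zero hj0) (Finset.mem_range.1 hj)
  have hmodz : ∀ a b : ℕ, (a : ZMod q) = b → z ^ a = z ^ b := by
    intro a b hab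
    rw [ZMod.natCast_eq_natCast_iff'] at hab
    rw [← Nat.mod_add_div a q, ← Nat.mod_add_div b q, pow_add, pow_add, pow_mul, pow_mul, hz, one_pow,
      one_pow, hab]
  rw [← prod_orbit_eq_one φ hz hfz (φ (y ^ j) v)]
  refine Finset.prod_nbij' (fun i => (i * s) % q) (fun m => ((m : ZMod q) * (s : ZMod q)⁻¹).val)
    (fun i _ => Finset.mem_range.2 (Nat.mod_lt _ hq.pos)) (fun m _ => Finset.mem_range.2 (ZMod.val_lt _))
    ?_ ?_ ?_
  · intro i hi
    simp only [ZMod.natCast_mod, Nat.cast_mul, mul_inv_cancel_right₀ hs']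
    exact ZMod.val_cast_of_lt (Finset.mem_range.1 hi)
  · intro m hm
    have : (((((m : ZMod q) * (s : ZMod q)⁻¹).val * s) % q : ℕ) : ZMod q) = (m : ZMod q) := by
      simp [inv_mul_cancel_right₀ hs']
    rw [ZMod.natCast_eq_natCast_iff', Nat.mod_mod, Nat.mod_eq_of_lt (Finset.mem_range.1 hm)] at this
    exact this
  · intro i _
    rw [mul_pow_twist hyz, map_mul, MulAut.mul_apply]
    congr 1
    rw [hmodz (i * s) ((i * s) % q) (by simp)]

end Sum

section Graph
variable {G : Type*} [Group G]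

theorem exists_orderOf_eq_of_dvd [Finite G] {x : G} {n : ℕ} (h : n ∣ orderOf x) : ∃ y : G, orderOf y = n :=
  ⟨_, orderOf_pow_orderOf_div (orderOf_pos x).ne' h⟩

theorem exists_orderOf_eq_of_map [Finite G] {Q : Type*} [Group Q] (f : G →* Q) {x : G} {n : ℕ}
    (h : n ∣ orderOf (f x)) : ∃ y : G, orderOf y = n :=
  exists_orderOf_eq_of_dvd (h.trans (orderOf_map_dvd f x))

theorem exists_orderOf_mul_of_commute [Finite G] {a b : G} {p q : ℕ} (hp : p.Prime) (hq : q.Prime)
    (hpq : p ≠ q) (hc : Commute a b) (ha : p ∣ orderOf a) (hb : q ∣ orderOf b) :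
    ∃ x : G, orderOf x = p * q := by
  have e1 : orderOf (a ^ (orderOf a / p)) = p := orderOf_pow_orderOf_div (orderOf_pos a).ne' ha
  have e2 : orderOf (b ^ (orderOf b / q)) = q := orderOf_pow_orderOf_div (orderOf_pos b).ne' hb
  refine ⟨a ^ (orderOf a / p) * b ^ (orderOf b / q), ?_⟩
  rw [(hc.pow_pow _ _).orderOf_mul_eq_mul_orderOf_of_coprime (by rw [e1, e2]; exact (Nat.coprime_primes hp hq).2 hpq),
    e1, e2]

theorem orderOf_dvd_of_isPGroup [Finite G] {p : ℕ} [Fact p.Prime] {P : Subgroup G} (hP : IsPGroup p P)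
    {x : G} (hx : x ∈ P) (hx1 : x ≠ 1) : p ∣ orderOf x := by
  obtain ⟨n, hn⟩ := IsPGroup.iff_orderOf.1 hP ⟨x, hx⟩
  rw [Subgroup.orderOf_mk] at hn
  rw [hn]
  apply dvd_pow_self
  rintro rfl
  exact hx1 (orderOf_eq_one_iff.1 (by simpa using hn))

theorem pgroup_pow_eq_one {p q : ℕ} [Fact p.Prime] {V : Type*} [Group V] (hV : IsPGroup p V) (hq : q.Coprime p)
    {v : V} (h : v ^ q = 1) : v = 1 := by
  obtain ⟨n, hn⟩ := IsPGroup.iff_orderOf.1 hV v
  apply orderOf_eq_one_iff.1
  exact Nat.eq_one_of_dvd_coprimes (hq.pow_right n) (orderOf_dvd_of_pow_eq_one h) (by rw [hn])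

/-- element of order `r` normalising a `q`-group normalising a `p`-group -/
theorem adjacent_of_normalizing [Finite G] {p q r : ℕ} (hp : p.Prime) (hq : q.Prime) (hr : r.Prime)
    (hpq : p ≠ q) (hpr : p ≠ r) (hqr : q ≠ r) {P Q : Subgroup G} (hP : IsPGroup p P) (hQ : IsPGroup q Q)
    (hP1 : P ≠ ⊥) (hQ1 : Q ≠ ⊥) (hQP : Q ≤ Subgroup.normalizer (P : Set G)) {y : G} (hy : orderOf y = r)
    (hyP : y ∈ Subgroup.normalizer (P : Set G)) (hyQ : y ∈ Subgroup.normalizer (Q : Set G)) :
    (∃ x : G, orderOf x = p * q) ∨ (∃ x : G, orderOf x = p * r) ∨ (∃ x : G, orderOf x = q * r) := by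
  have := Fact.mk hp; have := Fact.mk hq; have := Fact.mk hr
  by_contra! hno
  obtain ⟨hnpq, hnpr, hnqr⟩ := hno
  set N := Subgroup.normalizer (P : Set G)
  let φ0 : N →* MulAut P := P.normalizerMonoidHom
  let V := Subgroup.center P
  letI : CommGroup V :=
    { (inferInstance : Group V) with
      mul_comm := fun a b => Subtype.ext (Subgroup.mem_center_iff.1 b.2 a) }
  have hchar : ∀ (n : N) (v : P), v ∈ V → φ0 n v ∈ V := by
    intro n v hv
    rw [Subgroup.mem_center_iff] at hv ⊢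
    intro w
    obtain ⟨w, rfl⟩ := (φ0 n).surjective w
    rw [← map_mul, hv w, map_mul]
  let φ : N →* MulAut V :=
    { toFun := fun n =>
        { toFun := fun v => ⟨φ0 n v, hchar n v v.2⟩
          invFun := fun v => ⟨φ0 n⁻¹ v, hchar n⁻¹ v v.2⟩
          left_inv := fun v => by ext; simp
          right_inv := fun v => by ext; simp
          map_mul' := fun a b => by ext; simp }
      map_one' := by ext; simp
      map_mul' := fun a b => by ext; simp [MulAut.mul_apply] }
  have hV : IsPGroup p V := hP.to_subgroup _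
  have : Nontrivial P := (Subgroup.nontrivial_iff_ne_bot P).2 hP1
  have : Nontrivial V := hP.center_nontrivial
  obtain ⟨v, hv⟩ := exists_ne (1 : V)
  have hcoe : ∀ (n : N) (w : V), (((φ n w : V) : P) : G) = n * ((w : P) : G) * (n : G)⁻¹ := fun _ _ => rfl
  have hfpf : ∀ (n : N) (s : ℕ), s.Prime → p ≠ s → orderOf (n : G) = s →
      (¬ ∃ x : G, orderOf x = p * s) → ∀ w, φ n w = w → w = 1 := by
    intro n s hs hps hn hno' w hw
    by_contra hw1
    have hwG : ((w : P) : G) ≠ 1 := by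
      intro e; exact hw1 (Subtype.ext (Subtype.ext e))
    have e := congrArg (fun u : V => ((u : P) : G)) hw
    simp only [hcoe] at e
    have hc : Commute ((w : P) : G) (n : G) := (mul_inv_eq_iff_eq_mul.1 e).symm
    exact hno' (exists_orderOf_mul_of_commute hp hs hps hc
      (orderOf_dvd_of_isPGroup hP (w : P).2 hwG) (hn ▸ dvd_rfl))
  -- z central of order q in Q
  have : Nontrivial Q := (Subgroup.nontrivial_iff_ne_bot Q).2 hQ1
  have : Nontrivial (Subgroup.center Q) := hQ.center_nontrivial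
  obtain ⟨m, hm, hcard⟩ : ∃ n, 0 < n ∧ Nat.card (Subgroup.center Q) = q ^ n :=
    (IsPGroup.nontrivial_iff_card (hQ.to_subgroup _)).1 inferInstance
  obtain ⟨⟨z, hzc⟩, hz⟩ := exists_prime_orderOf_dvd_card' (G := Subgroup.center Q) q
    (hcard ▸ dvd_pow_self q hm.ne')
  rw [Subgroup.orderOf_mk] at hz
  have hzq : orderOf (z : G) = q := by rw [Subgroup.orderOf_coe]; exact hz
  let zN : N := ⟨z, hQP z.2⟩
  let yN : N := ⟨y, hyP⟩
  have hwQ : y * z * y⁻¹ ∈ Q := (Subgroup.mem_normalizer_iff.1 hyQ z).1 z.2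
  have hwq : orderOf (y * z * y⁻¹) = q := by
    rw [← MulAut.conj_apply, MulEquiv.orderOf_eq, hzq]
  have hcomm : Commute (z : G) (y * z * y⁻¹) := by
    have := Subgroup.mem_center_iff.1 hzc ⟨_, hwQ⟩
    exact (congrArg Subtype.val this).symm
  have hzN : (zN : N) ^ q = 1 := by
    apply Subtype.ext; simp only [SubmonoidClass.coe_pow, OneMemClass.coe_one, zN]
    exact hzq ▸ pow_orderOf_eq_one _
  by_cases hmem : y * z * y⁻¹ ∈ Subgroup.zpowers (z : G)
  · rw [← mem_powers_iff_mem_zpowers] at hmem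
    obtain ⟨k, hk⟩ := hmem
    simp only at hk
    have hyz : y * z = (z : G) ^ k * y := by rw [hk]; group
    by_cases hk1 : (k : ZMod q) = 1
    · suffices hc : Commute (z : G) y by
        obtain ⟨x, hx⟩ := exists_orderOf_mul_of_commute hq hr hqr hc (hzq ▸ dvd_rfl) (hy ▸ dvd_rfl)
        exact hnqr x hx
      have : (z : G) ^ k = z := by
        conv_rhs => rw [← pow_one (z : G)]
        rw [pow_eq_pow_iff_modEq, hzq, ← ZMod.natCast_eq_natCast_iff]; simpa using hk1
      show (z : G) * y = y * z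
      rw [hyz, this]
    have hkr : (k : ZMod q) ^ r = 1 := by
      have h1 := mul_pow_twist hyz 0 r
      have h2 : ∀ n : ℕ, y ^ n * z = (z : G) ^ (k ^ n) * y ^ n := by
        intro n
        induction n with
        | zero => simp
        | succ n ih =>
          have hpw : ∀ m, y * (z : G) ^ m = (z : G) ^ (k * m) * y := by
            intro m
            induction m with
            | zero => simp
            | succ m ihm =>
              rw [pow_succ, ← mul_assoc, ihm, mul_assoc, hyz, ← mul_assoc, ← pow_add]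
              ring_nf
          rw [pow_succ' y, mul_assoc, ih, ← mul_assoc, hpw, mul_assoc, pow_succ' k]
      have h3 := h2 r
      rw [← hy, pow_orderOf_eq_one, one_mul, mul_one, hy] at h3
      nth_rewrite 1 [← pow_one (z : G)] at h3
      rw [pow_eq_pow_iff_modEq, hzq, ← ZMod.natCast_eq_natCast_iff] at h3
      simpa using h3.symm
    have hgeom : ∀ j : ℕ, ((k : ZMod q) - 1) * ((∑ l ∈ range j, k ^ l : ℕ) : ZMod q) = (k : ZMod q) ^ j - 1 := by
      intro j; push_cast; exact mul_geom_sum _ j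
    have hord : orderOf (k : ZMod q) = r := orderOf_eq_prime hkr hk1
    have hsr : ((∑ l ∈ range r, k ^ l : ℕ) : ZMod q) = 0 :=
      (mul_eq_zero.1 ((hgeom r).trans (by rw [hkr, sub_self]))).resolve_left (sub_ne_zero.2 hk1)
    have hyzN : yN * zN = zN ^ k * yN := Subtype.ext (by simpa [yN, zN] using hyz)
    have hpowN : ∀ i, (zN ^ i * yN) ^ r = 1 := by
      intro i
      rw [mul_pow_twist hyzN]
      have hdvd : q ∣ i * ∑ l ∈ range r, k ^ l :=
        Dvd.dvd.mul_left ((ZMod.natCast_eq_zero_iff _ _).1 hsr) i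
      obtain ⟨c, hc⟩ := hdvd
      rw [hc, pow_mul, hzN, one_pow, one_mul]
      apply Subtype.ext; simp [yN, ← hy, pow_orderOf_eq_one]
    have hordN : ∀ i, orderOf (((zN ^ i * yN : N)) : G) = r := by
      intro i
      rw [Subgroup.orderOf_coe]
      refine orderOf_eq_prime (hpowN i) fun h1 => ?_
      have h1' : (z : G) ^ i * y = 1 := congrArg Subtype.val h1
      have : y⁻¹ = (z : G) ^ i := (eq_inv_of_mul_eq_one_left h1').symm
      have hd : orderOf y ∣ orderOf (z : G) := by
        rw [← orderOf_inv y, this]; exact orderOf_pow_dvd i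
      rw [hy, hzq] at hd
      exact hqr ((Nat.prime_dvd_prime_iff_eq hr hq).1 hd).symm
    have := pow_eq_one_of_twisted_fpf φ hq hr.pos hzN hyzN hpowN
      (fun j hj0 hjr hj => by
        have := hgeom j
        rw [hj, mul_zero] at this
        have hd := orderOf_dvd_of_pow_eq_one (sub_eq_zero.1 this.symm)
        rw [hord] at hd
        exact absurd (Nat.le_of_dvd hj0 hd) (not_le.2 hjr))
      (hfpf zN q hq hpq hzq (fun ⟨x, hx⟩ => hnpq x hx))
      (fun i => hfpf _ r hr hpr (hordN i) (fun ⟨x, hx⟩ => hnpr x hx)) v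
    exact hv (pgroup_pow_eq_one hV ((Nat.coprime_primes hq hp).2 hpq.symm) this)
  · let wN : N := ⟨y * z * y⁻¹, hQP hwQ⟩
    have hwz : wN * zN = zN ^ 1 * wN := Subtype.ext (by simpa [wN, zN] using hcomm.symm.eq)
    have hpowN : ∀ i, (zN ^ i * wN) ^ q = 1 := by
      intro i
      have hc : Commute (zN ^ i) wN := Commute.pow_left (by
        apply Subtype.ext; simpa [wN, zN] using hcomm.eq) i
      rw [hc.mul_pow, ← pow_mul, mul_comm, pow_mul, hzN, one_pow, one_mul]
      apply Subtype.ext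
      simp only [SubmonoidClass.coe_pow, OneMemClass.coe_one, wN]
      exact hwq ▸ pow_orderOf_eq_one _
    have hordN : ∀ i, orderOf (((zN ^ i * wN : N)) : G) = q := by
      intro i
      rw [Subgroup.orderOf_coe]
      refine orderOf_eq_prime (hpowN i) fun h1 => hmem ?_
      have h1' : (z : G) ^ i * (y * z * y⁻¹) = 1 := congrArg Subtype.val h1
      rw [eq_inv_of_mul_eq_one_right h1']
      exact inv_mem (Subgroup.npow_mem_zpowers _ _)
    have := pow_eq_one_of_twisted_fpf φ hq hq.pos hzN hwz hpowN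
      (fun j hj0 hjq => by
        simp only [one_pow, Finset.sum_const, Finset.card_range, smul_eq_mul, mul_one]
        rw [Ne, ZMod.natCast_eq_zero_iff]
        exact fun hd => absurd (Nat.le_of_dvd hj0 hd) (not_le.2 hjq))
      (hfpf zN q hq hpq hzq (fun ⟨x, hx⟩ => hnpq x hx))
      (fun i => hfpf _ q hq hpq (hordN i) (fun ⟨x, hx⟩ => hnpq x hx)) v
    exact hv (pgroup_pow_eq_one hV ((Nat.coprime_primes hq hp).2 hpq.symm) this)

/-- Lucido's three primes lemma -/
theorem three_primes_adjacent [Finite G] (K M : Subgroup G) [K.Normal] [M.Normal] (hKM : K ≤ M) {p q r : ℕ}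
    (hp : p.Prime) (hq : q.Prime) (hr : r.Prime) (hpq : p ≠ q) (hpr : p ≠ r) (hqr : q ≠ r)
    (hpK : p ∣ Nat.card K) (hqM : q ∣ K.relIndex M) (hrG : r ∣ M.index) :
    (∃ x : G, orderOf x = p * q) ∨ (∃ x : G, orderOf x = p * r) ∨ (∃ x : G, orderOf x = q * r) := by
  have := Fact.mk hp; have := Fact.mk hq; have := Fact.mk hr
  obtain ⟨P⟩ : Nonempty (Sylow p K) := inferInstance
  set P' : Subgroup G := (P : Subgroup K).map K.subtype
  set N := Subgroup.normalizer (P' : Set G)
  have hsup : N ⊔ K = ⊤ := Sylow.normalizer_sup_eq_top P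
  have hP' : IsPGroup p P' := P.2.map _
  have hP'1 : P' ≠ ⊥ := by
    rw [Ne, Subgroup.map_eq_bot_iff_of_injective _ K.subtype_injective]
    exact P.ne_bot_of_dvd_card hpK
  have hsurj : ∀ g : G, ∃ n ∈ N, n⁻¹ * g ∈ K := by
    intro g
    have : g ∈ N ⊔ K := hsup ▸ Subgroup.mem_top g
    obtain ⟨n, hn, k, hk, rfl⟩ := Subgroup.mem_sup_of_normal_right.1 this
    exact ⟨n, hn, by simpa using hk⟩
  -- q divides |M ⊓ N|
  let MN : Subgroup N := M.subgroupOf N
  have hqMN : q ∣ Nat.card MN := by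
    let g : MN →* M ⧸ K.subgroupOf M :=
      (QuotientGroup.mk' (K.subgroupOf M)).comp
        { toFun := fun x => ⟨((x : N) : G), x.2⟩, map_one' := rfl, map_mul' := fun _ _ => rfl }
    have hg : Function.Surjective g := by
      intro t
      obtain ⟨⟨m, hm⟩, rfl⟩ := QuotientGroup.mk'_surjective _ t
      obtain ⟨n, hn, hk⟩ := hsurj m
      have hnM : n ∈ M := by
        have := M.mul_mem hm (M.inv_mem (hKM hk))
        simpa using this
      refine ⟨⟨⟨n, hn⟩, hnM⟩, ?_⟩
      exact QuotientGroup.eq.2 (by simpa [Subgroup.mem_subgroupOf] using hk)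
    exact hqM.trans (Subgroup.card_dvd_of_surjective g hg)
  obtain ⟨Q⟩ : Nonempty (Sylow q MN) := inferInstance
  have : MN.Normal := inferInstanceAs (M.subgroupOf N).Normal
  set T := Subgroup.normalizer (((Q : Subgroup MN).map MN.subtype : Subgroup N) : Set N)
  have hsup2 : T ⊔ MN = ⊤ := Sylow.normalizer_sup_eq_top Q
  let f : T →* G ⧸ M := (QuotientGroup.mk' M).comp (N.subtype.comp T.subtype)
  have hf : Function.Surjective f := by
    intro t
    obtain ⟨g, rfl⟩ := QuotientGroup.mk'_surjective _ t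
    obtain ⟨n, hn, hk⟩ := hsurj g
    have : (⟨n, hn⟩ : N) ∈ T ⊔ MN := hsup2 ▸ Subgroup.mem_top _
    obtain ⟨a, ha, b, hb, hab⟩ := Subgroup.mem_sup_of_normal_right.1 this
    refine ⟨⟨a, ha⟩, ?_⟩
    refine QuotientGroup.eq.2 ?_
    have hn' : (a : G) * (b : G) = n := congrArg Subtype.val hab
    show (a : G)⁻¹ * g ∈ M
    have : (a : G)⁻¹ * g = (b : G) * (n⁻¹ * g) := by rw [← hn']; group
    rw [this]
    exact M.mul_mem hb (hKM hk)
  obtain ⟨t, ht⟩ := exists_prime_orderOf_dvd_card' (G := G ⧸ M) r hrG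
  obtain ⟨a, rfl⟩ := hf t
  have hda : r ∣ orderOf a := ht ▸ orderOf_map_dvd f a
  set y := a ^ (orderOf a / r)
  have hy : orderOf y = r := orderOf_pow_orderOf_div (orderOf_pos a).ne' hda
  refine adjacent_of_normalizing hp hq hr hpq hpr hqr hP'
    (((Q.2.map MN.subtype).map N.subtype)) hP'1 ?_ ?_ (y := ((y : N) : G)) ?_ (y : N).2 ?_
  · rw [Ne, Subgroup.map_eq_bot_iff_of_injective _ N.subtype_injective,
      Subgroup.map_eq_bot_iff_of_injective _ MN.subtype_injective]
    exact Q.ne_bot_of_dvd_card hqMN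
  · rintro _ ⟨x, -, rfl⟩; exact x.2
  · rw [Subgroup.orderOf_coe, Subgroup.orderOf_coe, hy]
  · exact Subgroup.le_normalizer_map N.subtype ⟨(y : N), y.2, rfl⟩

/-- two primes dividing an abelian section are adjacent -/
theorem adjacent_of_abelian_section [Finite G] (A : Subgroup G) (B : Subgroup A) [B.Normal]
    (hab : ∀ a b : A ⧸ B, a * b = b * a) {p q : ℕ} (hp : p.Prime) (hq : q.Prime) (hpq : p ≠ q)
    (hpd : p ∣ B.index) (hqd : q ∣ B.index) : ∃ x : G, orderOf x = p * q := by
  have := Fact.mk hp; have := Fact.mk hq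
  obtain ⟨a, ha⟩ := exists_prime_orderOf_dvd_card' (G := A ⧸ B) p hpd
  obtain ⟨b, hb⟩ := exists_prime_orderOf_dvd_card' (G := A ⧸ B) q hqd
  obtain ⟨x, hx⟩ := exists_orderOf_mul_of_commute hp hq hpq (hab a b) (ha ▸ dvd_rfl) (hb ▸ dvd_rfl)
  obtain ⟨g, rfl⟩ := QuotientGroup.mk'_surjective B x
  obtain ⟨y, hy⟩ := exists_orderOf_eq_of_map (QuotientGroup.mk' B) (x := g) (n := p * q) (hx ▸ dvd_rfl)
  exact ⟨y, by rw [Subgroup.orderOf_coe]; exact hy⟩

end Graph

end Cfsg.Agent.Lib.Recog
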