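import Mathlib
import Cfsg.Agent.Lib.Recog.PrimitiveFactor

/-!
No non-abelian simple group has (a) equal centralizers for commuting elements of coprime orders and
(b) self-normalizing centralizers.
-/

set_option autoImplicit false

namespace Cfsg.Agent.Lib.Recog

open Subgroup

/-- Burnside transfer: a simple group has no Sylow subgroup central in its normalizer. -/
theorem isPGroup_of_normalizer_le_centralizer {T : Type*} [Group T] [Finite T] [IsSimpleGroup T]
    {p : ℕ} [Fact p.Prime] (hdvd : p ∣ Nat.card T) (P : Sylow p T)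
    (h : normalizer (P : Set T) ≤ centralizer (P : Set T)) : IsPGroup p T := by
  have hc := MonoidHom.ker_transferSylow_isComplement' P h
  rcases IsSimpleGroup.eq_bot_or_eq_top_of_normal (MonoidHom.transferSylow P h).ker inferInstance
    with e | e
  · have := hc.card_mul
    rw [e, Subgroup.card_bot, one_mul] at this
    exact IsPGroup.of_equiv P.2 (((P : Subgroup T).eq_top_of_card_eq this) ▸ Subgroup.topEquiv)
  · exact absurd (e ▸ MonoidHom.not_dvd_card_ker_transferSylow P h)
      (by rw [Subgroup.card_top]; exact not_not.2 hdvd)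

/-- A self-normalizing `p`-subgroup is a Sylow subgroup. -/
theorem exists_sylow_eq_of_selfNormalizing {T : Type*} [Group T] [Finite T] {p : ℕ} [Fact p.Prime]
    {Q : Subgroup T} (hQ : IsPGroup p Q) (h : normalizer (Q : Set T) ≤ Q) :
    ∃ P : Sylow p T, (P : Subgroup T) = Q := by
  obtain ⟨R, hR⟩ := hQ.exists_le_sylow
  refine ⟨R, le_antisymm ?_ hR⟩
  by_contra hne
  have hlt : Q.subgroupOf (R : Subgroup T) < ⊤ :=
    lt_top_iff_ne_top.2 fun e => hne (subgroupOf_eq_top.1 e)
  haveI : Group.IsNilpotent (R : Subgroup T) := R.2.isNilpotent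
  have := Group.normalizerCondition_of_isNilpotent (G := (R : Subgroup T)) _ hlt
  obtain ⟨x, hxn, hxQ⟩ := SetLike.exists_of_lt this
  refine hxQ (mem_subgroupOf.2 (h ?_))
  rw [mem_normalizer_iff] at hxn ⊢
  intro y
  constructor
  · intro hy
    exact (hxn ⟨y, hR hy⟩).1 hy
  · intro hy
    have hyR : y ∈ (R : Subgroup T) := by
      have := (R : Subgroup T).mul_mem ((R : Subgroup T).mul_mem ((R : Subgroup T).inv_mem x.2)
        (hR hy)) x.2
      simpa [mul_assoc] using this
    exact (hxn ⟨y, hyR⟩).2 hy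

theorem center_card_mul_sq_le {P : Type*} [Group P] [Finite P] {p : ℕ} [hp : Fact p.Prime]
    (hP : IsPGroup p P) (hna : ¬ IsMulCommutative P) :
    Nat.card (center P) * p ^ 2 ≤ Nat.card P := by
  obtain ⟨n, hn⟩ := (hP.to_quotient (center P)).exists_card_eq
  rw [← (center P).index_mul_card, mul_comm, Subgroup.index_eq_card, hn]
  refine Nat.mul_le_mul_right _ (Nat.pow_le_pow_right hp.out.pos ?_)
  by_contra hlt
  have : IsCyclic (P ⧸ center P) := by
    rcases (show n = 0 ∨ n = 1 by omega) with rfl | rfl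
    · rw [pow_zero] at hn
      haveI := (Nat.card_eq_one_iff_unique.1 hn).1
      exact isCyclic_of_subsingleton
    · exact isCyclic_of_prime_card (hn.trans (pow_one p))
  exact hna (isMulCommutative_of_isCyclic_quotient_center_self P)

theorem sum_inv_sq_le (m : ℕ) (hm : 2 ≤ m) :
    ∑ k ∈ Finset.Icc 2 m, (1 : ℚ) / (k : ℚ) ^ 2 ≤ 3 / 4 - 1 / m := by
  induction m, hm using Nat.le_induction with
  | base => norm_num
  | succ m hm ih =>
    rw [Finset.sum_Icc_succ_top (by omega : 2 ≤ m + 1)]
    push_cast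
    have h0 : (0 : ℚ) < m := by exact_mod_cast (by omega : 0 < m)
    have : (1 : ℚ) / ((m : ℚ) + 1) ^ 2 ≤ 1 / m - 1 / ((m : ℚ) + 1) := by
      rw [div_sub_div _ _ h0.ne' (by positivity), div_le_div_iff₀ (by positivity) (by positivity)]
      nlinarith
    linarith

/-- The pure lemma. -/
theorem no_simple_selfNormalizing_centralizers {T : Type*} [Group T] [Finite T]
    (hs : IsSimpleGroup T) (hna : ¬ IsMulCommutative T)
    (ha : ∀ t u : T, t ≠ 1 → u ≠ 1 → t * u = u * t → (orderOf t).Coprime (orderOf u) →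
      centralizer ({t} : Set T) = centralizer {u})
    (hb : ∀ t : T, t ≠ 1 → normalizer ((centralizer ({t} : Set T) : Subgroup T) : Set T) ≤
      centralizer {t}) : False := by
  classical
  haveI := hs
  have := Fintype.ofFinite T
  haveI : Nontrivial T := hs.toNontrivial
  have mem : ∀ {t u : T}, u ∈ centralizer ({t} : Set T) ↔ t * u = u * t := by
    intro t u
    rw [mem_centralizer_singleton_iff]
    exact eq_comm
  have sylow : ∀ (p : ℕ) [Fact p.Prime], p ∣ Nat.card T → ∀ P : Sylow p T, ∃ x : T, x ≠ 1 ∧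
      centralizer ({x} : Set T) = P ∧ ¬ IsMulCommutative (P : Subgroup T) := by
    intro p _ hdvd P
    haveI : Nontrivial (P : Subgroup T) := (P : Subgroup T).nontrivial_iff_ne_bot.2 (P.ne_bot_of_dvd_card hdvd)
    haveI := P.2.center_nontrivial
    obtain ⟨⟨⟨x, hxP⟩, hxc⟩, hx1⟩ := exists_ne (1 : center (P : Subgroup T))
    have hx : x ≠ 1 := fun e => hx1 (Subtype.ext (Subtype.ext e))
    have hPC : (P : Subgroup T) ≤ centralizer {x} := fun z hz =>
      mem.2 (congrArg Subtype.val (mem_center_iff.1 hxc ⟨z, hz⟩)).symm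
    have hcop : ∀ z : T, z ∈ (P : Subgroup T) → ∀ q : ℕ, q.Prime → q ≠ p → ∀ y : T,
        orderOf y = q → (orderOf z).Coprime (orderOf y) := by
      intro z hz q hq hqp y hy
      obtain ⟨k, hk⟩ := P.2 ⟨z, hz⟩
      have h1 : orderOf z ∣ p ^ k := orderOf_dvd_of_pow_eq_one (congrArg Subtype.val hk)
      rw [hy]
      exact Nat.Coprime.coprime_dvd_left h1
        (Nat.Coprime.pow_left _ ((Nat.coprime_primes Fact.out hq).2 hqp.symm))
    -- the centralizer is a p-group
    by_cases hpg : IsPGroup p (centralizer ({x} : Set T))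
    · have heq : centralizer ({x} : Set T) = P := P.3 hpg hPC
      refine ⟨x, hx, heq, fun hc => ?_⟩
      apply not_pGroup_of_simple hs hna p
      refine isPGroup_of_normalizer_le_centralizer hdvd P fun z hz => ?_
      have hzP : z ∈ (P : Subgroup T) := by
        rw [← heq]
        apply hb x hx
        rw [heq]
        exact hz
      exact fun w hw => congrArg Subtype.val (hc.is_comm.comm ⟨w, hw⟩ ⟨z, hzP⟩)
    exfalso
    obtain ⟨q, hq, hqd, hqp⟩ : ∃ q, q.Prime ∧ q ∣ Nat.card (centralizer ({x} : Set T)) ∧ q ≠ p := by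
      by_contra hne
      push Not at hne
      exact hpg (IsPGroup.of_card (Nat.eq_prime_pow_of_unique_prime_dvd Nat.card_pos.ne'
        fun {d} h1 h2 => hne d h1 h2))
    haveI : Fact q.Prime := ⟨hq⟩
    obtain ⟨⟨y, hyC⟩, hyq⟩ := exists_prime_orderOf_dvd_card' q hqd
    rw [Subgroup.orderOf_mk] at hyq
    have hy1 : y ≠ 1 := fun e => by rw [e, orderOf_one] at hyq; exact hq.one_lt.ne hyq
    -- every nontrivial element of `P` has the same centralizer
    have hxy : centralizer ({x} : Set T) = centralizer {y} :=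
      ha x y hx hy1 (mem.1 hyC) (hcop x hxP q hq hqp y hyq)
    have hPy : ∀ z ∈ (P : Subgroup T), y * z = z * y := fun z hz => mem.1 (hxy ▸ hPC hz)
    have hPz : ∀ z ∈ (P : Subgroup T), z ≠ 1 → centralizer ({z} : Set T) = centralizer {x} :=
      fun z hz hz1 => (ha z y hz1 hy1 (hPy z hz).symm (hcop z hz q hq hqp y hyq)).trans hxy.symm
    have hCP : centralizer ({x} : Set T) ≤ centralizer (P : Set T) := by
      intro w hw z hz
      by_cases hz1 : z = 1
      · simp [hz1]
      · exact mem.1 ((hPz z hz hz1).symm ▸ hw)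
    apply not_pGroup_of_simple hs hna p
    refine isPGroup_of_normalizer_le_centralizer hdvd P fun g hg => hCP (hb x hx ?_)
    have heq : centralizer ({x} : Set T) = centralizer (P : Set T) :=
      le_antisymm hCP (centralizer_le (Set.singleton_subset_iff.2 hxP))
    rw [heq]
    rw [mem_normalizer_iff]
    have hg : ∀ h : T, h ∈ (P : Subgroup T) ↔ g * h * g⁻¹ ∈ (P : Subgroup T) :=
      mem_normalizer_iff.1 hg
    intro w
    constructor
    · intro hw z hz
      have h1 : g⁻¹ * z * g ∈ (P : Subgroup T) := (hg _).2 (by rw [show g * (g⁻¹ * z * g) * g⁻¹ = z by group]; exact hz)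
      have := congrArg (fun v => g * v * g⁻¹) (hw _ h1)
      simpa [mul_assoc] using this
    · intro hw z hz
      have := congrArg (fun v => g⁻¹ * v * g) (hw _ ((hg z).1 hz))
      simpa [mul_assoc] using this
  -- every nontrivial element is central in a Sylow subgroup
  have cover : ∀ y : T, y ≠ 1 → ∃ p ∈ (Nat.card T).primeFactors, ∃ P : Subgroup T,
      (∃ S : Sylow p T, (S : Subgroup T) = P) ∧ y ∈ P ⊓ centralizer (P : Set T) := by
    intro y hy
    obtain ⟨p, hp, hpd⟩ := Nat.exists_prime_and_dvd (show orderOf y ≠ 1 by simpa using hy)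
    haveI : Fact p.Prime := ⟨hp⟩
    have hpT : p ∣ Nat.card T := hpd.trans (orderOf_dvd_natCard y)
    set y₁ := y ^ (orderOf y / p) with hy₁
    have o1 : orderOf y₁ = p := orderOf_pow_orderOf_div (orderOf_pos y).ne' hpd
    have y₁ne : y₁ ≠ 1 := fun e => by rw [e, orderOf_one] at o1; exact hp.one_lt.ne o1
    obtain ⟨S, hS⟩ := (IsPGroup.of_card (p := p) (G := zpowers y₁) (n := 1)
      (by rw [Nat.card_zpowers, o1, pow_one])).exists_le_sylow
    obtain ⟨x, hx, hxS, -⟩ := sylow p hpT S
    have hxy₁ : x * y₁ = y₁ * x := mem.1 (hxS ▸ hS (mem_zpowers y₁))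
    -- the order of `y` is a power of `p`
    have key : ∀ z : T, y₁ * z = z * y₁ → ∀ q : ℕ, q.Prime → orderOf z = q → q = p := by
      intro z hz q hq hzq
      by_contra hqp
      have hz1 : z ≠ 1 := fun e => by rw [e, orderOf_one] at hzq; exact hq.one_lt.ne hzq
      have h1 := ha y₁ z y₁ne hz1 hz (by rw [o1, hzq]; exact (Nat.coprime_primes hp hq).2 (Ne.symm hqp))
      have h2 : z * x = x * z := mem.1 (h1 ▸ (mem.2 hxy₁.symm : x ∈ centralizer ({y₁} : Set T)))
      have h3 : z ∈ (S : Subgroup T) := hxS ▸ mem.2 h2.symm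
      obtain ⟨k, hk⟩ := S.2 ⟨z, h3⟩
      have h4 : q ∣ p ^ k := hzq ▸ orderOf_dvd_of_pow_eq_one (congrArg Subtype.val hk)
      exact hqp ((Nat.prime_dvd_prime_iff_eq hq hp).1 (hq.dvd_of_dvd_pow h4))
    have hC : IsPGroup p (centralizer ({y₁} : Set T)) := by
      refine IsPGroup.of_card (Nat.eq_prime_pow_of_unique_prime_dvd Nat.card_pos.ne'
        fun {d} h1 h2 => ?_)
      haveI : Fact d.Prime := ⟨h1⟩
      obtain ⟨⟨z, hz⟩, hzd⟩ := exists_prime_orderOf_dvd_card' d h2
      exact key z (mem.1 hz) d h1 (by rwa [Subgroup.orderOf_mk] at hzd)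
    obtain ⟨R, hR⟩ := exists_sylow_eq_of_selfNormalizing hC (hb y₁ y₁ne)
    have hyC : y ∈ centralizer ({y₁} : Set T) := mem.2 (Commute.pow_left (Commute.refl y) _).eq
    -- `y` is a `p`-element, so the same applies to it
    have hy' : IsPGroup p (centralizer ({y} : Set T)) :=
      hC.to_le fun z hz => mem.2 (Commute.pow_left (mem.1 hz : Commute y z) _).eq
    obtain ⟨R', hR'⟩ := exists_sylow_eq_of_selfNormalizing hy' (hb y hy)
    refine ⟨p, Nat.mem_primeFactors.2 ⟨hp, hpT, Nat.card_pos.ne'⟩, _, ⟨R', hR'⟩,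
      mem.2 rfl, fun z hz => (mem.1 hz).symm⟩
  -- counting
  let Z : Subgroup T → Finset T := fun P =>
    (Finset.univ.filter fun y => y ≠ 1 ∧ y ∈ P ⊓ centralizer (P : Set T))
  let U : ℕ → Finset T := fun p => (Finset.univ : Finset (Sylow p T)).biUnion fun S => Z S
  have hcov : (Finset.univ.erase (1 : T)) ⊆ (Nat.card T).primeFactors.biUnion U := by
    intro y hy
    obtain ⟨p, hp, P, ⟨S, hS⟩, hyP⟩ := cover y (Finset.ne_of_mem_erase hy)
    rw [Finset.mem_biUnion]
    refine ⟨p, hp, Finset.mem_biUnion.2 ⟨S, Finset.mem_univ _, ?_⟩⟩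
    simp only [Z, Finset.mem_filter, Finset.mem_univ, true_and]
    exact ⟨Finset.ne_of_mem_erase hy, hS ▸ hyP⟩
  have hU : ∀ p ∈ (Nat.card T).primeFactors, (U p).card * p ^ 2 ≤ Nat.card T := by
    intro p hp
    obtain ⟨hpp, hpd, -⟩ := Nat.mem_primeFactors.1 hp
    haveI : Fact p.Prime := ⟨hpp⟩
    refine le_trans (Nat.mul_le_mul_right _ Finset.card_biUnion_le) ?_
    have h1 : ∀ S : Sylow p T, (Z S).card * p ^ 2 ≤ Nat.card S := by
      intro S
      obtain ⟨x, -, -, hnab⟩ := sylow p hpd S
      refine le_trans (Nat.mul_le_mul_right _ ?_) (center_card_mul_sq_le S.2 hnab)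
      rw [← Nat.card_eq_finsetCard]
      refine Nat.card_le_card_of_injective (fun y : (Z S : Finset T) => (⟨⟨(y : T),
        ((Finset.mem_filter.1 y.2).2.2).1⟩, mem_center_iff.2 fun z => Subtype.ext
          (((Finset.mem_filter.1 y.2).2.2).2 z z.2)⟩ : center (S : Subgroup T))) fun a b e => ?_
      exact Subtype.ext (congrArg (fun w : center (S : Subgroup T) => ((w : (S : Subgroup T)) : T)) e)
    have h2 : ∀ S : Sylow p T, normalizer (S : Set T) = S := by
      intro S
      obtain ⟨x, hx, hxS, -⟩ := sylow p hpd S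
      refine le_antisymm ?_ le_normalizer
      change normalizer ((S : Subgroup T) : Set T) ≤ S
      rw [← hxS]
      exact hb x hx
    rw [Finset.sum_mul]
    calc ∑ S : Sylow p T, (Z S).card * p ^ 2 ≤ ∑ S : Sylow p T, Nat.card S :=
          Finset.sum_le_sum fun S _ => h1 S
      _ = Nat.card (Sylow p T) * Nat.card (default : Sylow p T) := by
          rw [Finset.sum_congr rfl (fun S _ => Sylow.card_eq_multiplicity S), Finset.sum_const,
            Finset.card_univ, smul_eq_mul, Nat.card_eq_fintype_card (α := Sylow p T),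
            Sylow.card_eq_multiplicity (default : Sylow p T)]
      _ = Nat.card T := by
          rw [Sylow.card_eq_index_normalizer (default : Sylow p T), h2, Subgroup.index_mul_card]
  have h4 : 4 ≤ Nat.card T := by
    by_contra hlt
    apply hna
    have h1 : 1 < Nat.card T := Finite.one_lt_card
    have hpr : (Nat.card T).Prime := by
      rcases (show Nat.card T = 2 ∨ Nat.card T = 3 by omega) with e | e <;> rw [e] <;> norm_num
    haveI : Fact (Nat.card T).Prime := ⟨hpr⟩
    haveI := isCyclic_of_prime_card (α := T) rfl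
    exact IsCyclic.commutative
  have htot : (Nat.card T : ℚ) - 1 ≤ ∑ p ∈ (Nat.card T).primeFactors, ((U p).card : ℚ) := by
    have := (Finset.card_le_card hcov).trans Finset.card_biUnion_le
    rw [Finset.card_erase_of_mem (Finset.mem_univ _), Finset.card_univ,
      ← Nat.card_eq_fintype_card] at this
    have h : ((Nat.card T - 1 : ℕ) : ℚ) ≤ ((∑ p ∈ (Nat.card T).primeFactors, (U p).card : ℕ) : ℚ) :=
      Nat.cast_le.2 this
    rw [Nat.cast_sub (by omega : 1 ≤ Nat.card T)] at h
    simpa using h
  have hbd : ∑ p ∈ (Nat.card T).primeFactors, ((U p).card : ℚ) ≤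
      (Nat.card T : ℚ) * ∑ k ∈ Finset.Icc 2 (Nat.card T), (1 : ℚ) / (k : ℚ) ^ 2 := by
    rw [Finset.mul_sum]
    refine le_trans (Finset.sum_le_sum (g := fun p : ℕ => (Nat.card T : ℚ) * (1 / (p : ℚ) ^ 2))
      fun p hp => ?_) (Finset.sum_le_sum_of_subset_of_nonneg (fun p hp => ?_) fun _ _ _ => by positivity)
    · rw [mul_one_div, le_div_iff₀ (by have := (Nat.prime_of_mem_primeFactors hp).pos; positivity)]
      exact_mod_cast hU p hp
    · obtain ⟨hpp, hpd, -⟩ := Nat.mem_primeFactors.1 hp
      exact Finset.mem_Icc.2 ⟨hpp.two_le, Nat.le_of_dvd Nat.card_pos hpd⟩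
  have hsum := sum_inv_sq_le (Nat.card T) (by omega)
  have h4' : (4 : ℚ) ≤ (Nat.card T : ℚ) := by exact_mod_cast h4
  have := mul_le_mul_of_nonneg_left hsum (by positivity : (0 : ℚ) ≤ (Nat.card T : ℚ))
  rw [mul_sub, mul_one_div_cancel (by positivity)] at this
  linarith

/-- A maximal subgroup of prime order that meets a minimal normal non-abelian `N` trivially and
supplements it does not exist. -/
theorem no_prime_order_maximal_supplement {G : Type*} [Group G] [Finite G] {N H : Subgroup G}
    (hN : IsMinNormal N) (hna : ¬ IsMulCommutative N) (hH : IsCoatom H) (hHn : ¬ H.Normal)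
    (hr : (Nat.card H).Prime) (hcard : Nat.card G = Nat.card N * Nat.card H) : False := by
  haveI := hN.1
  set r := Nat.card H with hrdef
  haveI : Fact r.Prime := ⟨hr⟩
  have hHp : IsPGroup r H := IsPGroup.of_card (n := 1) (by rw [pow_one])
  by_cases hdvd : r ∣ Nat.card N
  · obtain ⟨R, hR⟩ := hHp.exists_le_sylow
    have hR2 : r ^ 2 ∣ Nat.card (R : Subgroup G) := by
      rw [R.card_eq_multiplicity]
      refine Nat.pow_dvd_pow r ((hr.pow_dvd_iff_le_factorization Nat.card_pos.ne').1 ?_)
      rw [hcard, pow_two]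
      exact mul_dvd_mul hdvd (dvd_refl r)
    have hlt : H.subgroupOf (R : Subgroup G) < ⊤ := by
      rw [lt_top_iff_ne_top]
      intro e
      have : Nat.card (R : Subgroup G) ∣ r := Subgroup.card_dvd_of_le (subgroupOf_eq_top.1 e)
      have := Nat.le_of_dvd hr.pos (hR2.trans this)
      have := hr.two_le
      nlinarith
    haveI : Group.IsNilpotent (R : Subgroup G) := R.2.isNilpotent
    obtain ⟨x, hxn, hxH⟩ := SetLike.exists_of_lt
      (Group.normalizerCondition_of_isNilpotent (G := (R : Subgroup G)) _ hlt)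
    have hx : (x : G) ∈ normalizer (H : Set G) := by
      rw [mem_normalizer_iff] at hxn ⊢
      intro y
      constructor
      · intro hy; exact (hxn ⟨y, hR hy⟩).1 hy
      · intro hy
        have hyR : y ∈ (R : Subgroup G) := by
          have := (R : Subgroup G).mul_mem ((R : Subgroup G).mul_mem ((R : Subgroup G).inv_mem x.2)
            (hR hy)) x.2
          simpa [mul_assoc] using this
        exact (hxn ⟨y, hyR⟩).2 hy
    have := hH.2 _ (lt_of_le_of_ne le_normalizer fun e => hxH (mem_subgroupOf.2 (e ▸ hx)))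
    exact hHn (normalizer_eq_top_iff.1 this)
  · haveI : Nontrivial N := N.nontrivial_iff_ne_bot.2 hN.2.1
    obtain ⟨p, hp, hpd⟩ := Nat.exists_prime_and_dvd (Finite.one_lt_card (α := N)).ne'
    haveI : Fact p.Prime := ⟨hp⟩
    let P : Sylow p N := default
    have hPb : (P : Subgroup N) ≠ ⊥ := P.ne_bot_of_dvd_card hpd
    set P' : Subgroup G := (P : Subgroup N).map N.subtype with hP'
    have hPN : P' ≤ N := map_subtype_le _
    have hP'p : IsPGroup p P' := P.2.map _
    have hsup : normalizer (P' : Set G) ⊔ N = ⊤ := P.normalizer_sup_eq_top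
    have hrn : r ∣ Nat.card (normalizer (P' : Set G)) := by
      have h1 : N.index = r := by
        have := N.index_mul_card
        rw [hcard, mul_comm] at this
        exact Nat.eq_of_mul_eq_mul_left Nat.card_pos this
      have h2 : N.relIndex (normalizer (P' : Set G)) = N.index := by
        rw [← Subgroup.relIndex_top_right, ← hsup, Subgroup.relIndex_sup_right]
      rw [← h1, ← h2]
      exact Subgroup.index_dvd_card _
    obtain ⟨⟨y, hy⟩, hyr⟩ := exists_prime_orderOf_dvd_card' r hrn
    rw [Subgroup.orderOf_mk] at hyr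
    have hf : (Nat.card G).factorization r = 1 := by
      rw [hcard, Nat.factorization_mul Nat.card_pos.ne' hr.ne_zero, Finsupp.add_apply,
        Nat.factorization_eq_zero_of_not_dvd hdvd, hr.factorization_self]
    let R₁ : Sylow r G := Sylow.ofCard H (by rw [hf, pow_one])
    let R₂ : Sylow r G := Sylow.ofCard (zpowers y) (by rw [hf, pow_one, Nat.card_zpowers, hyr])
    obtain ⟨g, hg⟩ := MulAction.exists_smul_eq G R₁ R₂
    have hconj : H.map (MulAut.conj g).toMonoidHom = zpowers y := by
      have := congrArg (fun S : Sylow r G => (S : Subgroup G)) hg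
      exact this
    have hcoat : IsCoatom (zpowers y) := by
      rw [← hconj]
      exact ((MulAut.conj g).mapSubgroup.isCoatom_iff H).2 hH
    have hle : zpowers y ⊔ P' ≤ normalizer (P' : Set G) :=
      sup_le ((zpowers_le).2 hy) le_normalizer
    have hne : zpowers y ≠ zpowers y ⊔ P' := by
      intro e
      apply hPb
      have h1 : P' ≤ zpowers y := e ▸ le_sup_right
      have h2 : IsPGroup r P' := (IsPGroup.of_card (p := r) (n := 1)
        (by rw [Nat.card_zpowers, hyr, pow_one])).to_le h1
      have h3 := IsPGroup.disjoint_of_ne p r (fun e => hdvd (e ▸ hpd)) P' P' hP'p h2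
      rw [disjoint_self, hP', Subgroup.map_eq_bot_iff_of_injective _ N.subtype_injective] at h3
      exact h3
    have htop : zpowers y ⊔ P' = ⊤ := hcoat.2 _ (lt_of_le_of_ne le_sup_left hne)
    have hnorm : P'.Normal := normalizer_eq_top_iff.1 (top_le_iff.1 (htop ▸ hle))
    rcases hN.2.2 P' hnorm hPN with e | e
    · exact hPb ((Subgroup.map_eq_bot_iff_of_injective _ N.subtype_injective).1 e)
    · -- then `N` is a `p`-group
      have hNp : IsPGroup p N := e ▸ hP'p
      haveI : Group.IsNilpotent N := hNp.isNilpotent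
      haveI : Nontrivial (center N) := hNp.center_nontrivial
      have hZ : ((center N).map N.subtype).Normal := by
        refine ⟨?_⟩
        rintro _ ⟨⟨z, hz⟩, hzc, rfl⟩ g
        refine ⟨⟨g * z * g⁻¹, hN.1.conj_mem z hz g⟩, mem_center_iff.2 fun w => Subtype.ext ?_, rfl⟩
        have := congrArg (fun v => g * v * g⁻¹)
          (congrArg Subtype.val (mem_center_iff.1 hzc ⟨g⁻¹ * w * g, by
            simpa using hN.1.conj_mem w w.2 g⁻¹⟩))
        simpa [mul_assoc] using this
      rcases hN.2.2 _ hZ (map_subtype_le _) with e' | e'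
      · exact (center N).nontrivial_iff_ne_bot.1 inferInstance
          ((Subgroup.map_eq_bot_iff_of_injective _ N.subtype_injective).1 e')
      · refine hna ⟨⟨fun a b => ?_⟩⟩
        have : (a : N) ∈ center N := by
          have ha : (a : G) ∈ (center N).map N.subtype := e'.symm ▸ a.2
          obtain ⟨c, hc, hca⟩ := ha
          exact (Subtype.ext hca : c = a) ▸ hc
        exact (mem_center_iff.1 this b).symm

end Cfsg.Agent.Lib.Recog
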