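import Cfsg.Agent.Lib.Recog.OddOrthPrimeGraph
import Cfsg.Agent.Lib.AutOmega.Types

/-! Tori of the orthogonal groups of both types in characteristic two. -/

set_option autoImplicit false

namespace Cfsg.Agent.Lib.Recog.SpEight

open Polynomial QuadraticMap
open Cfsg.Agent.Lib.Classical.Quad Cfsg.Agent.Lib.Classical.QuadOmega Cfsg.Agent.Lib.Classical.OrthTorsion
open Cfsg.Agent.Lib.Classical.QuadF2 Cfsg.Agent.Lib.AutOmega
open Cfsg.Agent.Lib.Recog.OddOrthPrimeGraph

universe u v w

variable {F : Type u} [Field F] [Fintype F] [CharP F 2]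

omit [Fintype F] [CharP F 2] in
theorem conj_injective {V : Type v} [AddCommGroup V] [Module F V] {W : Type w} [AddCommGroup W] [Module F W]
    {Q : QuadraticForm F V} {R : QuadraticForm F W} (e : V ≃ₗ[F] W) (he : ∀ v, R (e v) = Q v) :
    Function.Injective (isoConj e he) := fun g h hgh => iso_ext fun v => by
  have := congrArg (fun k : isoG R => k.1 (e v)) hgh
  simpa [isoConj_apply] using this

omit [CharP F 2] in
theorem orderOf_conj {V : Type v} [AddCommGroup V] [Module F V] {W : Type w} [AddCommGroup W] [Module F W]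
    {Q : QuadraticForm F V} {R : QuadraticForm F W} (e : V ≃ₗ[F] W) (he : ∀ v, R (e v) = Q v) (g : isoG Q) :
    orderOf (isoConj e he g) = orderOf g :=
  orderOf_injective _ (conj_injective e he) g

/-- A torus of order `q ^ e - 1` on the plus space. -/
theorem torus_plus {e : ℕ} (he : 1 ≤ e) : ∃ g : isoG (plusQ e F), orderOf g = Fintype.card F ^ e - 1 := by
  classical
  obtain ⟨A, hA⟩ := GLTorus.exists_orderOf (F := F) 2 e e he le_rfl
  have hinj : Function.Injective (glHom e (zeroQ F)) := fun a b hab => Units.ext (Matrix.ext_iff_mulVec.2 fun v => by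
    have := congrArg Prod.fst (congrArg Prod.fst (congrArg
      (fun g : isoG (splitQ e (zeroQ F)) => g.1 ((v, 0), 0)) hab))
    simpa [glHom_apply] using this)
  refine ⟨isoConj (ePlus e) (fun v => by rw [plusQ_apply, plus_apply]) (glHom e _ A), ?_⟩
  rw [orderOf_conj, orderOf_injective _ hinj, hA, Nat.card_eq_fintype_card]

/-- A torus of order `q ^ (e + 1) + 1` on the minus space. -/
theorem torus_minus {a b : F} (hab : Aniso a b) (e : ℕ) :
    ∃ g : isoG (minusQ e a b), orderOf g = Fintype.card F ^ (e + 1) + 1 := by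
  classical
  haveI : NeZero (2 * (e + 1)) := ⟨by omega⟩
  let K := FiniteField.Extension F 2 (2 * (e + 1))
  haveI : Fintype K := Fintype.ofFinite K
  haveI : CharP K 2 := charP_of_injective_algebraMap (algebraMap F K).injective 2
  have hq1 : 1 < Fintype.card F := Fintype.one_lt_card
  set c := Fintype.card F ^ (e + 1) with hc
  have hc1 : 1 < c := Nat.one_lt_pow (by omega) hq1
  have hK : Nat.card K = c * c := by
    rw [FiniteField.natCard_extension, Nat.card_eq_fintype_card, hc, ← pow_add, two_mul]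
  let σ : K →ₐ[F] K := FiniteField.frobeniusAlgHom F K ^ (e + 1)
  have hσ : ∀ z : K, σ z = z ^ c := fun z => by
    show (FiniteField.frobeniusAlgHom F K ^ (e + 1)) z = _
    rw [AlgHom.coe_pow, FiniteField.coe_frobeniusAlgHom, pow_iterate]
  have hσσ : ∀ z : K, σ (σ z) = z := fun z => by
    rw [hσ, hσ, ← pow_mul, ← hK, Nat.card_eq_fintype_card, FiniteField.pow_card]
  obtain ⟨u, hu⟩ := IsCyclic.exists_generator (α := Kˣ)
  have hou : orderOf u = (c + 1) * (c - 1) := by
    rw [orderOf_eq_card_of_forall_mem_zpowers hu, Nat.card_units, hK]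
    simpa [pow_two] using Nat.sq_sub_sq c 1
  set x : Kˣ := u ^ (c - 1) with hx
  have hox : orderOf x = c + 1 := by
    rw [hx, orderOf_pow' _ (by omega), hou, Nat.gcd_mul_left_left, Nat.mul_div_cancel _ (by omega)]
  have hxσ : (x : K) * σ (x : K) = 1 := by
    rw [hσ, ← Units.val_pow_eq_pow_val, ← Units.val_mul, ← pow_succ', ← hox, pow_orderOf_eq_one, Units.val_one]
  obtain ⟨w₀, hw₀⟩ : ∃ w, w + σ w ≠ 0 := by
    by_contra! hcon
    have h1 : σ (u : K) = u := (CharTwo.add_eq_zero.1 (hcon u)).symm
    rw [hσ, ← Units.val_pow_eq_pow_val, Units.val_inj] at h1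
    have h2 : u ^ (c - 1) = 1 := mul_right_cancel (b := u) (by
      rw [one_mul, ← pow_succ, Nat.sub_add_cancel hc1.le, h1])
    rw [hx, h2, orderOf_one] at hox
    omega
  obtain ⟨ψ, hψ⟩ : ∃ ψ : Module.Dual F K, ψ (w₀ + σ w₀) ≠ 0 := by
    by_contra! hcon
    exact hw₀ ((Module.forall_dual_apply_eq_zero_iff F _).1 hcon)
  let β : K →ₗ[F] K →ₗ[F] F :=
    LinearMap.mk₂ F (fun a b => ψ (a * σ b)) (fun a b d => by simp [add_mul])
      (fun a b d => by simp) (fun a b d => by simp [mul_add]) (fun a b d => by simp)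
  set Q : QuadraticForm F K := LinearMap.BilinMap.toQuadraticMap β with hQdef
  have hQ : ∀ a, Q a = ψ (a * σ a) := fun a => rfl
  have hpol : ∀ a b, polar Q a b = ψ (a * σ b + b * σ a) := fun a b => by
    simp only [polar, hQ, map_add, add_mul, mul_add]
    ring
  have hnd : Nd Q := by
    intro a ha
    by_contra ha0
    have := ha (σ (w₀ * a⁻¹))
    rw [hpol, hσσ, show a * (w₀ * a⁻¹) = w₀ by rw [mul_left_comm, mul_inv_cancel₀ ha0, mul_one],
      ← map_mul σ, show w₀ * a⁻¹ * a = w₀ by rw [mul_assoc, inv_mul_cancel₀ ha0, mul_one]] at this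
    exact hψ this
  let m : Kˣ →* (K ≃ₗ[F] K) :=
    { toFun := fun a => LinearEquiv.ofLinear (LinearMap.mulLeft F (a : K)) (LinearMap.mulLeft F ((a⁻¹ : Kˣ) : K))
        (LinearMap.ext fun z => by simp) (LinearMap.ext fun z => by simp)
      map_one' := LinearEquiv.ext fun z => by simp
      map_mul' := fun a b => LinearEquiv.ext fun z => by simp [mul_assoc] }
  have hm : Function.Injective m := fun a b hab => Units.ext (by
    have h' := congrArg (fun g : K ≃ₗ[F] K => g 1) hab
    simpa [m] using h')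
  have hmQ : m x ∈ isoG Q := fun z => by
    show Q ((x : K) * z) = Q z
    rw [hQ, hQ, map_mul σ, show (x : K) * z * (σ (x : K) * σ z) = (x : K) * σ (x : K) * (z * σ z) by ring, hxσ, one_mul]
  have hord : orderOf (⟨m x, hmQ⟩ : isoG Q) = c + 1 := by
    rw [← Subgroup.orderOf_coe, orderOf_injective m hm, hox]
  have hdvd : c + 1 ∣ numSing Q - 1 := by
    set H := Subgroup.zpowers x with hH
    let T : Set Kˣ := {z | Q (z : K) = 0}
    have hinv : ∀ z : Kˣ, ∀ k ∈ H, z * k ∈ T ↔ z ∈ T := by
      intro z k hk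
      obtain ⟨i, hi⟩ := Subgroup.mem_zpowers_iff.1 hk
      have hk' : (k : K) * σ (k : K) = 1 := by
        have : ∀ i : ℕ, ((x ^ i : Kˣ) : K) * σ ((x ^ i : Kˣ) : K) = 1 := fun i => by
          rw [Units.val_pow_eq_pow_val, map_pow, ← mul_pow, hxσ, one_pow]
        obtain ⟨j, hj⟩ := (isOfFinOrder_of_finite x).mem_powers_iff_mem_zpowers.2 hk
        exact hj ▸ this j
      show Q ((z * k : Kˣ) : K) = 0 ↔ Q (z : K) = 0
      rw [hQ, hQ, Units.val_mul, map_mul σ,
        show (z : K) * k * (σ (z : K) * σ (k : K)) = (k : K) * σ (k : K) * (z * σ (z : K)) by ring, hk', one_mul]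
    have hpre : T = QuotientGroup.mk ⁻¹' (QuotientGroup.mk '' T : Set (Kˣ ⧸ H)) := by
      ext z
      refine ⟨fun hz => ⟨z, hz, rfl⟩, fun ⟨y, hy, hyz⟩ => ?_⟩
      have := (hinv y _ (QuotientGroup.eq.1 hyz)).2 hy
      rwa [mul_inv_cancel_left] at this
    have hT : c + 1 ∣ Nat.card T := by
      rw [hpre, Nat.card_congr (QuotientGroup.preimageMkEquivSubgroupProdSet H _), Nat.card_prod, hH,
        Nat.card_zpowers, hox]
      exact dvd_mul_right _ _
    have e : numSing Q = Nat.card T + 1 := by
      let E : {z : K // Q z = 0} ≃ Option T :=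
        { toFun := fun z => if h : z.1 = 0 then none else some ⟨Units.mk0 z.1 h, z.2⟩
          invFun := fun o => o.elim ⟨0, map_zero Q⟩ fun z => ⟨(z.1 : K), z.2⟩
          left_inv := fun z => by
            by_cases h : z.1 = 0
            · simp only [dif_pos h]; exact Subtype.ext h.symm
            · simp only [dif_neg h]; rfl
          right_inv := fun o => by
            cases o with
            | none => simp
            | some z => simp [z.1.ne_zero] }
      rw [numSing, Nat.card_congr E, Finite.card_option]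
    rw [e]; simpa using hT
  rcases exists_normal_even e hnd (by rw [FiniteField.finrank_extension]; ring) with ⟨E, hE⟩ | ⟨ζ, hζ, E, hE⟩
  · exfalso
    have hn : numSing Q = Nat.card {v : Fin (e + 1) ⊕ Fin (e + 1) → F // Cfsg.quadFormPlus (e + 1) F v = 0} :=
      (card_sing_bridge _ E.symm fun z => by rw [← hE, E.apply_symm_apply]).symm
    rw [card_sing_plus (e + 1) (by omega), show 2 * (e + 1) - 1 = (e + 1) + e by omega, Nat.add_sub_cancel,
      pow_add, ← hc] at hn
    set d := Fintype.card F ^ e with hd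
    have hd1 : 1 ≤ d := Nat.one_le_pow _ _ (by omega)
    have hdc : d < c := Nat.pow_lt_pow_right hq1 (by omega)
    have hkey : numSing Q - 1 = (c - 1) * (d + 1) := by
      rw [hn]
      clear_value c
      obtain ⟨c', rfl⟩ : ∃ c', c = c' + 1 := ⟨c - 1, by omega⟩
      simp only [Nat.add_sub_cancel, add_mul, one_mul, mul_add, mul_one]
      omega
    rw [hkey] at hdvd
    have hev : Even c := by
      obtain ⟨k, -, hk⟩ := FiniteField.card F 2
      rw [hc, hk]
      exact (Nat.even_pow.2 ⟨even_two, k.ne_zero⟩).pow_of_ne_zero (by omega)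
    have hcop : Nat.Coprime (c + 1) (c - 1) := by
      rw [show c + 1 = (c - 1) + 2 by omega, Nat.coprime_self_add_left, Nat.coprime_two_left]
      exact Nat.Even.sub_odd hc1.le hev odd_one
    have := Nat.le_of_dvd (by omega) (hcop.dvd_of_dvd_mul_left hdvd)
    omega
  · obtain ⟨e', he'⟩ := exists_bin_equiv hab hζ e
    refine ⟨isoConj e' he' (isoConj E.symm (fun z => by rw [minusQ_apply, ← hE, E.apply_symm_apply]) ⟨m x, hmQ⟩), ?_⟩
    rw [orderOf_conj, orderOf_conj, hord]

end Cfsg.Agent.Lib.Recog.SpEight
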