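import Cfsg.Agent.Lib.Recog.OddOrthPrimeGraph

/-! Unipotent elements of the orthogonal groups in dimensions four and six, in characteristic two. -/

set_option autoImplicit false

namespace Cfsg.Agent.Lib.Recog.SpEight

open QuadraticMap
open Cfsg.Agent.Lib.Classical.Quad Cfsg.Agent.Lib.Classical.QuadOmega Cfsg.Agent.Lib.Classical.QuadF2

universe u v

variable {F : Type u} [Field F] [CharP F 2]

/-- `g - 1`, as a function. -/
def dif {V : Type v} [AddCommGroup V] (g : V → V) (v : V) : V := g v + v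

theorem pow_two_pow {V : Type v} [AddCommGroup V] [Module F V] {Q : QuadraticForm F V} (g : isoG Q) (k : ℕ) (v : V) :
    (g ^ 2 ^ k).1 v + v = (dif g.1)^[2 ^ k] v := by
  have h2 : ∀ z : V, z + z = 0 := fun z => by
    have : (2 : F) • z = 0 := by rw [CharTwo.two_eq_zero, zero_smul]
    rwa [two_smul] at this
  induction k generalizing v with
  | zero => simp [dif]
  | succ k ih =>
    rw [show (2 : ℕ) ^ (k + 1) = 2 ^ k + 2 ^ k by ring, Function.iterate_add_apply, ← ih ((dif g.1)^[2 ^ k] v), ← ih v,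
      pow_add, Subgroup.coe_mul, LinearEquiv.mul_apply, map_add,
      add_assoc ((g ^ 2 ^ k).1 ((g ^ 2 ^ k).1 v)), ← add_assoc ((g ^ 2 ^ k).1 v), h2, zero_add]

theorem orderOf_of_dif {V : Type v} [AddCommGroup V] [Module F V] {Q : QuadraticForm F V} (g : isoG Q) (k : ℕ)
    (f : V) (h1 : (dif g.1)^[2 ^ k] f ≠ 0) (h2 : ∀ v, (dif g.1)^[2 ^ (k + 1)] v = 0) :
    orderOf g = 2 ^ (k + 1) := by
  have hz : ∀ z : V, z + z = 0 := fun z => by
    have : (2 : F) • z = 0 := by rw [CharTwo.two_eq_zero, zero_smul]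
    rwa [two_smul] at this
  refine orderOf_eq_prime_pow (fun h => h1 ?_) (iso_ext fun v => ?_)
  · rw [← pow_two_pow, h]; exact hz f
  · have := (pow_two_pow g (k + 1) v).trans (h2 v)
    exact add_right_cancel (this.trans (hz v).symm)

theorem polar_bin (a b : F) (x y : Fin 2 → F) : polar (binQ a b) x y = a * (x 0 * y 1 + x 1 * y 0) := by
  simp only [polar, binQ_apply, Pi.add_apply]
  linear_combination (x 0 * y 0 + b * x 1 * y 1) * (CharTwo.two_eq_zero : (2 : F) = 0)

theorem add_self_zero {V : Type v} [AddCommGroup V] [Module F V] (z : V) : z + z = 0 := by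
  have : (2 : F) • z = 0 := by rw [CharTwo.two_eq_zero, zero_smul]
  rwa [two_smul] at this

variable [Fintype F] (a b : F)

/-- The element of order four. -/
noncomputable def gFour : isoG (splitQ 1 (binQ a b)) :=
  sie (splitQ 1 (binQ a b)) ((![1], 0), 0) ((0, 0), ![0, 1]) * refl (splitQ 1 (binQ a b)) ((0, 0), ![1, 0])

omit [Fintype F] in
theorem gFour_apply (v : ((Fin 1 → F) × (Fin 1 → F)) × (Fin 2 → F)) :
    dif (gFour a b).1 v = ((![a * v.2 0 + a ^ 2 * v.2 1 + b * v.1.2 0], 0), ![a * v.2 1, v.1.2 0]) := by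
  have hw : splitQ 1 (binQ a b) (((0, 0), ![1, 0]) : ((Fin 1 → F) × (Fin 1 → F)) × (Fin 2 → F)) ≠ 0 := by
    simp [splitQ_apply, binQ_apply]
  have hx : splitQ 1 (binQ a b) (((![1], 0), 0) : ((Fin 1 → F) × (Fin 1 → F)) × (Fin 2 → F)) = 0 := by
    simp [splitQ_apply, binQ_apply]
  have hxu : polar (splitQ 1 (binQ a b)) (((![1], 0), 0) : ((Fin 1 → F) × (Fin 1 → F)) × (Fin 2 → F))
      ((0, 0), ![0, 1]) = 0 := by simp [polar_splitQ, polar_bin]
  rw [dif, gFour, Subgroup.coe_mul, LinearEquiv.mul_apply, refl_apply hw, sie_apply hx hxu]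
  refine Prod.ext (Prod.ext (funext fun i => ?_) (funext fun i => ?_)) (funext fun i => ?_) <;> fin_cases i <;>
    simp [polar_splitQ, polar_bin, splitQ_apply, binQ_apply, CharTwo.sub_eq_add, Matrix.vecHead, Matrix.vecTail] <;> ring_nf <;>
    simp [CharTwo.two_eq_zero]

theorem gFour_order (ha : a ≠ 0) : orderOf (gFour a b) = 4 :=
  orderOf_of_dif (gFour a b) 1 ((0, ![1]), 0) (fun h => ha (by
    simpa [Function.iterate_succ, gFour_apply] using congrArg (fun p => p.2 0) h))
    fun v => by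
      simp [Function.iterate_succ, gFour_apply]

omit [Fintype F] in
/-- The sum of the powers below four. -/
theorem gFour_sum (ha : a ≠ 0) :
    ∑ i ∈ Finset.range 4, (gFour a b ^ i).1 (((0, ![1]), 0) : ((Fin 1 → F) × (Fin 1 → F)) × (Fin 2 → F)) ≠ 0 := by
  set f : ((Fin 1 → F) × (Fin 1 → F)) × (Fin 2 → F) := ((0, ![1]), 0) with hf
  have e : ∑ i ∈ Finset.range 4, (gFour a b ^ i).1 f = (dif (gFour a b).1)^[3] f := by
    have h3 : ∀ p q r s : ((Fin 1 → F) × (Fin 1 → F)) × (Fin 2 → F),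
        p + q + r + s = s + r + (r + q) + (r + q + (q + p)) := fun p q r s => by
      rw [show s + r + (r + q) + (r + q + (q + p)) = p + q + r + s + (r + r + (q + q)) by abel,
        add_self_zero (F := F) r, add_self_zero (F := F) q, add_zero, add_zero]
    simp only [Finset.sum_range_succ, Finset.sum_range_zero, zero_add, Function.iterate_succ_apply,
      Function.iterate_zero_apply, dif, map_add, pow_succ, pow_zero, Subgroup.coe_one, Subgroup.coe_mul,
      LinearEquiv.mul_apply, one_mul, LinearEquiv.coe_one, id_eq]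
    exact h3 _ _ _ _
  rw [e]
  intro h
  exact mul_ne_zero ha ha (by simpa [Function.iterate_succ, gFour_apply, hf] using congrArg (fun p => p.1.1 0) h)

theorem gFour_fix (ha : a ≠ 0) : Module.finrank F (fixS (gFour a b)) = 1 := by
  have e : fixS (gFour a b) =
      F ∙ (((![1], 0), 0) : ((Fin 1 → F) × (Fin 1 → F)) × (Fin 2 → F)) := by
    ext v
    have hd : (gFour a b).1 v = v ↔ dif (gFour a b).1 v = 0 := by
      refine ⟨fun h => ?_, fun h => add_right_cancel (h.trans (add_self_zero (F := F) v).symm)⟩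
      rw [dif, h, add_self_zero (F := F) v]
    rw [mem_fixS, hd, gFour_apply, Submodule.mem_span_singleton]
    constructor
    · intro h
      have h0 := congrArg (fun p => p.1.1 0) h
      have h1 := congrArg (fun p => p.2 0) h
      have h2 := congrArg (fun p => p.2 1) h
      simp [ha] at h0 h1 h2
      simp [h1, h2, ha] at h0
      refine ⟨v.1.1 0, Prod.ext (Prod.ext (funext fun i => ?_) (funext fun i => ?_)) (funext fun i => ?_)⟩ <;>
        fin_cases i <;> simp [h0, h1, h2]
    · rintro ⟨c, rfl⟩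
      simp
  rw [e, finrank_span_singleton]
  intro h
  simpa using congrArg (fun p => p.1.1 0) h

/-- The element of order eight. -/
noncomputable def gEight : isoG (splitQ 2 (binQ a b)) :=
  glHom 2 (binQ a b)
      ⟨!![1, 1; 0, 1], !![1, 1; 0, 1],
        by ext i j; fin_cases i <;> fin_cases j <;> simp [Matrix.mul_apply, CharTwo.add_self_eq_zero],
        by ext i j; fin_cases i <;> fin_cases j <;> simp [Matrix.mul_apply, CharTwo.add_self_eq_zero]⟩ *
    (sie (splitQ 2 (binQ a b)) ((![0, 1], 0), 0) ((0, 0), ![0, 1]) * refl (splitQ 2 (binQ a b)) ((0, 0), ![1, 0]))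

omit [Fintype F] in
theorem gEight_apply (v : ((Fin 2 → F) × (Fin 2 → F)) × (Fin 2 → F)) :
    dif (gEight a b).1 v = ((![v.1.1 1 + a * v.2 0 + a ^ 2 * v.2 1 + b * v.1.2 1,
      a * v.2 0 + a ^ 2 * v.2 1 + b * v.1.2 1], ![0, v.1.2 0]), ![a * v.2 1, v.1.2 1]) := by
  have hw : splitQ 2 (binQ a b) (((0, 0), ![1, 0]) : ((Fin 2 → F) × (Fin 2 → F)) × (Fin 2 → F)) ≠ 0 := by
    simp [splitQ_apply, binQ_apply]
  have hx : splitQ 2 (binQ a b) (((![0, 1], 0), 0) : ((Fin 2 → F) × (Fin 2 → F)) × (Fin 2 → F)) = 0 := by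
    simp [splitQ_apply, binQ_apply]
  have hxu : polar (splitQ 2 (binQ a b)) (((![0, 1], 0), 0) : ((Fin 2 → F) × (Fin 2 → F)) × (Fin 2 → F))
      ((0, 0), ![0, 1]) = 0 := by simp [polar_splitQ, polar_bin]
  rw [dif, gEight, Subgroup.coe_mul, Subgroup.coe_mul, LinearEquiv.mul_apply, LinearEquiv.mul_apply,
    refl_apply hw, sie_apply hx hxu, glHom_apply]
  refine Prod.ext (Prod.ext (funext fun i => ?_) (funext fun i => ?_)) (funext fun i => ?_) <;> fin_cases i <;>
    simp [polar_splitQ, polar_bin, splitQ_apply, binQ_apply, CharTwo.sub_eq_add, Matrix.vecHead, Matrix.vecTail, Matrix.mulVec, Matrix.vecMul,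
      dotProduct, Fin.sum_univ_two] <;> ring_nf <;> simp [CharTwo.two_eq_zero]

omit [Fintype F] in
theorem gEight_two (v : ((Fin 2 → F) × (Fin 2 → F)) × (Fin 2 → F)) :
    (dif (gEight a b).1)^[2] v = ((![a * v.2 0 + (b + a ^ 2) * v.1.2 1 + b * v.1.2 0,
      a ^ 2 * v.2 1 + a ^ 2 * v.1.2 1 + b * v.1.2 0], ![0, 0]), ![a * v.1.2 1, v.1.2 0]) := by
  rw [Function.iterate_succ_apply, Function.iterate_one, gEight_apply, gEight_apply]
  refine Prod.ext (Prod.ext (funext fun i => ?_) (funext fun i => ?_)) (funext fun i => ?_) <;> fin_cases i <;>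
    simp [Matrix.vecHead, Matrix.vecTail] <;> ring_nf <;> simp [CharTwo.two_eq_zero]

omit [Fintype F] in
theorem gEight_four (v : ((Fin 2 → F) × (Fin 2 → F)) × (Fin 2 → F)) :
    (dif (gEight a b).1)^[4] v = ((![a ^ 2 * v.1.2 1, a ^ 2 * v.1.2 0], 0), 0) := by
  rw [show (4 : ℕ) = 2 + 2 from rfl, Function.iterate_add_apply, gEight_two, gEight_two]
  refine Prod.ext (Prod.ext (funext fun i => ?_) (funext fun i => ?_)) (funext fun i => ?_) <;> fin_cases i <;>
    simp [Matrix.vecHead, Matrix.vecTail] <;> ring_nf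

theorem gEight_order (ha : a ≠ 0) : orderOf (gEight a b) = 8 :=
  orderOf_of_dif (gEight a b) 2 ((0, ![1, 0]), 0) (fun h => by
    rw [show (2 : ℕ) ^ 2 = 4 from rfl, gEight_four] at h
    have h' := congrArg (fun p => p.1.1 1) h
    simp [ha] at h') fun v => by
    rw [show (2 : ℕ) ^ (2 + 1) = 4 + 4 from rfl, Function.iterate_add_apply, gEight_four, gEight_four]
    simp

end Cfsg.Agent.Lib.Recog.SpEight
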