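import Cfsg.Agent.Lib.Recog.SpEightBound
import Cfsg.Agent.Lib.Recog.SpEightTori
import Cfsg.Agent.Lib.Recog.SpEightUnip

/-! Element orders in the orthogonal group of minus type in dimension eight, characteristic two. -/

set_option autoImplicit false

namespace Cfsg.Agent.Lib.Recog.SpEight

open QuadraticMap
open Cfsg.Agent.Lib.Classical.Quad Cfsg.Agent.Lib.Classical.QuadOmega Cfsg.Agent.Lib.Classical.OrthTorsion
open Cfsg.Agent.Lib.Classical.QuadF2 Cfsg.Agent.Lib.AutOmega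
open Cfsg.Agent.Lib.Recog.OddOrthPrimeGraph

universe u v w x

variable {F : Type u} [Field F]
variable {V : Type v} [AddCommGroup V] [Module F V] {W : Type w} [AddCommGroup W] [Module F W]
variable {X : Type x} [AddCommGroup X] [Module F X]

/-- An element of odd order divisible by `T`. -/
def HasOdd (Q : QuadraticForm F V) (T : ℕ) : Prop := ∃ g : isoG Q, Odd (orderOf g) ∧ T ∣ orderOf g

/-- An element with order divisible by `2 ^ k`. -/
def HasTwo (Q : QuadraticForm F V) (k : ℕ) : Prop := ∃ g : isoG Q, 2 ^ k ∣ orderOf g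

/-- An element of order `2 ^ k` with trivial Dickson invariant and a moving vector. -/
def HasLift [Fintype F] [Finite V] {Q : QuadraticForm F V} (hQ : Nd Q) (k : ℕ) : Prop :=
  ∃ (g : isoG Q) (w : V), dick hQ g = 1 ∧ orderOf g = 2 ^ k ∧ ∑ i ∈ Finset.range (2 ^ k), (g ^ i).1 w ≠ 0

section general

variable {Q : QuadraticForm F V} {R : QuadraticForm F W} {S : QuadraticForm F X}

theorem HasOdd.one : HasOdd Q 1 := ⟨1, by rw [orderOf_one]; exact odd_one, one_dvd _⟩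

theorem HasOdd.map {T : ℕ} (h : HasOdd Q T) (e : V ≃ₗ[F] W) (he : ∀ v, R (e v) = Q v) : HasOdd R T := by
  obtain ⟨g, hg⟩ := h
  exact ⟨isoConj e he g, by rwa [orderOf_injective _ (conj_injective e he)]⟩

theorem HasTwo.map {k : ℕ} (h : HasTwo Q k) (e : V ≃ₗ[F] W) (he : ∀ v, R (e v) = Q v) : HasTwo R k := by
  obtain ⟨g, hg⟩ := h
  exact ⟨isoConj e he g, by rwa [orderOf_injective _ (conj_injective e he)]⟩

theorem orderOf_pair (e : (V × W) ≃ₗ[F] X) (he : ∀ p, S (e p) = Q.prod R p) (g : isoG Q) (h : isoG R) :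
    orderOf (isoConj e he (prodHom Q R (g, h))) = Nat.lcm (orderOf g) (orderOf h) := by
  rw [orderOf_injective _ (conj_injective e he), orderOf_injective _ (prodHom_injective Q R), Prod.orderOf]

theorem HasOdd.pair {T T' : ℕ} (hQ : HasOdd Q T) (hR : HasOdd R T') (e : (V × W) ≃ₗ[F] X)
    (he : ∀ p, S (e p) = Q.prod R p) : HasOdd S (Nat.lcm T T') := by
  obtain ⟨g, hg, hgT⟩ := hQ
  obtain ⟨h, hh, hhT⟩ := hR
  refine ⟨isoConj e he (prodHom Q R (g, h)), ?_, ?_⟩ <;> rw [orderOf_pair e he g h]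
  · have := hg.mul hh
    rw [← Nat.gcd_mul_lcm] at this
    exact (Nat.odd_mul.1 this).2
  · exact Nat.lcm_dvd (hgT.trans (Nat.dvd_lcm_left _ _)) (hhT.trans (Nat.dvd_lcm_right _ _))

/-- An odd part and a power of two. -/
theorem order_two {T k : ℕ} (hQ : HasOdd Q T) (hR : HasTwo R k) (e : (V × W) ≃ₗ[F] X)
    (he : ∀ p, S (e p) = Q.prod R p) : ∃ g : isoG S, 2 ^ k * T ∣ orderOf g := by
  obtain ⟨g, hg, hgT⟩ := hQ
  obtain ⟨h, hh⟩ := hR
  refine ⟨isoConj e he (prodHom Q R (g, h)), ?_⟩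
  rw [orderOf_pair e he g h]
  exact ((Nat.coprime_two_left.2 (hg.of_dvd_nat hgT)).pow_left k).mul_dvd_of_dvd_of_dvd
    (hh.trans (Nat.dvd_lcm_right _ _)) (hgT.trans (Nat.dvd_lcm_left _ _))

variable [Fintype F] [Finite V] [Finite W] [Finite X]

theorem dick_conj (hQ : Nd Q) (hR : Nd R) (e : V ≃ₗ[F] W) (he : ∀ v, R (e v) = Q v) (g : isoG Q) :
    dick hR (isoConj e he g) = dick hQ g := by
  have hs : fixS (isoConj e he g) = (fixS g).map e.toLinearMap := by
    ext w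
    obtain ⟨v, rfl⟩ := e.surjective w
    simp [mem_fixS, isoConj_apply]
  rw [dick_eq, dick_eq, hs, LinearEquiv.finrank_map_eq, e.finrank_eq]

theorem dick_prod (hQ : Nd Q) (hR : Nd R) (g : isoG Q) (h : isoG R) :
    dick (nd_prod hQ hR) (prodHom Q R (g, h)) = dick hQ g * dick hR h := by
  haveI := Module.Finite.of_finite (R := F) (M := V)
  haveI := Module.Finite.of_finite (R := F) (M := W)
  have hs : fixS (prodHom Q R (g, h)) = (fixS g).prod (fixS h) := by
    ext p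
    simp [mem_fixS, prodHom_apply, Prod.ext_iff]
  let E : ((fixS g).prod (fixS h)) ≃ₗ[F] fixS g × fixS h :=
    { toFun := fun p => (⟨p.1.1, p.2.1⟩, ⟨p.1.2, p.2.2⟩)
      invFun := fun p => ⟨(p.1.1, p.2.1), p.1.2, p.2.2⟩
      left_inv := fun p => rfl
      right_inv := fun p => rfl
      map_add' := fun _ _ => rfl
      map_smul' := fun _ _ => rfl }
  rw [dick_eq, dick_eq, dick_eq, hs, E.finrank_eq, Module.finrank_prod, Module.finrank_prod, ← pow_add]
  ring_nf

theorem dick_odd (hQ : Nd Q) {g : isoG Q} (hg : Odd (orderOf g)) : dick hQ g = 1 := by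
  rcases Int.units_eq_one_or (dick hQ g) with h | h
  · exact h
  · have := congrArg (dick hQ) (pow_orderOf_eq_one g)
    rw [map_pow, map_one, h, hg.neg_one_pow] at this
    exact absurd this (by decide)

theorem HasLift.map {k : ℕ} {hQ : Nd Q} (h : HasLift hQ k) (hR : Nd R) (e : V ≃ₗ[F] W)
    (he : ∀ v, R (e v) = Q v) : HasLift hR k := by
  obtain ⟨g, w, hd, ho, hs⟩ := h
  refine ⟨isoConj e he g, e w, by rw [dick_conj hQ hR, hd], by rwa [orderOf_injective _ (conj_injective e he)], ?_⟩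
  intro h
  apply hs
  refine e.injective ?_
  rw [map_sum, map_zero]
  refine Eq.trans (Finset.sum_congr rfl fun i _ => ?_) h
  rw [← map_pow, isoConj_apply, e.symm_apply_apply]

/-- The lift of an odd part and a power of two. -/
theorem order_lift {T k : ℕ} (hQ : HasOdd Q T) {hn : Nd Q} {hm : Nd R} (hR : HasLift hm k) (hS : Nd S)
    (e : (V × W) ≃ₗ[F] X) (he : ∀ p, S (e p) = Q.prod R p) [CharP F 2] :
    ∃ (g : isoG S) (w : X), dick hS g = 1 ∧ 2 ^ k * T ∣ orderOf g ∧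
      ∑ i ∈ Finset.range (orderOf g), (g ^ i).1 w ≠ 0 := by
  obtain ⟨g, hg, hgT⟩ := hQ
  obtain ⟨u, w, hd, ho, hs⟩ := hR
  set G := isoConj e he (prodHom Q R (g, u)) with hG
  have hoG : orderOf G = 2 ^ k * orderOf g := by
    rw [hG, orderOf_pair e he g u, ho, Nat.lcm_comm]
    exact ((Nat.coprime_two_left.2 hg).pow_left k).lcm_eq_mul
  refine ⟨G, e (0, w), ?_, ?_, ?_⟩
  · rw [hG, dick_conj (nd_prod hn hm) hS, dick_prod hn hm, dick_odd hn hg, hd, one_mul]
  · rw [hoG]; exact mul_dvd_mul_left _ hgT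
  · have hterm : ∀ i, (G ^ i).1 (e (0, w)) = e (0, (u ^ i).1 w) := fun i => by
      rw [hG, ← map_pow, ← map_pow, isoConj_apply, e.symm_apply_apply, prodHom_apply, map_zero]
      rfl
    have hper : ∀ m : ℕ, ∑ i ∈ Finset.range (2 ^ k * m), (u ^ i).1 w =
        (m : F) • ∑ i ∈ Finset.range (2 ^ k), (u ^ i).1 w := by
      intro m
      induction m with
      | zero => simp
      | succ m ih =>
        rw [Nat.mul_succ, Finset.sum_range_add, ih, Nat.cast_succ, add_smul, one_smul]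
        congr 1
        refine Finset.sum_congr rfl fun i _ => ?_
        rw [pow_add, pow_mul, ← ho, pow_orderOf_eq_one, one_pow, one_mul]
    rw [Finset.sum_congr rfl fun i _ => hterm i, hoG, ← map_sum, ne_eq, LinearEquiv.map_eq_zero_iff]
    intro h
    apply hs
    have h2 := congrArg Prod.snd h
    rw [Prod.snd_sum, hper] at h2
    have h1 : ((orderOf g : ℕ) : F) = 1 := by
      obtain ⟨m, hm'⟩ := hg
      rw [hm', Nat.cast_add, Nat.cast_mul, Nat.cast_one, Nat.cast_two, CharTwo.two_eq_zero, zero_mul, zero_add]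
    simpa [h1] using h2

end general

/-! ### The blocks -/

variable [Fintype F]

theorem finite_even [CharP F 2] : Even (Fintype.card F) := by
  obtain ⟨k, -, hk⟩ := FiniteField.card F 2
  exact hk ▸ Nat.even_pow.2 ⟨even_two, k.ne_zero⟩

/-- The split form with a split plane is the plus form. -/
noncomputable def plusEquiv (F : Type u) [Field F] (m : ℕ) :
    (((Fin m → F) × (Fin m → F)) × (Fin 2 → F)) ≃ₗ[F] (Fin (m + 1) ⊕ Fin (m + 1) → F) where
  toFun p := Sum.elim (Fin.snoc p.1.1 (p.2 0)) (Fin.snoc p.1.2 (p.2 0 + p.2 1))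
  invFun v := ((Fin.init fun i => v (.inl i), Fin.init fun i => v (.inr i)),
    ![v (.inl (Fin.last m)), v (.inr (Fin.last m)) - v (.inl (Fin.last m))])
  left_inv p := Prod.ext (Prod.ext (funext fun i => by simp [Fin.init]) (funext fun i => by simp [Fin.init]))
    (funext fun i => by fin_cases i <;> simp)
  right_inv v := by ext (i | i) <;> refine Fin.lastCases ?_ (fun j => ?_) i <;> simp [Fin.init]
  map_add' p r := by
    ext (i | i) <;> refine Fin.lastCases ?_ (fun j => ?_) i <;> simp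
    abel
  map_smul' c p := by ext (i | i) <;> refine Fin.lastCases ?_ (fun j => ?_) i <;> simp [mul_add]

omit [Fintype F] in
theorem plusEquiv_spec (m : ℕ) (p : ((Fin m → F) × (Fin m → F)) × (Fin 2 → F)) :
    plusQ (m + 1) F (plusEquiv F m p) = splitQ m (binQ (1 : F) 0) p := by
  simp [plusQ_apply, Cfsg.quadFormPlus, plusEquiv, splitQ_apply, binQ_apply, Fin.sum_univ_castSucc]
  ring

variable {a b : F}

omit [Fintype F] in
theorem minusEquiv_spec (m : ℕ) (p : ((Fin m → F) × (Fin m → F)) × (Fin 2 → F)) :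
    minusQ m a b (eMinus m p) = splitQ m (binQ a b) p := by rw [minusQ_apply, minus_apply]

theorem aniso_ne (hab : Aniso a b) [CharP F 2] : a ≠ 0 := fun h => aniso_disc hab (by
  rw [h, show (4 : F) = 2 * 2 by norm_num, (CharTwo.two_eq_zero : (2 : F) = 0)]; ring)

/-- Splitting off blocks. -/
theorem pm {i j n : ℕ} (h : i + j = n) : ∃ e : ((Fin i ⊕ Fin i → F) × ((Fin j ⊕ Fin j) ⊕ Fin 2 → F)) ≃ₗ[F]
    ((Fin n ⊕ Fin n) ⊕ Fin 2 → F), ∀ v, minusQ n a b (e v) = (plusQ i F).prod (minusQ j a b) v := by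
  subst h; exact exists_plus_minus i j a b

/-- Splitting off blocks, the other way round. -/
theorem mp {i j n : ℕ} (h : i + j = n) : ∃ e : (((Fin j ⊕ Fin j) ⊕ Fin 2 → F) × (Fin i ⊕ Fin i → F)) ≃ₗ[F]
    ((Fin n ⊕ Fin n) ⊕ Fin 2 → F), ∀ v, minusQ n a b (e v) = (minusQ j a b).prod (plusQ i F) v := by
  obtain ⟨e, he⟩ := pm (a := a) (b := b) h
  exact ⟨(LinearEquiv.prodComm F _ _).trans e, fun v => by
    rw [LinearEquiv.trans_apply, he]; simp [add_comm]⟩

variable [CharP F 2]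

theorem odd_plus {e : ℕ} (he : 1 ≤ e) : HasOdd (plusQ e F) (Fintype.card F ^ e - 1) := by
  obtain ⟨g, hg⟩ := torus_plus (F := F) he
  refine ⟨g, ?_, hg ▸ dvd_rfl⟩
  rw [hg]
  exact Nat.Even.sub_odd (Nat.one_le_pow _ _ Fintype.card_pos) (finite_even.pow_of_ne_zero (by omega)) odd_one

theorem odd_minus (hab : Aniso a b) (e : ℕ) : HasOdd (minusQ e a b) (Fintype.card F ^ (e + 1) + 1) := by
  obtain ⟨g, hg⟩ := torus_minus hab e
  exact ⟨g, hg ▸ (finite_even.pow_of_ne_zero (by omega)).add_one, hg ▸ dvd_rfl⟩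

theorem two_refl {V : Type v} [AddCommGroup V] [Module F V] {Q : QuadraticForm F V} (hQ : Nd Q) [Nontrivial V] :
    ∃ (r : isoG Q) (w : V), orderOf r = 2 ∧ r.1 w ≠ w ∧ ∀ [Finite V], dick hQ r = -1 := by
  obtain ⟨w, hw⟩ := hQ.exists_nonsing
  have hw0 : w ≠ 0 := fun h => hw (by rw [h, map_zero])
  obtain ⟨y, hy⟩ := hQ.exists_one hw0
  have hne : (refl Q w).1 y ≠ y := by
    rw [refl_apply hw, ne_eq, sub_eq_self, smul_eq_zero, div_eq_zero_iff, polar_comm, hy]
    simp [hw, hw0]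
  exact ⟨refl Q w, y, orderOf_eq_prime (by rw [pow_two, refl_mul_self hw]) fun h => hne (by rw [h]; rfl), hne,
    dick_refl hQ hw⟩

theorem nontriv_plus {i : ℕ} : Nontrivial (Fin (i + 1) ⊕ Fin (i + 1) → F) := inferInstance

theorem one_two (hab : Aniso a b) : HasTwo (plusQ 1 F) 1 ∧ HasTwo (minusQ 0 a b) 1 := by
  obtain ⟨r, -, hr, -⟩ := two_refl (nd_plusQ (F := F) 1)
  obtain ⟨s, -, hs, -⟩ := two_refl (nd_minusQ hab 0)
  exact ⟨⟨r, by rw [hr]; norm_num⟩, ⟨s, by rw [hs]; norm_num⟩⟩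

theorem two_two (hab : Aniso a b) : HasTwo (plusQ 2 F) 2 ∧ HasTwo (minusQ 1 a b) 2 := by
  have h1 : HasTwo (splitQ 1 (binQ (1 : F) 0)) 2 := ⟨gFour 1 0, by rw [gFour_order 1 0 one_ne_zero]; norm_num⟩
  have h2 : HasTwo (splitQ 1 (binQ a b)) 2 := ⟨gFour a b, by rw [gFour_order a b (aniso_ne hab)]; norm_num⟩
  exact ⟨h1.map (plusEquiv F 1) (plusEquiv_spec 1), h2.map (eMinus 1) (minusEquiv_spec 1)⟩

theorem three_two (hab : Aniso a b) : HasTwo (plusQ 3 F) 3 ∧ HasTwo (minusQ 2 a b) 3 := by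
  have h1 : HasTwo (splitQ 2 (binQ (1 : F) 0)) 3 := ⟨gEight 1 0, by rw [gEight_order 1 0 one_ne_zero]; norm_num⟩
  have h2 : HasTwo (splitQ 2 (binQ a b)) 3 := ⟨gEight a b, by rw [gEight_order a b (aniso_ne hab)]; norm_num⟩
  exact ⟨h1.map (plusEquiv F 2) (plusEquiv_spec 2), h2.map (eMinus 2) (minusEquiv_spec 2)⟩

theorem lift_one {V : Type v} [AddCommGroup V] [Module F V] [Finite V] [Nontrivial V] {Q : QuadraticForm F V}
    (hQ : Nd Q) : HasLift hQ 0 := by
  obtain ⟨w, hw⟩ := exists_ne (0 : V)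
  exact ⟨1, w, map_one _, by rw [orderOf_one, pow_zero], by simpa using hw⟩

theorem lift_two {V : Type v} [AddCommGroup V] [Module F V] [Finite V] [Nontrivial V] {Q : QuadraticForm F V}
    (hQ : Nd Q) {W : Type w} [AddCommGroup W] [Module F W] [Finite W] [Nontrivial W] {R : QuadraticForm F W}
    (hR : Nd R) : HasLift (nd_prod hQ hR) 1 := by
  obtain ⟨r, v, hr, hrv, hrd⟩ := two_refl hQ
  obtain ⟨s, -, hs, -, hsd⟩ := two_refl hR
  refine ⟨prodHom Q R (r, s), (v, 0), by rw [dick_prod hQ hR, hrd, hsd]; rfl, ?_, ?_⟩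
  · rw [orderOf_injective _ (prodHom_injective Q R), Prod.orderOf, hr, hs, Nat.lcm_self, pow_one]
  · rw [pow_one, Finset.sum_range_succ, Finset.sum_range_one, pow_zero, pow_one]
    intro h
    apply hrv
    have h' : v + r.1 v = 0 := by simpa [prodHom_apply] using congrArg Prod.fst h
    exact (eq_neg_of_add_eq_zero_right h').trans (neg_eq_of_add_eq_zero_left (add_self_zero (F := F) v))

theorem lift_three {W : Type w} [AddCommGroup W] [Module F W] [Finite W] [Nontrivial W] {R : QuadraticForm F W}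
    (hR : Nd R) : HasLift (nd_prod (nd_plusQ (F := F) 2) hR) 2 := by
  obtain ⟨s, -, hs, -, hsd⟩ := two_refl hR
  set g := isoConj (plusEquiv F 1) (plusEquiv_spec 1) (gFour (1 : F) 0) with hg
  have hgd : dick (nd_plusQ 2) g = -1 := by
    have hn : Nd (splitQ 1 (binQ (1 : F) 0)) := nd_map (plusEquiv F 1).symm (fun v => by
      rw [← plusEquiv_spec, LinearEquiv.apply_symm_apply]) (nd_plusQ 2)
    rw [hg, dick_conj hn, dick_eq, gFour_fix 1 0 one_ne_zero, (plusEquiv F 1).finrank_eq, finrank_plus]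
    decide
  have hgo : orderOf g = 4 := by rw [hg, orderOf_conj, gFour_order 1 0 one_ne_zero]
  refine ⟨prodHom _ R (g, s), (plusEquiv F 1 ((0, ![1]), 0), 0), by rw [dick_prod (nd_plusQ 2) hR, hgd, hsd]; rfl, ?_, ?_⟩
  · rw [orderOf_injective _ (prodHom_injective _ R), Prod.orderOf, hgo, hs]; rfl
  · intro h
    apply gFour_sum (1 : F) 0 one_ne_zero
    refine (plusEquiv F 1).injective ?_
    rw [map_sum, map_zero]
    have h' := congrArg Prod.fst h
    rw [Prod.fst_sum] at h'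
    refine Eq.trans (Finset.sum_congr rfl fun i _ => ?_) h'
    rw [← map_pow, prodHom_apply, Prod.pow_mk, hg, ← map_pow, isoConj_apply, LinearEquiv.symm_apply_apply]

theorem lift_blocks (hab : Aniso a b) :
    (HasLift (nd_plusQ (F := F) 1) 0 ∧ HasLift (nd_minusQ hab 0) 0) ∧
    (HasLift (nd_plusQ (F := F) 2) 1 ∧ HasLift (nd_minusQ hab 1) 1) ∧
    (HasLift (nd_plusQ (F := F) 3) 2 ∧ HasLift (nd_minusQ hab 2) 2) := by
  refine ⟨⟨lift_one _, lift_one _⟩, ⟨?_, ?_⟩, ?_, ?_⟩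
  · obtain ⟨e, he⟩ := exists_plus_plus (F := F) 1 1
    exact (lift_two (nd_plusQ 1) (nd_plusQ 1)).map (nd_plusQ 2) e he
  · obtain ⟨e, he⟩ := pm (a := a) (b := b) (show 1 + 0 = 1 from rfl)
    exact (lift_two (nd_plusQ 1) (nd_minusQ hab 0)).map (nd_minusQ hab 1) e he
  · obtain ⟨e, he⟩ := exists_plus_plus (F := F) 2 1
    exact (lift_three (nd_plusQ 1)).map (nd_plusQ 3) e he
  · obtain ⟨e, he⟩ := pm (a := a) (b := b) (show 2 + 0 = 2 from rfl)
    exact (lift_three (nd_minusQ hab 0)).map (nd_minusQ hab 2) e he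

/-- Each torus part, with the size of the power-of-two part. -/
theorem split (hab : Aniso a b) {k T : ℕ} (h : Cand (Fintype.card F) k T) :
    (k = 0 ∧ HasOdd (minusQ 3 a b) T) ∨
    (k = 1 ∧ (HasOdd (plusQ 3 F) T ∨ HasOdd (minusQ 2 a b) T)) ∨
    (k = 2 ∧ (HasOdd (plusQ 2 F) T ∨ HasOdd (minusQ 1 a b) T)) ∨
    (k = 3 ∧ (HasOdd (plusQ 1 F) T ∨ HasOdd (minusQ 0 a b) T)) := by
  set q := Fintype.card F with hq
  have p1 : HasOdd (plusQ 1 F) (q - 1) := by simpa using odd_plus (F := F) (e := 1) le_rfl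
  have p2 := odd_plus (F := F) (e := 2) one_le_two
  have p3 := odd_plus (F := F) (e := 3) (by norm_num)
  have m0 : HasOdd (minusQ 0 a b) (q + 1) := by simpa using odd_minus hab 0
  have m1 := odd_minus hab 1
  have m2 := odd_minus hab 2
  rcases h with ⟨rfl, h⟩ | ⟨rfl, h⟩ | ⟨rfl, h⟩ | ⟨rfl, h⟩
  · refine Or.inl ⟨rfl, ?_⟩
    rcases h with rfl | rfl | rfl | rfl
    · exact odd_minus hab 3
    · obtain ⟨e, he⟩ := pm (a := a) (b := b) (show 2 + 1 = 3 from rfl)
      convert p2.pair m1 e he using 1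
      have hev : Even (q ^ 2) := (finite_even (F := F)).pow_of_ne_zero two_ne_zero
      have h1 : 1 ≤ q ^ 2 := Nat.one_le_pow _ _ Fintype.card_pos
      have hcop : Nat.Coprime (q ^ 2 - 1) (q ^ 2 + 1) := by
        rw [show q ^ 2 + 1 = 2 + (q ^ 2 - 1) by omega, Nat.coprime_add_self_right, Nat.coprime_two_right]
        exact Nat.Even.sub_odd h1 hev odd_one
      rw [hcop.lcm_eq_mul, mul_comm, show q ^ 4 = (q ^ 2) ^ 2 by ring]
      simpa using Nat.sq_sub_sq (q ^ 2) 1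
    · obtain ⟨e, he⟩ := mp (a := a) (b := b) (show 1 + 2 = 3 from rfl)
      exact m2.pair p1 e he
    · obtain ⟨e, he⟩ := pm (a := a) (b := b) (show 3 + 0 = 3 from rfl)
      exact p3.pair m0 e he
  · refine Or.inr (Or.inl ⟨rfl, ?_⟩)
    rcases h with rfl | rfl | rfl | rfl | rfl
    · exact Or.inr m2
    · exact Or.inl p3
    · obtain ⟨e, he⟩ := exists_minus_minus (F := F) 1 0 hab
      exact Or.inl (m1.pair m0 e he)
    · obtain ⟨e, he⟩ := mp (a := a) (b := b) (show 1 + 1 = 2 from rfl)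
      exact Or.inr (m1.pair p1 e he)
    · obtain ⟨e, he⟩ := exists_plus_plus (F := F) 2 1
      refine Or.inl ?_
      simpa using p2.pair (HasOdd.one (Q := plusQ 1 F)) e he
  · refine Or.inr (Or.inr (Or.inl ⟨rfl, ?_⟩))
    rcases h with rfl | rfl
    · exact Or.inr m1
    · exact Or.inl p2
  · refine Or.inr (Or.inr (Or.inr ⟨rfl, ?_⟩))
    rcases h with rfl | rfl
    · exact Or.inr m0
    · exact Or.inl p1

/-- All candidates are orders in the minus group. -/
theorem exists_order (hab : Aniso a b) {k T : ℕ} (h : Cand (Fintype.card F) k T) :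
    ∃ g : isoG (minusQ 3 a b), 2 ^ k * T ∣ orderOf g := by
  rcases split hab h with ⟨rfl, g, -, hg⟩ | ⟨rfl, h' | h'⟩ | ⟨rfl, h' | h'⟩ | ⟨rfl, h' | h'⟩
  · exact ⟨g, by rwa [pow_zero, one_mul]⟩
  · obtain ⟨e, he⟩ := pm (a := a) (b := b) (show 3 + 0 = 3 from rfl)
    exact order_two h' (one_two hab).2 e he
  · obtain ⟨e, he⟩ := mp (a := a) (b := b) (show 1 + 2 = 3 from rfl)
    exact order_two h' (one_two hab).1 e he
  · obtain ⟨e, he⟩ := pm (a := a) (b := b) (show 2 + 1 = 3 from rfl)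
    exact order_two h' (two_two hab).2 e he
  · obtain ⟨e, he⟩ := mp (a := a) (b := b) (show 2 + 1 = 3 from rfl)
    exact order_two h' (two_two hab).1 e he
  · obtain ⟨e, he⟩ := pm (a := a) (b := b) (show 1 + 2 = 3 from rfl)
    exact order_two h' (three_two hab).2 e he
  · obtain ⟨e, he⟩ := mp (a := a) (b := b) (show 3 + 0 = 3 from rfl)
    exact order_two h' (three_two hab).1 e he

/-- All candidates lift to the split extension. -/
theorem exists_lift (hab : Aniso a b) {k T : ℕ} (h : Cand (Fintype.card F) k T) :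
    (∃ g : isoG (minusQ 3 a b), dick (nd_minusQ hab 3) g = 1 ∧ 2 ^ k * T ∣ orderOf g) ∨
    ∃ (g : isoG (minusQ 3 a b)) (w : (Fin 3 ⊕ Fin 3) ⊕ Fin 2 → F), dick (nd_minusQ hab 3) g = 1 ∧
      2 ^ k * T ∣ 2 * orderOf g ∧ ∑ i ∈ Finset.range (orderOf g), (g ^ i).1 w ≠ 0 := by
  have key : ∀ {j T : ℕ}, (∃ (g : isoG (minusQ 3 a b)) (w : (Fin 3 ⊕ Fin 3) ⊕ Fin 2 → F),
      dick (nd_minusQ hab 3) g = 1 ∧ 2 ^ j * T ∣ orderOf g ∧ ∑ i ∈ Finset.range (orderOf g), (g ^ i).1 w ≠ 0) →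
      ∃ (g : isoG (minusQ 3 a b)) (w : (Fin 3 ⊕ Fin 3) ⊕ Fin 2 → F), dick (nd_minusQ hab 3) g = 1 ∧
      2 ^ (j + 1) * T ∣ 2 * orderOf g ∧ ∑ i ∈ Finset.range (orderOf g), (g ^ i).1 w ≠ 0 :=
    fun ⟨g, w, h1, h2, h3⟩ => ⟨g, w, h1, by rw [pow_succ', mul_assoc]; exact mul_dvd_mul_left 2 h2, h3⟩
  obtain ⟨⟨a0, b0⟩, ⟨a1, b1⟩, a2, b2⟩ := lift_blocks hab
  rcases split hab h with ⟨rfl, g, hg, hgT⟩ | ⟨rfl, h' | h'⟩ | ⟨rfl, h' | h'⟩ | ⟨rfl, h' | h'⟩
  · exact Or.inl ⟨g, dick_odd _ hg, by rwa [pow_zero, one_mul]⟩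
  · obtain ⟨e, he⟩ := pm (a := a) (b := b) (show 3 + 0 = 3 from rfl)
    exact Or.inr (key (order_lift h' (hn := nd_plusQ 3) b0 (nd_minusQ hab 3) e he))
  · obtain ⟨e, he⟩ := mp (a := a) (b := b) (show 1 + 2 = 3 from rfl)
    exact Or.inr (key (order_lift h' (hn := nd_minusQ hab 2) a0 (nd_minusQ hab 3) e he))
  · obtain ⟨e, he⟩ := pm (a := a) (b := b) (show 2 + 1 = 3 from rfl)
    exact Or.inr (key (order_lift h' (hn := nd_plusQ 2) b1 (nd_minusQ hab 3) e he))
  · obtain ⟨e, he⟩ := mp (a := a) (b := b) (show 2 + 1 = 3 from rfl)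
    exact Or.inr (key (order_lift h' (hn := nd_minusQ hab 1) a1 (nd_minusQ hab 3) e he))
  · obtain ⟨e, he⟩ := pm (a := a) (b := b) (show 1 + 2 = 3 from rfl)
    exact Or.inr (key (order_lift h' (hn := nd_plusQ 1) b2 (nd_minusQ hab 3) e he))
  · obtain ⟨e, he⟩ := mp (a := a) (b := b) (show 3 + 0 = 3 from rfl)
    exact Or.inr (key (order_lift h' (hn := nd_minusQ hab 0) a2 (nd_minusQ hab 3) e he))

end Cfsg.Agent.Lib.Recog.SpEight
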