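import Cfsg.Agent.Lib.Recog.SpEightOrder
import Cfsg.Agent.Lib.Recog.SpEightExist
import Cfsg.Agent.Lib.Recog.SympPrimeGraphFull
import Cfsg.Agent.Lib.Classical.QuadOmega.Std

/-! The element orders of `PSp(8, q)` and of the orthogonal group of minus type, `q` even. -/

set_option autoImplicit false

namespace Cfsg.Agent.Lib.Recog.SpEight

open Polynomial QuadraticMap
open Cfsg.Agent.Lib.Classical.Quad Cfsg.Agent.Lib.Classical.QuadOmega Cfsg.Agent.Lib.Classical.QuadF2
open Cfsg.Agent.Lib.Recog.OddOrthPrimeGraph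

universe u v

theorem good_dvd {q o o' : ℕ} (h : o' ∈ Good q) (hd : o ∣ o') : o ∈ Good q := by
  obtain ⟨a, T, hC, hT⟩ := h
  exact ⟨a, T, hC, hd.trans hT⟩

theorem mem_range_of_dvd {G : Type*} [Group G] [Finite G] {g : G} {o : ℕ} (h : o ∣ orderOf g) :
    o ∈ Set.range (orderOf : G → ℕ) := by
  refine ⟨g ^ (orderOf g / o), ?_⟩
  have hne := (orderOf_pos g).ne'
  obtain ⟨c, hc⟩ := h
  have ho : o ≠ 0 := by rintro rfl; simp [hc] at hne
  have hc0 : c ≠ 0 := by rintro rfl; simp [hc] at hne
  rw [hc, Nat.mul_div_cancel_left _ (Nat.pos_of_ne_zero ho), orderOf_pow' _ hc0, hc,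
    Nat.gcd_eq_right (dvd_mul_left c o), Nat.mul_div_cancel _ (Nat.pos_of_ne_zero hc0)]

variable {F : Type u} [Field F]

section restrict

variable {V : Type v} [AddCommGroup V] [Module F V]

theorem aeval_restrict (f : Module.End F V) (S : Submodule F V) (h : ∀ x ∈ S, f x ∈ S) (p : F[X]) (x : S) :
    ((aeval (f.restrict h) p) x : V) = (aeval f p) (x : V) := by
  induction p using Polynomial.induction_on' generalizing x with
  | add p q hp hq => simp [hp, hq]
  | monomial n c =>
    have key : ∀ (n : ℕ) (x : S), (((f.restrict h) ^ n) x : V) = (f ^ n) (x : V) := by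
      intro n
      induction n with
      | zero => intro x; rfl
      | succ n ih => intro x; rw [pow_succ, pow_succ, Module.End.mul_apply, Module.End.mul_apply, ih]; rfl
    simp [aeval_monomial, key]

end restrict

variable [Fintype F] [CharP F 2]

section orth

variable {ι : Type} [Fintype ι] [DecidableEq ι] {V : Type v} [AddCommGroup V] [Module F V] [Finite V]
  {Q : QuadraticForm F V}

omit [Finite V] in
theorem iso_bound (b : Module.Basis ι F V) (hQ : Nd Q) (hι : Fintype.card ι ≤ 8) (g : isoG Q) :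
    orderOf g ∈ Good (Fintype.card F) := by
  rw [← orderOf_injective _ (mat_injective b) g]
  exact order_bound _ (mat_hinv b hQ g) hι

omit [CharP F 2] in
/-- With trivial Dickson invariant, a fixed vector forces a smaller minimal polynomial. -/
theorem seven (b : Module.Basis ι F V) (hQ : Nd Q) (hι : Fintype.card ι = 8) (g : isoG Q) (hg : dick hQ g = 1)
    (h1 : X - 1 ∣ minpoly F (mat b Q g : Matrix ι ι F)) :
    (minpoly F (mat b Q g : Matrix ι ι F)).natDegree ≤ 7 := by
  haveI := Module.Finite.of_finite (R := F) (M := V)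
  set f : Module.End F V := g.1.toLinearMap with hf
  rw [show minpoly F (mat b Q g : Matrix ι ι F) = minpoly F f by rw [mat_val, LinearMap.minpoly_toMatrix]] at h1 ⊢
  have hV : Module.finrank F V = 8 := by rw [Module.finrank_eq_card_basis b, hι]
  by_contra hdeg
  set D : Module.End F V := f - 1 with hD
  have hinv : ∀ x ∈ LinearMap.range D, f x ∈ LinearMap.range D := by
    rintro _ ⟨v, rfl⟩
    exact ⟨f v, by simp [hD]⟩
  set p := (f.restrict hinv).charpoly with hp
  have hdvd : minpoly F f ∣ p * (X - 1) := by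
    refine minpoly.dvd F f (LinearMap.ext fun v => ?_)
    rw [map_mul, Module.End.mul_apply, map_sub, map_one, aeval_X, ← hD,
      ← aeval_restrict f _ hinv p ⟨D v, v, rfl⟩, hp, LinearMap.aeval_self_charpoly]
    simp
  have hXm : (X - 1 : F[X]).Monic := by simpa using monic_X_sub_C (1 : F)
  have hle := natDegree_le_of_dvd hdvd ((LinearMap.charpoly_monic _).mul hXm).ne_zero
  rw [(LinearMap.charpoly_monic _).natDegree_mul hXm, LinearMap.charpoly_natDegree,
    show (X - 1 : F[X]).natDegree = 1 by rw [← C_1]; exact natDegree_X_sub_C 1] at hle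
  have hsum := LinearMap.finrank_range_add_finrank_ker D
  have hk : fixS g = LinearMap.ker D := by ext v; simp [mem_fixS, hD, hf, sub_eq_zero]
  rw [← hk, hV] at hsum
  have hk0 : Module.finrank F (fixS g) ≠ 0 := by
    intro h0
    rw [Submodule.finrank_eq_zero] at h0
    have hroot : (minpoly F f).IsRoot 1 := by rwa [← C_1, dvd_iff_isRoot] at h1
    obtain ⟨v, hv⟩ := (Module.End.hasEigenvalue_of_isRoot (f := f) hroot).exists_hasEigenvector
    refine hv.2 ((Submodule.mem_bot F).1 (h0 ▸ mem_fixS.2 ?_))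
    simpa [hf] using hv.apply_eq_smul
  rw [dick_eq, hV, show 8 + Module.finrank F (fixS g) = 2 * 4 + 1 by omega] at hg
  exact absurd hg (by decide)

/-- The order in the split extension by a sum of natural modules. -/
theorem lift_bound (b : Module.Basis ι F V) (hQ : Nd Q) (hι : Fintype.card ι = 8) (g : isoG Q)
    (hg : dick hQ g = 1) {w : V} (hw : ∑ i ∈ Finset.range (orderOf g), (g ^ i).1 w ≠ 0) :
    2 * orderOf g ∈ Good (Fintype.card F) := by
  rw [← orderOf_injective _ (mat_injective b) g]
  refine double_bound _ (mat_hinv b hQ g) (seven b hQ hι g hg) fun h => hw ?_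
  rw [orderOf_injective _ (mat_injective b) g] at h
  have e : ∀ i : ℕ, (mat b Q g : Matrix ι ι F) ^ i = LinearMap.toMatrixAlgEquiv b (g ^ i).1.toLinearMap := fun i => by
    rw [← Units.val_pow_eq_pow_val, ← map_pow]; rfl
  simp only [e, ← map_sum, map_eq_zero_iff _ (LinearMap.toMatrixAlgEquiv b).injective] at h
  simpa using LinearMap.congr_fun h w

end orth

/-! ### The minus group and the symplectic group -/

variable {a b : F}

/-- Symplectic coordinates of the polarised minus form. -/
noncomputable def spCoord {a : F} (ha : a ≠ 0) :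
    ((Fin 3 ⊕ Fin 3) ⊕ Fin 2 → F) ≃ₗ[F] (Fin 4 ⊕ Fin 4 → F) where
  toFun v := Sum.elim (Fin.snoc (fun i => v (.inl (.inl i))) (v (.inr 0)))
    (Fin.snoc (fun i => v (.inl (.inr i))) (a * v (.inr 1)))
  invFun v := Sum.elim (Sum.elim (Fin.init fun i => v (.inl i)) (Fin.init fun i => v (.inr i)))
    ![v (.inl (Fin.last 3)), a⁻¹ * v (.inr (Fin.last 3))]
  left_inv v := by
    ext ((i | i) | i)
    · simp [Fin.init, -Fin.reduceLast]
    · simp [Fin.init, -Fin.reduceLast]
    · fin_cases i <;> simp [ha, -Fin.reduceLast]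
  right_inv v := by ext (i | i) <;> refine Fin.lastCases ?_ (fun j => ?_) i <;> simp [Fin.init, ha, -Fin.reduceLast]
  map_add' v v' := by ext (i | i) <;> refine Fin.lastCases ?_ (fun j => ?_) i <;> simp [mul_add, -Fin.reduceLast]
  map_smul' c v := by ext (i | i) <;> refine Fin.lastCases ?_ (fun j => ?_) i <;> simp [mul_left_comm, -Fin.reduceLast]

theorem polar_spCoord (ha : a ≠ 0) (v w : Fin 4 ⊕ Fin 4 → F) :
    polar (minusQ 3 a b) ((spCoord ha).symm v) ((spCoord ha).symm w) =
      ∑ i : Fin 4, (v (.inl i) * w (.inr i) + v (.inr i) * w (.inl i)) := by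
  rw [polar_minusQ, show (2 : F) = 0 from CharTwo.two_eq_zero]
  simp [spCoord, Fin.init, Fin.sum_univ_castSucc, Finset.sum_add_distrib, -Fin.reduceLast]
  field_simp
  ring

/-- The basis attached to the symplectic coordinates. -/
noncomputable def spBasis {a : F} (ha : a ≠ 0) :
    Module.Basis (Fin 4 ⊕ Fin 4) F ((Fin 3 ⊕ Fin 3) ⊕ Fin 2 → F) :=
  Module.Basis.ofEquivFun (spCoord ha)

theorem gram_spBasis (ha : a ≠ 0) :
    LinearMap.toMatrix₂ (spBasis ha) (spBasis ha) (polarBilin (minusQ 3 a b)) = Matrix.J (Fin 4) F := by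
  ext i j
  rw [LinearMap.toMatrix₂_apply, polarBilin_apply_apply, spBasis, Module.Basis.coe_ofEquivFun]
  rw [polar_spCoord]
  rcases i with i | i <;> rcases j with j | j <;>
    simp [Matrix.J, Matrix.fromBlocks, Matrix.one_apply, Pi.single_apply, CharTwo.neg_eq, eq_comm]

theorem mat_mem_sp (hab : Aniso a b) (ha : a ≠ 0) (g : isoG (minusQ 3 a b)) :
    (mat (spBasis ha) (minusQ 3 a b) g : Matrix (Fin 4 ⊕ Fin 4) (Fin 4 ⊕ Fin 4) F) ∈
      Matrix.symplecticGroup (Fin 4) F := by
  rw [SymplecticGroup.mem_iff', ← gram_spBasis (b := b) ha]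
  exact (gram (spBasis ha) (nd_minusQ hab 3) g).2

/-- The minus group inside the symplectic group. -/
noncomputable def toSp (hab : Aniso a b) : isoG (minusQ 3 a b) →* ↥(Matrix.symplecticGroup (Fin 4) F) where
  toFun g := ⟨_, mat_mem_sp hab (aniso_ne hab) g⟩
  map_one' := Subtype.ext (by simp)
  map_mul' g h := Subtype.ext (by simp)

theorem range_psp (hab : Aniso a b) :
    Set.range (orderOf : Cfsg.PSp 4 F → ℕ) = Good (Fintype.card F) := by
  classical
  apply Set.Subset.antisymm
  · rintro _ ⟨x, rfl⟩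
    obtain ⟨g, rfl⟩ := QuotientGroup.mk'_surjective _ x
    refine good_dvd ?_ (orderOf_map_dvd _ g)
    rw [← orderOf_injective _ (Forms.spToGL_injective 4) g]
    exact order_bound _ (SympPrimeGraph.hinv_sp g) (by simp)
  · rintro o ⟨k, T, hC, ho⟩
    obtain ⟨g, hg⟩ := exists_order hab hC
    have hinj : Function.Injective (SympSpec.pr.comp (toSp hab)) := (injective_iff_map_eq_one _).2 fun x hx => by
      obtain ⟨c, hc, hxc⟩ := SympSpec.sq_eq_one_of_pr (by norm_num) (g := toSp hab x) hx
      have h0 : (c - 1) * (c - 1) = 0 := by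
        linear_combination hc - (c - 1) * (CharTwo.two_eq_zero : (2 : F) = 0)
      obtain rfl : c = 1 := sub_eq_zero.1 (mul_self_eq_zero.1 h0)
      refine mat_injective (spBasis (aniso_ne hab)) (Units.ext ?_)
      rw [map_one]
      exact hxc.trans (one_smul _ _)
    refine mem_range_of_dvd (g := SympSpec.pr.comp (toSp hab) g) ?_
    rw [orderOf_injective _ hinj]
    exact ho.trans hg

theorem range_minus (hab : Aniso a b) :
    Set.range (orderOf : ↥(Cfsg.isometryGroup F (Cfsg.quadFormMinus 3 F a b)) → ℕ) = Good (Fintype.card F) := by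
  classical
  let E := isoEquiv (Cfsg.quadFormMinus 3 F a b) (Q := minusQ 3 a b) (LinearEquiv.refl F _)
    fun v => (minusQ_apply 3 a b v).symm
  apply Set.Subset.antisymm
  · rintro _ ⟨x, rfl⟩
    rw [← E.orderOf_eq]
    exact iso_bound (Pi.basisFun F _) (nd_minusQ hab 3) (by simp) _
  · rintro o ⟨k, T, hC, ho⟩
    obtain ⟨g, hg⟩ := exists_order hab hC
    refine mem_range_of_dvd (g := E.symm g) ?_
    rw [E.symm.orderOf_eq]
    exact ho.trans hg

end Cfsg.Agent.Lib.Recog.SpEight
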