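import Mathlib

/-!
Tables: the Sylow 2-subgroup of A₈ and of PSp₄(3).
-/

set_option autoImplicit false
set_option maxRecDepth 4000

namespace Cfsg.Agent.Lib.Recog.SylowS8

/-- Successors. -/
def nxAArr : Array (Array (Fin 64)) := #[
  #[1, 0, 6, 9, 11, 14, 2, 18, 13, 3, 24, 4, 28, 8, 5, 34,
  36, 27, 7, 40, 38, 42, 44, 33, 10, 37, 47, 17, 12, 51, 49, 53,
  55, 23, 15, 48, 16, 25, 20, 56, 19, 52, 21, 54, 22, 50, 60, 26,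
  35, 30, 45, 29, 41, 31, 43, 32, 39, 63, 61, 62, 46, 58, 59, 57],
  #[2, 4, 7, 10, 12, 15, 16, 19, 21, 22, 20, 26, 29, 31, 32, 30,
  37, 9, 35, 0, 41, 34, 45, 46, 39, 43, 48, 14, 25, 1, 52, 24,
  56, 57, 50, 54, 51, 58, 59, 13, 23, 3, 55, 60, 49, 17, 47, 40,
  61, 62, 8, 33, 5, 44, 63, 38, 27, 36, 6, 42, 28, 11, 53, 18],
  #[3, 5, 8, 0, 13, 1, 17, 20, 2, 23, 25, 27, 30, 4, 33, 35,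
  38, 6, 39, 34, 7, 43, 37, 9, 29, 10, 49, 11, 50, 24, 12, 54,
  48, 14, 19, 15, 56, 22, 16, 18, 55, 60, 58, 21, 51, 47, 59, 45,
  32, 26, 28, 44, 63, 61, 31, 40, 36, 62, 42, 46, 41, 53, 57, 52]]

/-- Successor function. -/
def nxA (s : Fin 3) (i : Fin 64) : Fin 64 := (nxAArr.getD s.val #[]).getD i.val 0

/-- Parents. -/
def parAArr : Array (Fin 64 × Fin 3) := #[(0, 0), (0, 0), (0, 1), (0, 2), (1, 1), (1, 2), (2, 0), (2, 1),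
  (2, 2), (3, 0), (3, 1), (4, 0), (4, 1), (4, 2), (5, 0), (5, 1),
  (6, 1), (6, 2), (7, 0), (7, 1), (7, 2), (8, 1), (9, 1), (9, 2),
  (10, 0), (10, 2), (11, 1), (11, 2), (12, 0), (12, 1), (12, 2), (13, 1),
  (14, 1), (14, 2), (15, 0), (15, 2), (16, 0), (16, 1), (16, 2), (18, 2),
  (19, 0), (20, 1), (21, 0), (21, 2), (22, 0), (22, 1), (23, 1), (26, 0),
  (26, 1), (26, 2), (28, 2), (29, 0), (30, 1), (31, 0), (31, 2), (32, 0),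
  (32, 1), (33, 1), (37, 1), (38, 1), (41, 2), (48, 1), (49, 1), (52, 2)]

/-- Parent function. -/
def parA (i : Fin 64) : Fin 64 × Fin 3 := parAArr.getD i.val (0, 0)

/-- Words. -/
def wordAArr : Array (List (Fin 3)) := #[[], [0], [1], [2],
  [0, 1], [0, 2], [1, 0], [1, 1],
  [1, 2], [2, 0], [2, 1], [0, 1, 0],
  [0, 1, 1], [0, 1, 2], [0, 2, 0], [0, 2, 1],
  [1, 0, 1], [1, 0, 2], [1, 1, 0], [1, 1, 1],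
  [1, 1, 2], [1, 2, 1], [2, 0, 1], [2, 0, 2],
  [2, 1, 0], [2, 1, 2], [0, 1, 0, 1], [0, 1, 0, 2],
  [0, 1, 1, 0], [0, 1, 1, 1], [0, 1, 1, 2], [0, 1, 2, 1],
  [0, 2, 0, 1], [0, 2, 0, 2], [0, 2, 1, 0], [0, 2, 1, 2],
  [1, 0, 1, 0], [1, 0, 1, 1], [1, 0, 1, 2], [1, 1, 0, 2],
  [1, 1, 1, 0], [1, 1, 2, 1], [1, 2, 1, 0], [1, 2, 1, 2],
  [2, 0, 1, 0], [2, 0, 1, 1], [2, 0, 2, 1], [0, 1, 0, 1, 0],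
  [0, 1, 0, 1, 1], [0, 1, 0, 1, 2], [0, 1, 1, 0, 2], [0, 1, 1, 1, 0],
  [0, 1, 1, 2, 1], [0, 1, 2, 1, 0], [0, 1, 2, 1, 2], [0, 2, 0, 1, 0],
  [0, 2, 0, 1, 1], [0, 2, 0, 2, 1], [1, 0, 1, 1, 1], [1, 0, 1, 2, 1],
  [1, 1, 2, 1, 2], [0, 1, 0, 1, 1, 1], [0, 1, 0, 1, 2, 1], [0, 1, 1, 2, 1, 2]]

/-- The permutations. -/
def permA (s : Fin 3) : Equiv.Perm (Fin 8) := ![Equiv.swap (0 : Fin 8) 7 * Equiv.swap (1 : Fin 8) 6 * Equiv.swap (2 : Fin 8) 5 * Equiv.swap (3 : Fin 8) 4, Equiv.swap (2 : Fin 8) 3 * Equiv.swap (4 : Fin 8) 7 * Equiv.swap (7 : Fin 8) 5 * Equiv.swap (5 : Fin 8) 6, Equiv.swap (0 : Fin 8) 3 * Equiv.swap (1 : Fin 8) 2] s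

/-- The table of permutations. -/
def elA (i : Fin 64) : Equiv.Perm (Fin 8) := ((wordAArr.getD i.val []).map permA).prod

set_option maxHeartbeats 2000000 in
theorem elA_step : ∀ s i, elA i * permA s = elA (nxA s i) := by decide +kernel

set_option maxHeartbeats 2000000 in
theorem elA_inj : ∀ i j, (∀ x, elA i x = elA j x) → i = j := by decide +kernel

theorem elA_zero : elA 0 = 1 := by decide +kernel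

theorem parA_ok : ∀ i, i ≠ 0 → (parA i).1 < i ∧ nxA (parA i).2 (parA i).1 = i := by decide +kernel

/-- Matrices. -/
def matAArr : Array (Matrix (Fin 4) (Fin 4) (ZMod 3)) := #[
  !![1, 0, 0, 0; 0, 1, 0, 0; 0, 0, 1, 0; 0, 0, 0, 1],
  !![0, 1, 1, 2; 1, 1, 2, 0; 1, 0, 0, 2; 0, 1, 2, 2],
  !![0, 1, 0, 2; 2, 1, 2, 2; 1, 1, 2, 0; 2, 0, 1, 0],
  !![1, 2, 0, 2; 1, 0, 2, 2; 0, 1, 2, 2; 1, 2, 1, 0],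
  !![1, 2, 0, 2; 1, 1, 0, 1; 1, 1, 2, 2; 2, 0, 2, 2],
  !![0, 1, 0, 2; 1, 2, 0, 1; 0, 0, 1, 1; 0, 0, 1, 0],
  !![1, 0, 0, 1; 0, 2, 2, 0; 0, 2, 0, 0; 1, 2, 2, 0],
  !![0, 1, 1, 2; 2, 2, 2, 0; 1, 1, 0, 1; 1, 0, 2, 1],
  !![0, 1, 1, 2; 2, 1, 2, 1; 2, 1, 0, 2; 2, 2, 2, 0],
  !![1, 1, 0, 0; 1, 0, 1, 2; 0, 0, 0, 1; 0, 0, 1, 2],
  !![1, 0, 0, 0; 0, 0, 0, 1; 1, 0, 1, 1; 1, 2, 0, 0],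
  !![1, 1, 0, 0; 2, 0, 1, 2; 0, 2, 2, 2; 1, 2, 0, 0],
  !![1, 0, 0, 0; 2, 1, 0, 2; 1, 2, 1, 2; 0, 2, 0, 2],
  !![1, 0, 0, 0; 0, 2, 0, 2; 2, 1, 1, 1; 2, 2, 0, 1],
  !![1, 0, 0, 1; 2, 1, 1, 1; 1, 1, 2, 1; 1, 0, 0, 2],
  !![0, 1, 1, 2; 0, 0, 2, 0; 0, 1, 0, 0; 1, 1, 2, 0],
  !![1, 2, 2, 1; 0, 2, 1, 2; 2, 1, 2, 2; 0, 1, 1, 0],
  !![1, 2, 2, 1; 1, 1, 1, 1; 1, 0, 2, 2; 0, 2, 1, 2],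
  !![1, 0, 0, 0; 2, 2, 0, 1; 2, 0, 1, 2; 1, 1, 0, 1],
  !![1, 2, 0, 2; 0, 0, 2, 2; 1, 2, 0, 1; 1, 0, 2, 2],
  !![0, 1, 0, 2; 2, 0, 1, 0; 0, 2, 0, 2; 1, 0, 1, 0],
  !![1, 2, 0, 2; 0, 2, 1, 0; 0, 0, 1, 0; 0, 0, 2, 2],
  !![1, 1, 1, 2; 1, 1, 2, 1; 1, 0, 2, 0; 1, 2, 2, 0],
  !![1, 1, 1, 2; 0, 2, 2, 2; 2, 1, 2, 0; 1, 1, 2, 1],
  !![0, 1, 1, 2; 0, 1, 2, 2; 1, 2, 0, 0; 2, 0, 2, 2],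
  !![1, 2, 0, 2; 1, 2, 1, 0; 2, 2, 0, 1; 0, 2, 1, 0],
  !![1, 1, 1, 2; 1, 0, 2, 2; 2, 2, 2, 2; 2, 0, 2, 0],
  !![1, 1, 1, 2; 2, 0, 2, 0; 2, 0, 2, 1; 0, 1, 2, 0],
  !![0, 1, 1, 2; 1, 2, 2, 2; 0, 2, 0, 2; 2, 1, 2, 1],
  !![0, 1, 0, 2; 0, 0, 1, 0; 0, 1, 2, 0; 2, 2, 0, 1],
  !![1, 2, 0, 2; 2, 2, 1, 0; 2, 1, 2, 2; 1, 1, 0, 1],
  !![0, 1, 0, 2; 2, 2, 0, 1; 2, 1, 2, 0; 0, 1, 2, 2],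
  !![1, 2, 2, 1; 1, 2, 1, 0; 0, 2, 2, 2; 2, 2, 1, 1],
  !![1, 2, 2, 1; 2, 2, 1, 1; 0, 0, 2, 1; 0, 0, 1, 1],
  !![1, 0, 0, 0; 1, 0, 0, 2; 2, 2, 1, 0; 0, 1, 0, 0],
  !![0, 1, 0, 2; 0, 1, 2, 2; 2, 0, 1, 1; 1, 2, 0, 1],
  !![1, 1, 1, 2; 0, 1, 2, 0; 0, 2, 2, 0; 2, 1, 2, 2],
  !![1, 1, 0, 0; 0, 0, 1, 2; 1, 1, 1, 0; 0, 1, 2, 1],
  !![1, 0, 0, 1; 1, 2, 2, 0; 2, 1, 2, 1; 1, 1, 1, 1],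
  !![1, 2, 0, 2; 2, 0, 2, 2; 1, 0, 1, 0; 0, 1, 0, 1],
  !![1, 1, 0, 0; 1, 1, 2, 1; 1, 2, 2, 2; 1, 0, 1, 2],
  !![0, 1, 1, 2; 1, 0, 2, 1; 2, 2, 0, 1; 1, 2, 2, 2],
  !![1, 1, 0, 0; 0, 1, 2, 1; 2, 0, 0, 1; 1, 1, 2, 1],
  !![1, 0, 0, 0; 1, 2, 0, 0; 0, 2, 1, 1; 1, 0, 0, 2],
  !![1, 2, 2, 1; 0, 0, 1, 1; 1, 2, 2, 0; 2, 0, 1, 0],
  !![1, 0, 0, 1; 0, 1, 1, 1; 2, 0, 1, 2; 0, 2, 2, 0],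
  !![1, 0, 0, 1; 1, 1, 1, 1; 1, 2, 0, 0; 0, 1, 1, 1],
  !![1, 2, 2, 1; 1, 0, 1, 2; 2, 0, 2, 0; 1, 1, 1, 1],
  !![1, 0, 0, 1; 0, 0, 0, 2; 1, 0, 1, 2; 2, 1, 1, 1],
  !![1, 1, 0, 0; 0, 2, 0, 0; 0, 1, 1, 0; 2, 0, 1, 2],
  !![0, 1, 0, 2; 1, 1, 2, 2; 2, 2, 0, 2; 2, 1, 2, 2],
  !![1, 0, 0, 1; 1, 0, 0, 2; 0, 1, 2, 1; 2, 2, 2, 0],
  !![1, 0, 0, 0; 1, 1, 0, 1; 1, 1, 1, 0; 2, 1, 0, 2],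
  !![1, 0, 0, 1; 2, 2, 2, 0; 0, 0, 1, 2; 0, 0, 0, 2],
  !![0, 1, 1, 2; 2, 0, 2, 2; 0, 0, 0, 1; 0, 0, 2, 0],
  !![1, 1, 1, 2; 0, 0, 2, 1; 1, 1, 2, 2; 0, 2, 2, 2],
  !![1, 1, 0, 0; 1, 2, 0, 0; 2, 2, 2, 2; 2, 1, 2, 1],
  !![1, 1, 0, 0; 2, 1, 2, 1; 2, 1, 1, 0; 0, 2, 0, 0],
  !![1, 1, 1, 2; 1, 2, 2, 0; 0, 0, 2, 2; 0, 0, 2, 1],
  !![1, 2, 2, 1; 0, 1, 1, 0; 0, 1, 2, 0; 1, 0, 1, 2],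
  !![0, 1, 0, 2; 1, 0, 1, 0; 1, 0, 1, 1; 1, 1, 2, 2],
  !![1, 2, 2, 1; 2, 0, 1, 0; 1, 1, 2, 1; 1, 2, 1, 0],
  !![1, 1, 1, 2; 2, 1, 2, 2; 0, 1, 2, 1; 1, 0, 2, 2],
  !![1, 2, 0, 2; 0, 1, 0, 1; 2, 0, 1, 0; 2, 2, 1, 0]]

/-- Matrix table. -/
def matA (i : Fin 64) : Matrix (Fin 4) (Fin 4) (ZMod 3) := matAArr.getD i.val 0

/-- The generators. -/
def genA (s : Fin 3) : Matrix (Fin 4) (Fin 4) (ZMod 3) := ![!![0, 1, 1, 2; 1, 1, 2, 0; 1, 0, 0, 2; 0, 1, 2, 2], !![0, 1, 0, 2; 2, 1, 2, 2; 1, 1, 2, 0; 2, 0, 1, 0], !![1, 2, 0, 2; 1, 0, 2, 2; 0, 1, 2, 2; 1, 2, 1, 0]] s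

/-- The alternating form. -/
def jm : Matrix (Fin 4) (Fin 4) (ZMod 3) := !![0, 0, 2, 0; 0, 0, 0, 2; 1, 0, 0, 0; 0, 1, 0, 0]

set_option maxHeartbeats 4000000 in
theorem matA_step : ∀ s i, matA i * genA s = matA (nxA s i) ∨ matA i * genA s = -matA (nxA s i) := by
  decide +kernel

theorem matA_sympl : matA 0 = 1 ∧ (∀ i, matA i * jm * (matA i).transpose = jm) ∧
    ∀ s, genA s * jm * (genA s).transpose = jm := by decide +kernel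

theorem permA_even : ∀ s, Equiv.Perm.sign (permA s) = 1 := by decide +kernel

end Cfsg.Agent.Lib.Recog.SylowS8
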