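import Mathlib

/-!
Tables: the Sylow 2-subgroup of S₈ and of O₆⁻(2).
-/

set_option autoImplicit false
set_option maxRecDepth 4000

namespace Cfsg.Agent.Lib.Recog.SylowS8

/-- Successors. -/
def nxSArr : Array (Array (Fin 128)) := #[
  #[1, 0, 6, 8, 10, 12, 2, 16, 3, 20, 4, 24, 5, 28, 22, 31,
  7, 35, 37, 27, 9, 29, 14, 42, 11, 46, 48, 19, 13, 21, 52, 15,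
  56, 58, 55, 17, 57, 18, 49, 62, 51, 65, 23, 69, 71, 68, 25, 70,
  26, 38, 75, 40, 30, 80, 82, 34, 32, 36, 33, 83, 86, 85, 39, 76,
  77, 41, 92, 94, 45, 43, 47, 44, 95, 98, 97, 50, 63, 64, 102, 91,
  53, 93, 54, 59, 106, 61, 60, 107, 108, 101, 110, 79, 66, 81, 67, 72,
  114, 74, 73, 115, 116, 89, 78, 111, 118, 113, 84, 87, 88, 121, 90, 103,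
  122, 105, 96, 99, 100, 125, 104, 123, 124, 109, 112, 119, 120, 117, 127, 126],
  #[2, 4, 0, 9, 1, 13, 14, 17, 18, 3, 22, 25, 26, 5, 6, 32,
  33, 7, 8, 34, 39, 36, 10, 43, 44, 11, 12, 45, 50, 47, 53, 54,
  15, 16, 19, 60, 21, 62, 59, 20, 61, 66, 67, 23, 24, 27, 73, 29,
  75, 72, 28, 74, 78, 30, 31, 79, 84, 81, 86, 38, 35, 40, 37, 87,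
  88, 90, 41, 42, 91, 96, 93, 98, 49, 46, 51, 48, 99, 100, 52, 55,
  104, 57, 106, 103, 56, 105, 58, 63, 64, 109, 65, 68, 112, 70, 114, 111,
  69, 113, 71, 76, 77, 117, 118, 83, 80, 85, 82, 119, 120, 89, 122, 95,
  92, 97, 94, 123, 124, 101, 102, 107, 108, 126, 110, 115, 116, 127, 121, 125],
  #[3, 5, 7, 0, 11, 1, 15, 2, 19, 21, 23, 4, 27, 29, 30, 6,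
  34, 36, 38, 8, 40, 9, 41, 10, 45, 47, 49, 12, 51, 13, 14, 55,
  57, 59, 16, 61, 17, 63, 18, 64, 20, 22, 68, 70, 72, 24, 74, 25,
  76, 26, 77, 28, 79, 81, 83, 31, 85, 32, 87, 33, 88, 35, 89, 37,
  39, 91, 93, 95, 42, 97, 43, 99, 44, 100, 46, 101, 48, 50, 103, 52,
  105, 53, 107, 54, 108, 56, 109, 58, 60, 62, 111, 65, 113, 66, 115, 67,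
  116, 69, 117, 71, 73, 75, 119, 78, 120, 80, 121, 82, 84, 86, 123, 90,
  124, 92, 125, 94, 96, 98, 126, 102, 104, 106, 127, 110, 112, 114, 118, 122]]

/-- Successor function. -/
def nxS (s : Fin 3) (i : Fin 128) : Fin 128 := (nxSArr.getD s.val #[]).getD i.val 0

/-- Parents. -/
def parSArr : Array (Fin 128 × Fin 3) := #[(0, 0), (0, 0), (0, 1), (0, 2), (1, 1), (1, 2), (2, 0), (2, 2),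
  (3, 0), (3, 1), (4, 0), (4, 2), (5, 0), (5, 1), (6, 1), (6, 2),
  (7, 0), (7, 1), (8, 1), (8, 2), (9, 0), (9, 2), (10, 1), (10, 2),
  (11, 0), (11, 1), (12, 1), (12, 2), (13, 0), (13, 2), (14, 2), (15, 0),
  (15, 1), (16, 1), (16, 2), (17, 0), (17, 2), (18, 0), (18, 2), (20, 1),
  (20, 2), (22, 2), (23, 0), (23, 1), (24, 1), (24, 2), (25, 0), (25, 2),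
  (26, 0), (26, 2), (28, 1), (28, 2), (30, 0), (30, 1), (31, 1), (31, 2),
  (32, 0), (32, 2), (33, 0), (33, 2), (35, 1), (35, 2), (37, 1), (37, 2),
  (39, 2), (41, 0), (41, 1), (42, 1), (42, 2), (43, 0), (43, 2), (44, 0),
  (44, 2), (46, 1), (46, 2), (48, 1), (48, 2), (50, 2), (52, 1), (52, 2),
  (53, 0), (53, 2), (54, 0), (54, 2), (56, 1), (56, 2), (58, 1), (58, 2),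
  (60, 2), (62, 2), (65, 1), (65, 2), (66, 0), (66, 2), (67, 0), (67, 2),
  (69, 1), (69, 2), (71, 1), (71, 2), (73, 2), (75, 2), (78, 0), (78, 2),
  (80, 1), (80, 2), (82, 1), (82, 2), (84, 2), (86, 2), (90, 0), (90, 2),
  (92, 1), (92, 2), (94, 1), (94, 2), (96, 2), (98, 2), (102, 1), (102, 2),
  (104, 2), (106, 2), (110, 1), (110, 2), (112, 2), (114, 2), (118, 2), (122, 2)]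

/-- Parent function. -/
def parS (i : Fin 128) : Fin 128 × Fin 3 := parSArr.getD i.val (0, 0)

/-- Words. -/
def wordSArr : Array (List (Fin 3)) := #[[], [0], [1], [2],
  [0, 1], [0, 2], [1, 0], [1, 2],
  [2, 0], [2, 1], [0, 1, 0], [0, 1, 2],
  [0, 2, 0], [0, 2, 1], [1, 0, 1], [1, 0, 2],
  [1, 2, 0], [1, 2, 1], [2, 0, 1], [2, 0, 2],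
  [2, 1, 0], [2, 1, 2], [0, 1, 0, 1], [0, 1, 0, 2],
  [0, 1, 2, 0], [0, 1, 2, 1], [0, 2, 0, 1], [0, 2, 0, 2],
  [0, 2, 1, 0], [0, 2, 1, 2], [1, 0, 1, 2], [1, 0, 2, 0],
  [1, 0, 2, 1], [1, 2, 0, 1], [1, 2, 0, 2], [1, 2, 1, 0],
  [1, 2, 1, 2], [2, 0, 1, 0], [2, 0, 1, 2], [2, 1, 0, 1],
  [2, 1, 0, 2], [0, 1, 0, 1, 2], [0, 1, 0, 2, 0], [0, 1, 0, 2, 1],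
  [0, 1, 2, 0, 1], [0, 1, 2, 0, 2], [0, 1, 2, 1, 0], [0, 1, 2, 1, 2],
  [0, 2, 0, 1, 0], [0, 2, 0, 1, 2], [0, 2, 1, 0, 1], [0, 2, 1, 0, 2],
  [1, 0, 1, 2, 0], [1, 0, 1, 2, 1], [1, 0, 2, 0, 1], [1, 0, 2, 0, 2],
  [1, 0, 2, 1, 0], [1, 0, 2, 1, 2], [1, 2, 0, 1, 0], [1, 2, 0, 1, 2],
  [1, 2, 1, 0, 1], [1, 2, 1, 0, 2], [2, 0, 1, 0, 1], [2, 0, 1, 0, 2],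
  [2, 1, 0, 1, 2], [0, 1, 0, 1, 2, 0], [0, 1, 0, 1, 2, 1], [0, 1, 0, 2, 0, 1],
  [0, 1, 0, 2, 0, 2], [0, 1, 0, 2, 1, 0], [0, 1, 0, 2, 1, 2], [0, 1, 2, 0, 1, 0],
  [0, 1, 2, 0, 1, 2], [0, 1, 2, 1, 0, 1], [0, 1, 2, 1, 0, 2], [0, 2, 0, 1, 0, 1],
  [0, 2, 0, 1, 0, 2], [0, 2, 1, 0, 1, 2], [1, 0, 1, 2, 0, 1], [1, 0, 1, 2, 0, 2],
  [1, 0, 1, 2, 1, 0], [1, 0, 1, 2, 1, 2], [1, 0, 2, 0, 1, 0], [1, 0, 2, 0, 1, 2],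
  [1, 0, 2, 1, 0, 1], [1, 0, 2, 1, 0, 2], [1, 2, 0, 1, 0, 1], [1, 2, 0, 1, 0, 2],
  [1, 2, 1, 0, 1, 2], [2, 0, 1, 0, 1, 2], [0, 1, 0, 1, 2, 0, 1], [0, 1, 0, 1, 2, 0, 2],
  [0, 1, 0, 1, 2, 1, 0], [0, 1, 0, 1, 2, 1, 2], [0, 1, 0, 2, 0, 1, 0], [0, 1, 0, 2, 0, 1, 2],
  [0, 1, 0, 2, 1, 0, 1], [0, 1, 0, 2, 1, 0, 2], [0, 1, 2, 0, 1, 0, 1], [0, 1, 2, 0, 1, 0, 2],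
  [0, 1, 2, 1, 0, 1, 2], [0, 2, 0, 1, 0, 1, 2], [1, 0, 1, 2, 0, 1, 0], [1, 0, 1, 2, 0, 1, 2],
  [1, 0, 1, 2, 1, 0, 1], [1, 0, 1, 2, 1, 0, 2], [1, 0, 2, 0, 1, 0, 1], [1, 0, 2, 0, 1, 0, 2],
  [1, 0, 2, 1, 0, 1, 2], [1, 2, 0, 1, 0, 1, 2], [0, 1, 0, 1, 2, 0, 1, 0], [0, 1, 0, 1, 2, 0, 1, 2],
  [0, 1, 0, 1, 2, 1, 0, 1], [0, 1, 0, 1, 2, 1, 0, 2], [0, 1, 0, 2, 0, 1, 0, 1], [0, 1, 0, 2, 0, 1, 0, 2],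
  [0, 1, 0, 2, 1, 0, 1, 2], [0, 1, 2, 0, 1, 0, 1, 2], [1, 0, 1, 2, 0, 1, 0, 1], [1, 0, 1, 2, 0, 1, 0, 2],
  [1, 0, 1, 2, 1, 0, 1, 2], [1, 0, 2, 0, 1, 0, 1, 2], [0, 1, 0, 1, 2, 0, 1, 0, 1], [0, 1, 0, 1, 2, 0, 1, 0, 2],
  [0, 1, 0, 1, 2, 1, 0, 1, 2], [0, 1, 0, 2, 0, 1, 0, 1, 2], [1, 0, 1, 2, 0, 1, 0, 1, 2], [0, 1, 0, 1, 2, 0, 1, 0, 1, 2]]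

/-- The permutations. -/
def permS (s : Fin 3) : Equiv.Perm (Fin 8) := ![Equiv.swap (0 : Fin 8) 1, Equiv.swap (0 : Fin 8) 2 * Equiv.swap (1 : Fin 8) 3, Equiv.swap (0 : Fin 8) 4 * Equiv.swap (1 : Fin 8) 5 * Equiv.swap (2 : Fin 8) 6 * Equiv.swap (3 : Fin 8) 7] s

/-- The table of permutations. -/
def elS (i : Fin 128) : Equiv.Perm (Fin 8) := ((wordSArr.getD i.val []).map permS).prod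

set_option maxHeartbeats 2000000 in
theorem elS_step : ∀ s i, elS i * permS s = elS (nxS s i) := by decide +kernel

set_option maxHeartbeats 2000000 in
theorem elS_inj : ∀ i j, (∀ x, elS i x = elS j x) → i = j := by decide +kernel

theorem elS_zero : elS 0 = 1 := by decide +kernel

theorem parS_ok : ∀ i, i ≠ 0 → (parS i).1 < i ∧ nxS (parS i).2 (parS i).1 = i := by decide +kernel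

/-- Matrices. -/
def matSArr : Array (Matrix (Fin 6) (Fin 6) (ZMod 2)) := #[
  !![1, 0, 0, 0, 0, 0; 0, 1, 0, 0, 0, 0; 0, 0, 1, 0, 0, 0; 0, 0, 0, 1, 0, 0; 0, 0, 0, 0, 1, 0; 0, 0, 0, 0, 0, 1],
  !![0, 0, 1, 1, 0, 0; 1, 1, 1, 0, 1, 0; 1, 0, 0, 1, 0, 0; 0, 0, 0, 1, 0, 0; 0, 0, 0, 0, 1, 0; 0, 0, 0, 1, 1, 1],
  !![1, 1, 1, 0, 1, 1; 0, 1, 0, 0, 0, 0; 0, 1, 1, 0, 0, 0; 1, 0, 1, 1, 1, 0; 0, 0, 1, 0, 0, 1; 0, 1, 1, 0, 1, 0],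
  !![0, 1, 1, 0, 0, 0; 0, 1, 0, 0, 0, 0; 1, 1, 0, 0, 0, 0; 1, 1, 1, 1, 0, 0; 0, 0, 0, 0, 1, 0; 0, 0, 0, 0, 1, 1],
  !![1, 1, 0, 1, 1, 0; 1, 1, 1, 0, 1, 0; 0, 1, 0, 1, 0, 1; 1, 0, 1, 1, 1, 0; 0, 0, 1, 0, 0, 1; 1, 1, 1, 1, 0, 1],
  !![0, 0, 1, 1, 0, 0; 1, 1, 1, 0, 1, 0; 1, 0, 0, 1, 0, 0; 1, 1, 1, 1, 0, 0; 0, 0, 0, 0, 1, 0; 1, 1, 1, 1, 0, 1],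
  !![0, 1, 0, 1, 1, 1; 1, 1, 1, 0, 1, 0; 0, 1, 1, 1, 1, 0; 1, 0, 1, 1, 1, 0; 1, 0, 0, 0, 1, 1; 0, 1, 1, 1, 0, 0],
  !![1, 1, 1, 0, 0, 1; 0, 1, 0, 0, 0, 0; 1, 0, 0, 0, 0, 0; 0, 1, 0, 1, 1, 0; 1, 1, 0, 0, 1, 1; 1, 0, 0, 0, 1, 0],
  !![0, 1, 1, 1, 1, 0; 1, 1, 1, 0, 1, 0; 1, 1, 0, 1, 1, 0; 0, 1, 0, 1, 1, 0; 0, 0, 0, 0, 1, 0; 0, 0, 0, 1, 0, 1],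
  !![0, 0, 1, 0, 0, 0; 0, 1, 0, 0, 0, 0; 1, 0, 1, 0, 1, 1; 0, 1, 1, 1, 0, 1; 0, 0, 1, 0, 0, 1; 0, 1, 0, 0, 1, 1],
  !![1, 1, 0, 0, 0, 0; 0, 1, 0, 0, 0, 0; 1, 1, 1, 0, 0, 1; 1, 0, 1, 1, 1, 0; 1, 0, 0, 0, 1, 1; 0, 1, 0, 0, 0, 1],
  !![1, 1, 0, 1, 1, 0; 1, 1, 1, 0, 1, 0; 1, 0, 1, 1, 1, 1; 0, 1, 0, 1, 1, 0; 1, 1, 0, 0, 1, 1; 0, 0, 0, 1, 1, 1],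
  !![1, 0, 0, 0, 0, 0; 0, 1, 0, 0, 0, 0; 0, 0, 1, 0, 0, 0; 0, 1, 0, 1, 1, 0; 0, 0, 0, 0, 1, 0; 0, 1, 0, 0, 0, 1],
  !![1, 1, 0, 1, 1, 0; 1, 1, 1, 0, 1, 0; 0, 1, 0, 1, 0, 1; 0, 1, 1, 1, 0, 1; 0, 0, 1, 0, 0, 1; 0, 0, 0, 1, 1, 1],
  !![1, 0, 1, 1, 0, 1; 1, 1, 1, 0, 1, 0; 1, 0, 1, 1, 1, 1; 0, 0, 0, 1, 0, 0; 1, 0, 1, 0, 0, 0; 1, 0, 0, 1, 1, 0],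
  !![1, 0, 1, 1, 0, 1; 1, 1, 1, 0, 1, 0; 0, 1, 1, 1, 1, 0; 0, 1, 0, 1, 1, 0; 0, 1, 1, 0, 0, 1; 0, 1, 1, 1, 0, 0],
  !![0, 1, 0, 1, 0, 1; 1, 1, 1, 0, 1, 0; 0, 0, 1, 1, 0, 0; 1, 1, 1, 1, 0, 0; 1, 1, 0, 0, 1, 1; 0, 0, 1, 1, 1, 0],
  !![1, 0, 1, 0, 0, 1; 0, 1, 0, 0, 0, 0; 1, 1, 1, 0, 1, 1; 1, 1, 0, 1, 1, 1; 1, 1, 1, 0, 0, 0; 1, 1, 0, 0, 1, 0],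
  !![1, 0, 1, 1, 1, 1; 1, 1, 1, 0, 1, 0; 0, 0, 1, 1, 0, 0; 1, 1, 0, 1, 1, 1; 0, 0, 1, 0, 0, 1; 1, 1, 0, 1, 0, 0],
  !![0, 1, 1, 1, 1, 0; 1, 1, 1, 0, 1, 0; 1, 1, 0, 1, 1, 0; 1, 0, 1, 1, 1, 0; 0, 0, 0, 0, 1, 0; 1, 1, 1, 1, 1, 1],
  !![1, 0, 0, 1, 0, 0; 1, 1, 1, 0, 1, 0; 1, 0, 1, 1, 0, 1; 0, 1, 1, 1, 0, 1; 1, 0, 0, 0, 1, 1; 1, 1, 1, 1, 1, 1],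
  !![1, 1, 0, 0, 0, 0; 0, 1, 0, 0, 0, 0; 1, 0, 1, 0, 0, 1; 0, 1, 1, 1, 1, 1; 1, 1, 0, 0, 1, 1; 0, 1, 0, 0, 0, 1],
  !![1, 0, 1, 0, 1, 1; 0, 1, 0, 0, 0, 0; 1, 0, 1, 0, 0, 1; 0, 0, 0, 1, 0, 0; 1, 0, 1, 0, 0, 0; 0, 0, 1, 0, 1, 0],
  !![0, 0, 1, 0, 0, 0; 0, 1, 0, 0, 0, 0; 1, 1, 1, 0, 1, 1; 0, 1, 0, 1, 1, 0; 0, 1, 1, 0, 0, 1; 0, 1, 0, 0, 1, 1],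
  !![1, 1, 0, 0, 0, 0; 0, 1, 0, 0, 0, 0; 1, 0, 1, 0, 0, 1; 1, 1, 1, 1, 0, 0; 1, 1, 0, 0, 1, 1; 0, 0, 0, 0, 0, 1],
  !![0, 0, 1, 1, 0, 0; 1, 1, 1, 0, 1, 0; 0, 1, 1, 1, 1, 0; 1, 1, 0, 1, 1, 1; 1, 1, 1, 0, 0, 0; 1, 1, 1, 1, 0, 1],
  !![1, 1, 1, 0, 1, 1; 0, 1, 0, 0, 0, 0; 0, 1, 1, 0, 0, 0; 1, 1, 0, 1, 1, 1; 0, 0, 1, 0, 0, 1; 0, 0, 1, 0, 1, 0],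
  !![0, 1, 1, 0, 0, 0; 0, 1, 0, 0, 0, 0; 1, 1, 0, 0, 0, 0; 1, 0, 1, 1, 1, 0; 0, 0, 0, 0, 1, 0; 0, 1, 0, 0, 1, 1],
  !![1, 1, 0, 0, 0, 0; 0, 1, 0, 0, 0, 0; 1, 1, 1, 0, 0, 1; 0, 1, 1, 1, 0, 1; 1, 0, 0, 0, 1, 1; 0, 0, 0, 0, 0, 1],
  !![1, 1, 0, 1, 1, 0; 1, 1, 1, 0, 1, 0; 1, 0, 1, 1, 1, 1; 0, 1, 1, 1, 1, 1; 1, 1, 0, 0, 1, 1; 1, 1, 1, 1, 0, 1],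
  !![0, 1, 0, 1, 1, 1; 1, 1, 1, 0, 1, 0; 0, 1, 0, 1, 0, 1; 1, 1, 1, 1, 0, 0; 1, 0, 1, 0, 0, 0; 1, 0, 0, 1, 1, 0],
  !![1, 0, 1, 0, 1, 1; 0, 1, 0, 0, 0, 0; 0, 1, 1, 0, 0, 0; 1, 1, 1, 1, 0, 0; 0, 1, 1, 0, 0, 1; 0, 1, 1, 0, 1, 0],
  !![0, 1, 0, 1, 1, 1; 1, 1, 1, 0, 1, 0; 1, 0, 1, 1, 1, 1; 1, 1, 0, 1, 1, 1; 0, 1, 0, 0, 1, 0; 1, 0, 0, 1, 1, 0],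
  !![1, 0, 0, 1, 0, 0; 1, 1, 1, 0, 1, 0; 1, 1, 0, 1, 1, 0; 0, 1, 1, 1, 0, 1; 1, 1, 1, 0, 0, 0; 1, 1, 1, 1, 1, 1],
  !![1, 0, 1, 1, 1, 1; 1, 1, 1, 0, 1, 0; 0, 0, 1, 1, 0, 0; 0, 0, 0, 1, 0, 0; 0, 0, 1, 0, 0, 1; 0, 0, 1, 1, 1, 0],
  !![1, 0, 1, 1, 1, 1; 1, 1, 1, 0, 1, 0; 0, 1, 0, 1, 1, 1; 1, 1, 0, 1, 1, 1; 0, 1, 0, 0, 1, 0; 1, 1, 0, 1, 0, 0],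
  !![1, 0, 1, 0, 1, 1; 0, 1, 0, 0, 0, 0; 1, 1, 1, 0, 0, 1; 1, 1, 0, 1, 0, 1; 1, 1, 1, 0, 0, 0; 0, 0, 1, 0, 1, 0],
  !![1, 0, 1, 0, 0, 1; 0, 1, 0, 0, 0, 0; 1, 0, 0, 0, 0, 0; 1, 1, 0, 1, 1, 1; 1, 0, 0, 0, 1, 1; 1, 1, 0, 0, 1, 0],
  !![0, 1, 0, 1, 0, 1; 1, 1, 1, 0, 1, 0; 0, 0, 1, 1, 0, 0; 1, 1, 0, 1, 0, 1; 1, 1, 0, 0, 1, 1; 1, 1, 0, 1, 0, 0],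
  !![0, 1, 0, 1, 0, 1; 1, 1, 1, 0, 1, 0; 0, 1, 0, 1, 1, 1; 1, 1, 1, 1, 0, 0; 1, 0, 1, 0, 0, 0; 0, 0, 1, 1, 1, 0],
  !![1, 0, 0, 1, 0, 0; 1, 1, 1, 0, 1, 0; 0, 1, 0, 1, 1, 1; 0, 1, 1, 1, 1, 1; 0, 1, 1, 0, 0, 1; 0, 0, 0, 1, 0, 1],
  !![1, 0, 1, 0, 0, 1; 0, 1, 0, 0, 0, 0; 1, 0, 1, 0, 1, 1; 1, 1, 1, 1, 0, 0; 1, 0, 1, 0, 0, 0; 1, 1, 0, 0, 1, 0],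
  !![1, 0, 0, 1, 0, 0; 1, 1, 1, 0, 1, 0; 0, 1, 0, 1, 1, 1; 1, 1, 1, 1, 0, 0; 0, 1, 1, 0, 0, 1; 1, 1, 1, 1, 1, 1],
  !![0, 1, 1, 0, 0, 0; 0, 1, 0, 0, 0, 0; 1, 0, 0, 0, 0, 0; 1, 1, 0, 1, 1, 1; 0, 1, 0, 0, 1, 0; 0, 0, 0, 0, 1, 1],
  !![1, 0, 1, 0, 1, 1; 0, 1, 0, 0, 0, 0; 1, 1, 1, 0, 0, 1; 0, 1, 1, 1, 0, 1; 1, 1, 1, 0, 0, 0; 0, 1, 1, 0, 1, 0],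
  !![0, 0, 1, 0, 0, 0; 0, 1, 0, 0, 0, 0; 1, 0, 1, 0, 1, 1; 0, 0, 0, 1, 0, 0; 0, 0, 1, 0, 0, 1; 0, 0, 0, 0, 1, 1],
  !![1, 0, 0, 0, 0, 0; 0, 1, 0, 0, 0, 0; 0, 1, 1, 0, 0, 0; 1, 1, 0, 1, 1, 1; 0, 1, 0, 0, 1, 0; 0, 1, 0, 0, 0, 1],
  !![0, 0, 1, 1, 0, 0; 1, 1, 1, 0, 1, 0; 0, 1, 1, 1, 1, 0; 1, 1, 0, 1, 0, 1; 1, 1, 1, 0, 0, 0; 0, 0, 0, 1, 1, 1],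
  !![0, 1, 0, 1, 1, 1; 1, 1, 1, 0, 1, 0; 0, 1, 1, 1, 1, 0; 1, 1, 0, 1, 1, 1; 1, 0, 0, 0, 1, 1; 1, 0, 0, 1, 1, 0],
  !![1, 1, 1, 0, 0, 1; 0, 1, 0, 0, 0, 0; 1, 0, 0, 0, 0, 0; 1, 1, 0, 1, 0, 1; 1, 1, 0, 0, 1, 1; 1, 1, 0, 0, 1, 0],
  !![1, 0, 1, 0, 1, 1; 0, 1, 0, 0, 0, 0; 1, 0, 1, 0, 0, 1; 1, 1, 1, 1, 0, 0; 1, 0, 1, 0, 0, 0; 0, 1, 1, 0, 1, 0],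
  !![0, 0, 1, 0, 0, 0; 0, 1, 0, 0, 0, 0; 1, 1, 1, 0, 1, 1; 0, 1, 1, 1, 1, 1; 0, 1, 1, 0, 0, 1; 0, 0, 0, 0, 1, 1],
  !![1, 1, 1, 0, 1, 1; 0, 1, 0, 0, 0, 0; 1, 1, 1, 0, 0, 1; 0, 1, 0, 1, 1, 0; 1, 0, 1, 0, 0, 0; 0, 0, 1, 0, 1, 0],
  !![1, 0, 1, 1, 0, 1; 1, 1, 1, 0, 1, 0; 1, 0, 0, 1, 0, 0; 0, 1, 1, 1, 0, 1; 1, 0, 0, 0, 1, 1; 0, 1, 1, 1, 0, 0],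
  !![1, 1, 0, 0, 0, 0; 0, 1, 0, 0, 0, 0; 0, 0, 1, 0, 0, 0; 0, 1, 1, 1, 0, 1; 0, 1, 0, 0, 1, 0; 0, 0, 0, 0, 0, 1],
  !![1, 0, 1, 0, 0, 1; 0, 1, 0, 0, 0, 0; 1, 0, 0, 0, 0, 0; 0, 0, 0, 1, 0, 0; 1, 0, 0, 0, 1, 1; 1, 0, 0, 0, 1, 0],
  !![1, 1, 1, 0, 1, 1; 0, 1, 0, 0, 0, 0; 1, 0, 1, 0, 0, 1; 1, 1, 0, 1, 1, 1; 1, 1, 1, 0, 0, 0; 0, 0, 1, 0, 1, 0],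
  !![1, 0, 1, 1, 0, 1; 1, 1, 1, 0, 1, 0; 0, 1, 0, 1, 0, 1; 1, 1, 0, 1, 0, 1; 0, 1, 0, 0, 1, 0; 1, 0, 0, 1, 1, 0],
  !![0, 0, 1, 0, 0, 0; 0, 1, 0, 0, 0, 0; 1, 1, 0, 0, 0, 0; 0, 1, 1, 1, 0, 1; 0, 1, 0, 0, 1, 0; 0, 1, 0, 0, 1, 1],
  !![1, 0, 0, 1, 0, 0; 1, 1, 1, 0, 1, 0; 1, 1, 0, 1, 1, 0; 0, 1, 1, 1, 1, 1; 1, 1, 1, 0, 0, 0; 0, 0, 0, 1, 0, 1],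
  !![0, 1, 1, 1, 1, 0; 1, 1, 1, 0, 1, 0; 1, 0, 1, 1, 0, 1; 0, 1, 0, 1, 1, 0; 0, 1, 1, 0, 0, 1; 0, 0, 0, 1, 0, 1],
  !![0, 1, 0, 1, 0, 1; 1, 1, 1, 0, 1, 0; 1, 0, 1, 1, 0, 1; 1, 1, 0, 1, 0, 1; 0, 1, 0, 0, 1, 0; 1, 1, 0, 1, 0, 0],
  !![1, 1, 1, 0, 0, 1; 0, 1, 0, 0, 0, 0; 1, 1, 1, 0, 1, 1; 0, 1, 0, 1, 1, 0; 1, 0, 1, 0, 0, 0; 1, 0, 0, 0, 1, 0],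
  !![1, 0, 1, 0, 1, 1; 0, 1, 0, 0, 0, 0; 0, 1, 1, 0, 0, 0; 1, 1, 0, 1, 0, 1; 0, 1, 1, 0, 0, 1; 0, 0, 1, 0, 1, 0],
  !![1, 0, 1, 1, 1, 1; 1, 1, 1, 0, 1, 0; 1, 0, 1, 1, 0, 1; 0, 0, 0, 1, 0, 0; 1, 0, 1, 0, 0, 0; 0, 0, 1, 1, 1, 0],
  !![1, 0, 1, 1, 1, 1; 1, 1, 1, 0, 1, 0; 1, 0, 1, 1, 0, 1; 0, 1, 0, 1, 1, 0; 1, 0, 1, 0, 0, 0; 1, 1, 0, 1, 0, 0],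
  !![1, 1, 1, 0, 0, 1; 0, 1, 0, 0, 0, 0; 1, 1, 0, 0, 0, 0; 0, 1, 1, 1, 0, 1; 1, 0, 0, 0, 1, 1; 1, 0, 0, 0, 1, 0],
  !![0, 1, 0, 1, 0, 1; 1, 1, 1, 0, 1, 0; 1, 0, 1, 1, 0, 1; 0, 1, 1, 1, 0, 1; 0, 1, 0, 0, 1, 0; 0, 0, 1, 1, 1, 0],
  !![1, 0, 0, 1, 0, 0; 1, 1, 1, 0, 1, 0; 1, 0, 1, 1, 0, 1; 0, 0, 0, 1, 0, 0; 1, 0, 0, 0, 1, 1; 0, 0, 0, 1, 0, 1],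
  !![0, 1, 1, 1, 1, 0; 1, 1, 1, 0, 1, 0; 0, 0, 1, 1, 0, 0; 1, 1, 0, 1, 1, 1; 1, 1, 1, 0, 0, 0; 0, 0, 0, 1, 0, 1],
  !![1, 0, 0, 0, 0, 0; 0, 1, 0, 0, 0, 0; 0, 1, 1, 0, 0, 0; 1, 1, 0, 1, 0, 1; 0, 1, 0, 0, 1, 0; 0, 0, 0, 0, 0, 1],
  !![1, 0, 1, 1, 0, 1; 1, 1, 1, 0, 1, 0; 0, 1, 0, 1, 0, 1; 0, 1, 1, 1, 0, 1; 0, 1, 0, 0, 1, 0; 0, 1, 1, 1, 0, 0],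
  !![1, 0, 1, 0, 0, 1; 0, 1, 0, 0, 0, 0; 1, 1, 1, 0, 1, 1; 0, 1, 1, 1, 1, 1; 1, 1, 1, 0, 0, 0; 1, 0, 0, 0, 1, 0],
  !![1, 1, 1, 0, 1, 1; 0, 1, 0, 0, 0, 0; 0, 0, 1, 0, 0, 0; 0, 1, 0, 1, 1, 0; 0, 1, 1, 0, 0, 1; 0, 0, 1, 0, 1, 0],
  !![0, 1, 1, 0, 0, 0; 0, 1, 0, 0, 0, 0; 1, 0, 0, 0, 0, 0; 1, 1, 0, 1, 0, 1; 0, 1, 0, 0, 1, 0; 0, 1, 0, 0, 1, 1],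
  !![1, 0, 1, 1, 0, 1; 1, 1, 1, 0, 1, 0; 1, 0, 1, 1, 1, 1; 0, 1, 0, 1, 1, 0; 1, 0, 1, 0, 0, 0; 0, 1, 1, 1, 0, 0],
  !![1, 0, 1, 1, 0, 1; 1, 1, 1, 0, 1, 0; 0, 1, 1, 1, 1, 0; 1, 1, 0, 1, 0, 1; 0, 1, 1, 0, 0, 1; 1, 0, 0, 1, 1, 0],
  !![1, 0, 1, 0, 0, 1; 0, 1, 0, 0, 0, 0; 1, 0, 1, 0, 1, 1; 0, 0, 0, 1, 0, 0; 1, 0, 1, 0, 0, 0; 1, 0, 0, 0, 1, 0],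
  !![1, 0, 0, 0, 0, 0; 0, 1, 0, 0, 0, 0; 1, 0, 1, 0, 0, 1; 1, 1, 0, 1, 1, 1; 1, 0, 0, 0, 1, 1; 0, 1, 0, 0, 0, 1],
  !![1, 1, 1, 0, 0, 1; 0, 1, 0, 0, 0, 0; 1, 1, 1, 0, 1, 1; 1, 0, 1, 1, 1, 0; 1, 0, 1, 0, 0, 0; 1, 1, 0, 0, 1, 0],
  !![1, 0, 1, 0, 1, 1; 0, 1, 0, 0, 0, 0; 0, 0, 1, 0, 0, 0; 0, 1, 1, 1, 0, 1; 0, 0, 1, 0, 0, 1; 0, 1, 1, 0, 1, 0],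
  !![0, 1, 0, 1, 1, 1; 1, 1, 1, 0, 1, 0; 1, 0, 0, 1, 0, 0; 0, 1, 1, 1, 1, 1; 0, 1, 1, 0, 0, 1; 0, 1, 1, 1, 0, 0],
  !![1, 1, 0, 1, 1, 0; 1, 1, 1, 0, 1, 0; 1, 0, 0, 1, 0, 0; 0, 1, 1, 1, 0, 1; 1, 1, 1, 0, 0, 0; 0, 0, 0, 1, 1, 1],
  !![0, 0, 1, 0, 0, 0; 0, 1, 0, 0, 0, 0; 1, 1, 0, 0, 0, 0; 0, 1, 1, 1, 1, 1; 0, 1, 0, 0, 1, 0; 0, 0, 0, 0, 1, 1],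
  !![1, 0, 0, 0, 0, 0; 0, 1, 0, 0, 0, 0; 1, 1, 1, 0, 0, 1; 0, 1, 0, 1, 1, 0; 1, 1, 0, 0, 1, 1; 0, 1, 0, 0, 0, 1],
  !![1, 1, 1, 0, 0, 1; 0, 1, 0, 0, 0, 0; 1, 0, 1, 0, 1, 1; 1, 1, 0, 1, 0, 1; 1, 1, 1, 0, 0, 0; 1, 1, 0, 0, 1, 0],
  !![0, 1, 1, 0, 0, 0; 0, 1, 0, 0, 0, 0; 1, 0, 1, 0, 1, 1; 1, 1, 1, 1, 0, 0; 0, 1, 1, 0, 0, 1; 0, 0, 0, 0, 1, 1],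
  !![1, 1, 0, 0, 0, 0; 0, 1, 0, 0, 0, 0; 0, 0, 1, 0, 0, 0; 0, 1, 1, 1, 1, 1; 0, 1, 0, 0, 1, 0; 0, 1, 0, 0, 0, 1],
  !![0, 1, 1, 1, 1, 0; 1, 1, 1, 0, 1, 0; 0, 1, 0, 1, 1, 1; 1, 0, 1, 1, 1, 0; 1, 0, 0, 0, 1, 1; 1, 1, 1, 1, 1, 1],
  !![1, 1, 1, 0, 1, 1; 0, 1, 0, 0, 0, 0; 1, 1, 1, 0, 0, 1; 1, 0, 1, 1, 1, 0; 1, 0, 1, 0, 0, 0; 0, 1, 1, 0, 1, 0],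
  !![0, 1, 1, 1, 1, 0; 1, 1, 1, 0, 1, 0; 0, 1, 0, 1, 1, 1; 1, 1, 0, 1, 1, 1; 1, 0, 0, 0, 1, 1; 0, 0, 0, 1, 0, 1],
  !![0, 1, 0, 1, 0, 1; 1, 1, 1, 0, 1, 0; 0, 1, 0, 1, 1, 1; 1, 0, 1, 1, 1, 0; 1, 0, 1, 0, 0, 0; 1, 1, 0, 1, 0, 0],
  !![0, 1, 0, 1, 0, 1; 1, 1, 1, 0, 1, 0; 1, 1, 0, 1, 1, 0; 0, 1, 1, 1, 0, 1; 0, 0, 1, 0, 0, 1; 0, 0, 1, 1, 1, 0],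
  !![1, 1, 1, 0, 1, 1; 0, 1, 0, 0, 0, 0; 0, 0, 1, 0, 0, 0; 0, 1, 1, 1, 1, 1; 0, 1, 1, 0, 0, 1; 0, 1, 1, 0, 1, 0],
  !![1, 1, 1, 0, 0, 1; 0, 1, 0, 0, 0, 0; 1, 0, 1, 0, 1, 1; 0, 1, 1, 1, 0, 1; 1, 1, 1, 0, 0, 0; 1, 0, 0, 0, 1, 0],
  !![1, 0, 1, 1, 1, 1; 1, 1, 1, 0, 1, 0; 0, 1, 0, 1, 1, 1; 0, 1, 1, 1, 1, 1; 0, 1, 0, 0, 1, 0; 0, 0, 1, 1, 1, 0],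
  !![1, 0, 1, 1, 1, 1; 1, 1, 1, 0, 1, 0; 1, 1, 0, 1, 1, 0; 0, 1, 0, 1, 1, 0; 1, 1, 0, 0, 1, 1; 1, 1, 0, 1, 0, 0],
  !![0, 1, 1, 1, 1, 0; 1, 1, 1, 0, 1, 0; 0, 0, 1, 1, 0, 0; 1, 1, 0, 1, 0, 1; 1, 1, 1, 0, 0, 0; 1, 1, 1, 1, 1, 1],
  !![0, 1, 0, 1, 1, 1; 1, 1, 1, 0, 1, 0; 1, 0, 0, 1, 0, 0; 1, 1, 1, 1, 0, 0; 0, 1, 1, 0, 0, 1; 1, 0, 0, 1, 1, 0],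
  !![0, 1, 0, 1, 1, 1; 1, 1, 1, 0, 1, 0; 1, 0, 1, 1, 1, 1; 0, 1, 1, 1, 1, 1; 0, 1, 0, 0, 1, 0; 0, 1, 1, 1, 0, 0],
  !![1, 1, 1, 0, 0, 1; 0, 1, 0, 0, 0, 0; 1, 1, 0, 0, 0, 0; 1, 0, 1, 1, 1, 0; 1, 0, 0, 0, 1, 1; 1, 1, 0, 0, 1, 0],
  !![0, 1, 0, 1, 1, 1; 1, 1, 1, 0, 1, 0; 0, 1, 0, 1, 0, 1; 1, 0, 1, 1, 1, 0; 1, 0, 1, 0, 0, 0; 0, 1, 1, 1, 0, 0],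
  !![0, 0, 1, 1, 0, 0; 1, 1, 1, 0, 1, 0; 1, 0, 1, 1, 1, 1; 1, 1, 0, 1, 1, 1; 0, 0, 1, 0, 0, 1; 1, 1, 1, 1, 0, 1],
  !![0, 1, 1, 0, 0, 0; 0, 1, 0, 0, 0, 0; 1, 0, 1, 0, 1, 1; 1, 1, 0, 1, 0, 1; 0, 1, 1, 0, 0, 1; 0, 1, 0, 0, 1, 1],
  !![1, 1, 0, 0, 0, 0; 0, 1, 0, 0, 0, 0; 0, 1, 1, 0, 0, 0; 1, 1, 1, 1, 0, 0; 0, 0, 0, 0, 1, 0; 0, 0, 0, 0, 0, 1],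
  !![1, 0, 1, 0, 0, 1; 0, 1, 0, 0, 0, 0; 1, 1, 0, 0, 0, 0; 0, 1, 1, 1, 1, 1; 1, 1, 0, 0, 1, 1; 1, 0, 0, 0, 1, 0],
  !![0, 0, 1, 1, 0, 0; 1, 1, 1, 0, 1, 0; 0, 1, 0, 1, 0, 1; 1, 1, 1, 1, 0, 0; 1, 1, 0, 0, 1, 1; 1, 1, 1, 1, 0, 1],
  !![1, 1, 0, 1, 1, 0; 1, 1, 1, 0, 1, 0; 1, 0, 0, 1, 0, 0; 0, 1, 1, 1, 1, 1; 1, 1, 1, 0, 0, 0; 1, 1, 1, 1, 0, 1],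
  !![0, 1, 1, 0, 0, 0; 0, 1, 0, 0, 0, 0; 1, 1, 1, 0, 1, 1; 1, 0, 1, 1, 1, 0; 0, 0, 1, 0, 0, 1; 0, 1, 0, 0, 1, 1],
  !![1, 0, 0, 0, 0, 0; 0, 1, 0, 0, 0, 0; 1, 0, 1, 0, 0, 1; 0, 0, 0, 1, 0, 0; 1, 0, 0, 0, 1, 1; 0, 0, 0, 0, 0, 1],
  !![0, 1, 1, 0, 0, 0; 0, 1, 0, 0, 0, 0; 1, 1, 1, 0, 1, 1; 1, 1, 0, 1, 1, 1; 0, 0, 1, 0, 0, 1; 0, 0, 0, 0, 1, 1],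
  !![0, 1, 1, 1, 1, 0; 1, 1, 1, 0, 1, 0; 1, 0, 1, 1, 0, 1; 1, 1, 0, 1, 0, 1; 0, 1, 1, 0, 0, 1; 1, 1, 1, 1, 1, 1],
  !![1, 0, 0, 1, 0, 0; 1, 1, 1, 0, 1, 0; 0, 0, 1, 1, 0, 0; 1, 1, 1, 1, 0, 0; 0, 0, 0, 0, 1, 0; 1, 1, 1, 1, 1, 1],
  !![1, 0, 1, 1, 1, 1; 1, 1, 1, 0, 1, 0; 1, 1, 0, 1, 1, 0; 0, 1, 1, 1, 1, 1; 1, 1, 0, 0, 1, 1; 0, 0, 1, 1, 1, 0],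
  !![1, 0, 1, 0, 0, 1; 0, 1, 0, 0, 0, 0; 1, 1, 0, 0, 0, 0; 1, 1, 1, 1, 0, 0; 1, 1, 0, 0, 1, 1; 1, 1, 0, 0, 1, 0],
  !![1, 1, 1, 0, 1, 1; 0, 1, 0, 0, 0, 0; 1, 0, 1, 0, 0, 1; 0, 1, 1, 1, 1, 1; 1, 1, 1, 0, 0, 0; 0, 1, 1, 0, 1, 0],
  !![0, 1, 0, 1, 0, 1; 1, 1, 1, 0, 1, 0; 1, 1, 0, 1, 1, 0; 1, 0, 1, 1, 1, 0; 0, 0, 1, 0, 0, 1; 1, 1, 0, 1, 0, 0],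
  !![1, 0, 1, 1, 0, 1; 1, 1, 1, 0, 1, 0; 1, 0, 0, 1, 0, 0; 0, 0, 0, 1, 0, 0; 1, 0, 0, 0, 1, 1; 1, 0, 0, 1, 1, 0],
  !![1, 1, 0, 1, 1, 0; 1, 1, 1, 0, 1, 0; 0, 1, 1, 1, 1, 0; 0, 1, 0, 1, 1, 0; 0, 0, 0, 0, 1, 0; 0, 0, 0, 1, 1, 1],
  !![0, 0, 1, 1, 0, 0; 1, 1, 1, 0, 1, 0; 0, 1, 0, 1, 0, 1; 1, 1, 0, 1, 0, 1; 1, 1, 0, 0, 1, 1; 0, 0, 0, 1, 1, 1],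
  !![0, 0, 1, 0, 0, 0; 0, 1, 0, 0, 0, 0; 1, 0, 0, 0, 0, 0; 0, 0, 0, 1, 0, 0; 0, 0, 0, 0, 1, 0; 0, 0, 0, 0, 1, 1],
  !![0, 0, 1, 1, 0, 0; 1, 1, 1, 0, 1, 0; 1, 0, 1, 1, 1, 1; 0, 0, 0, 1, 0, 0; 0, 0, 1, 0, 0, 1; 0, 0, 0, 1, 1, 1],
  !![0, 0, 1, 0, 0, 0; 0, 1, 0, 0, 0, 0; 1, 0, 0, 0, 0, 0; 0, 1, 0, 1, 1, 0; 0, 0, 0, 0, 1, 0; 0, 1, 0, 0, 1, 1],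
  !![1, 0, 0, 0, 0, 0; 0, 1, 0, 0, 0, 0; 1, 1, 1, 0, 0, 1; 1, 1, 0, 1, 0, 1; 1, 1, 0, 0, 1, 1; 0, 0, 0, 0, 0, 1],
  !![1, 0, 0, 1, 0, 0; 1, 1, 1, 0, 1, 0; 0, 0, 1, 1, 0, 0; 0, 0, 0, 1, 0, 0; 0, 0, 0, 0, 1, 0; 0, 0, 0, 1, 0, 1],
  !![1, 0, 1, 0, 1, 1; 0, 1, 0, 0, 0, 0; 0, 0, 1, 0, 0, 0; 0, 0, 0, 1, 0, 0; 0, 0, 1, 0, 0, 1; 0, 0, 1, 0, 1, 0],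
  !![1, 1, 0, 1, 1, 0; 1, 1, 1, 0, 1, 0; 0, 1, 1, 1, 1, 0; 1, 0, 1, 1, 1, 0; 0, 0, 0, 0, 1, 0; 1, 1, 1, 1, 0, 1],
  !![1, 1, 0, 0, 0, 0; 0, 1, 0, 0, 0, 0; 0, 1, 1, 0, 0, 0; 1, 0, 1, 1, 1, 0; 0, 0, 0, 0, 1, 0; 0, 1, 0, 0, 0, 1]]

/-- Matrix table. -/
def matS (i : Fin 128) : Matrix (Fin 6) (Fin 6) (ZMod 2) := matSArr.getD i.val 0

/-- Generators. -/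
def genS (s : Fin 3) : Matrix (Fin 6) (Fin 6) (ZMod 2) := ![!![0, 0, 1, 1, 0, 0; 1, 1, 1, 0, 1, 0; 1, 0, 0, 1, 0, 0; 0, 0, 0, 1, 0, 0; 0, 0, 0, 0, 1, 0; 0, 0, 0, 1, 1, 1], !![1, 1, 1, 0, 1, 1; 0, 1, 0, 0, 0, 0; 0, 1, 1, 0, 0, 0; 1, 0, 1, 1, 1, 0; 0, 0, 1, 0, 0, 1; 0, 1, 1, 0, 1, 0], !![0, 1, 1, 0, 0, 0; 0, 1, 0, 0, 0, 0; 1, 1, 0, 0, 0, 0; 1, 1, 1, 1, 0, 0; 0, 0, 0, 0, 1, 0; 0, 0, 0, 0, 1, 1]] s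

/-- The form. -/
def qf (v : Fin 6 → ZMod 2) : ZMod 2 := v 0 * v 2 + v 1 * v 3 + (v 4 ^ 2 + v 4 * v 5 + v 5 ^ 2)

set_option maxHeartbeats 4000000 in
theorem matS_step : ∀ s i, matS i * genS s = matS (nxS s i) := by decide +kernel

set_option maxHeartbeats 4000000 in
theorem genS_eq : matS 0 = 1 ∧ ∀ s, ∀ v, qf ((genS s).mulVec v) = qf v := by decide +kernel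

theorem genS_inv : ∀ s, genS s * (genS s * (genS s * genS s)) = 1 := by decide +kernel

end Cfsg.Agent.Lib.Recog.SylowS8
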